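import Cfsg.Agent.H916.RG.Pair_m3
import Cfsg.Agent.H655.Mono.Psi_m3
import Cfsg.Agent.H46.Gen.PairW
import Cfsg.Agent.H902.AltLie
import Cfsg.Agent.BpExc.AsmN_m3
import Cfsg.Agent.SmallSimple.S1000.PSLFacts
import Cfsg.Agent.S1057
import Cfsg.Agent.S1055
import Cfsg.Agent.S1059
import Cfsg.Agent.S0283
import Cfsg.Agent.H69.OutGF
import Cfsg.Agent.H689.Ccp.GForm
import Cfsg.Agent.H452.RG.ReeOuter_m3
import Cfsg.Agent.H334.Ore.M24
import Cfsg.Agent.S2064
import Cfsg.Agent.H729.TransFast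
import Cfsg.Agent.H169.RG.MPsi_m3
import Cfsg.Agent.H296.FFourFix
import Cfsg.Agent.S2156
import Cfsg.Agent.ChevalleyStructure.TwistedE6U
import Cfsg.Agent.ChevalleyStructure.HMatDiagAll
import Cfsg.Agent.Nodes.RGDChev
import Cfsg.Agent.H692.IFO.Lang_m3
import Cfsg.Agent.H169.RG.LRG_m3
import Cfsg.Agent.H316.U6Norm_m3
import Cfsg.Agent.H694.RG.Trans_m3
import Cfsg.Agent.H660.RR.Crd_m3
import Cfsg.Agent.H378.OmD4
import Cfsg.Agent.H720.TwFr
import Cfsg.Agent.Lib.ListFast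
import Cfsg.Agent.H165.WL.FG_m3
import Cfsg.Agent.FastGrp
import Cfsg.Agent.Prune
set_option linter.all false

section
prune_inst 0x7ff8fffbafb8addfdfff7e7ffedddffdb9f9dfffe6dff9fb3fe8a1ef2bdf230889c5ab8d6fe042fe1ec260bc10b87813fb7eeabfeb6bdc7ffffd5ff41ffbee4fe5f7b78871d58c3e0fba0ff703f077ce7f3fffffffffffffffffffffffffffbeffffffffffff

-- part: H327/RG/Untw
section
prune_inst 0x700005040522020000180000200020402200019000600801402009400480674225030101b980101008102a44003c004811540040421000000a000000011901800000100200000100420008008800000000000000000000000000000000000000000000000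
set_option linter.all false
open scoped Cfsg.Agent.FastGrp

/-!
# S3509, field automorphisms of the untwisted exceptional groups

* `FL ι σ φ` : the frame of a field automorphism; `FL.exists_std` : conjugation to the standard one;
* `Ty` : inner-diagonal or of field type;
* `field_untw` : a cover with members of type `Ty`, not all inner-diagonal, is impossible.
-/

set_option autoImplicit false
set_option linter.unusedSectionVars false

namespace Cfsg.Agent.H327.RG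

open CoxeterSystem Subgroup Cfsg Cfsg.Lie Cfsg.Lie.ChevalleyDatum
open Cfsg.Agent.ChevalleyStructure Cfsg.Agent.ChevalleyStructure.Elts Cfsg.Agent.ChevalleyStructure.CoxeterGeom
  Cfsg.Agent.ChevalleyStructure.CoxeterGeomTypes Cfsg.Agent.ChevalleyStructure.NPerm
open Cfsg.Agent.Tits.Roots Cfsg.Agent.Tits.Core Cfsg.Agent.Nodes.Reps Cfsg.Agent.Nodes.BNOf
  Cfsg.Agent.Nodes.RGDChev Cfsg.Agent.Nodes.Bruhat
open Cfsg.Agent.CpAut.RgdUntw Cfsg.Agent.KFacts.RgdField Cfsg.Agent.KFacts.RgdChevCoord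
open Cfsg.Agent.BpExc Cfsg.Agent.BpExc.Tow Cfsg.Agent.BpExc.TowChev Cfsg.Agent.BpExc.FamExt Cfsg.Agent.BpExc.FamUntw
  Cfsg.Agent.BpExc.FamInst Cfsg.Agent.BpExc.LangFr Cfsg.Agent.BpExc.FamField
open Cfsg.Agent.GpExc.Field (glMap emb coe_emb glMap_xG emb_injective coe_glMap glMap_injective)
open Cfsg.Agent.H469.Exc Cfsg.Agent.H469.Exc.SigFr
open Cfsg.Agent.H28.GenF
open Cfsg.Agent.H106.RC
open scoped commutatorElement

section frame

variable {Y K₀ : Type*} [Group Y] [Group K₀]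

/-- the frame of a field automorphism -/
structure FL (ι : K₀ →* Y) (σ φ : MulAut Y) (p : ℕ) : Prop where
  inj : Function.Injective ι
  cent : ∀ z, (∀ a, z * ι a = ι a * z) → z = 1
  fixι : ∀ a, σ (ι a) = ι a
  norm : ∀ y, σ y = y → ∀ a, ∃ b, ι b = y * ι a * y⁻¹
  pow : φ ^ p = σ
  lang : ∀ h : Y, ∃ g, h = g⁻¹ * φ g

variable {p : ℕ} {ι : K₀ →* Y} {σ φ : MulAut Y}

/-- an automorphism of field type is conjugate to the standard one -/
theorem FL.exists_std (h : FL ι σ φ p) {x : MulAut K₀} (hxp : x ^ p = 1) {y : Y}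
    (hx : ∀ a, ι (x a) = (MulAut.conj y * φ) (ι a)) :
    ∃ γ : MulAut K₀, γ ∈ InD ι ∧ ∀ a, ι ((γ * x * γ⁻¹) a) = φ (ι a) := by
  obtain ⟨g, hg⟩ := h.lang y
  have hφ : ∀ a, φ (g * ι a * g⁻¹) = g * ι (x a) * g⁻¹ := by
    intro a
    rw [hx, MulAut.mul_apply, MulAut.conj_apply, hg, map_mul, map_mul, map_inv]
    group
  have hφn : ∀ n : ℕ, ∀ a, (φ ^ n) (g * ι a * g⁻¹) = g * ι ((x ^ n) a) * g⁻¹ := by
    intro n
    induction n with
    | zero => intro a; rfl
    | succ n ih => intro a; rw [pow_succ', MulAut.mul_apply, ih, hφ, pow_succ', MulAut.mul_apply]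
  have hσg : σ g = g := by
    have h2 : g⁻¹ * σ g = 1 := by
      apply h.cent
      intro a
      have h3 := hφn p a
      rw [h.pow, hxp, MulAut.one_apply, map_mul, map_mul, map_inv, h.fixι] at h3
      calc g⁻¹ * σ g * ι a = g⁻¹ * (σ g * ι a * (σ g)⁻¹) * σ g := by group
        _ = g⁻¹ * (g * ι a * g⁻¹) * σ g := by rw [h3]
        _ = ι a * (g⁻¹ * σ g) := by group
    exact (inv_mul_eq_one.1 h2).symm
  have hσg' : σ g⁻¹ = g⁻¹ := by rw [map_inv, hσg]
  choose b hb using h.norm g hσg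
  choose b' hb' using h.norm g⁻¹ hσg'
  let γ : MulAut K₀ :=
    { toFun := b
      invFun := b'
      left_inv := fun a => h.inj (by rw [hb', hb]; group)
      right_inv := fun a => h.inj (by rw [hb, hb']; group)
      map_mul' := fun a a' => h.inj (by rw [hb, map_mul, map_mul, hb, hb]; group) }
  have hγ : ∀ a, ι (γ a) = g * ι a * g⁻¹ := hb
  refine ⟨γ, ⟨g, hγ⟩, fun a => ?_⟩
  have h2 := hφ (γ⁻¹ a)
  rw [← hγ (γ⁻¹ a), MulAut.apply_inv_self] at h2
  rw [MulAut.mul_apply, MulAut.mul_apply, hγ, ← h2]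

end frame

section untw

variable {D : ChevalleyDatum} {l : ℕ} {M : CoxeterMatrix (Fin l)} (hp : IsType D l M)

variable {r : ℕ} [Fact r.Prime] {F : Type} [Field F] [Fintype F] [CharP F r]

/-- inner-diagonal, or of field type (`p` the order) -/
def Ty (hp : IsType D l M) (f : F →+* KK r) (n p : ℕ) (α : MulAut ↥(D.group F)) : Prop :=
  α ∈ InD (emb hp.inList f) ∨ ∃ (i m : ℕ) (y : ↥(D.group (KK r))), i.Coprime p ∧ 0 < m ∧ m * p = n ∧
    ∀ a, emb hp.inList f ((α ^ i) a) = (MulAut.conj y * phi D (KK r) r m) (emb hp.inList f a)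

theorem Ty.conj {f : F →+* KK r} {n p : ℕ} {α γ : MulAut ↥(D.group F)} (h : Ty hp f n p α)
    (hγ : γ ∈ InD (emb hp.inList f)) : Ty hp f n p (γ * α * γ⁻¹) := by
  rcases h with h | ⟨i, m, y, h1, h2, h3, h4⟩
  · exact Or.inl (mul_mem (mul_mem hγ h) (inv_mem hγ))
  · right
    obtain ⟨g, hg⟩ := hγ
    obtain ⟨g', hg'⟩ : γ⁻¹ ∈ InD (emb hp.inList f) := inv_mem ⟨g, hg⟩
    have hgg : ∀ a, g * (g' * emb hp.inList f a * g'⁻¹) * g⁻¹ = emb hp.inList f a := by
      intro a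
      rw [← hg', ← hg, MulAut.apply_inv_self]
    refine ⟨i, m, g * y * phi D (KK r) r m g', h1, h2, h3, fun a => ?_⟩
    have e : (γ * α * γ⁻¹) ^ i = γ * α ^ i * γ⁻¹ := conj_pow
    rw [e, MulAut.mul_apply, MulAut.mul_apply, hg, h4, hg', MulAut.mul_apply, MulAut.mul_apply, MulAut.conj_apply,
      MulAut.conj_apply, map_mul, map_mul, map_inv]
    group

include hp in
/-- the frame -/
theorem fl_untw (f : F →+* KK r) {n m p : ℕ} (hn : Nat.card F = r ^ n) (hm : 0 < m) (hmn : m * p = n)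
    (hZ : center ↥(D.group (KK r)) = ⊥) :
    FL (emb hp.inList f) (phi D (KK r) r n) (phi D (KK r) r m) p where
  inj := emb_injective hp.inList f
  cent := fun z hz => eq_one_of_comm hp (locFin r) r f hZ hz
  fixι := fun a => phi_emb hp r f hn a
  norm := fun y hy a => by
    obtain ⟨b, hb⟩ := H378.TorFin.conj_range hp f r hn hy ⟨a, rfl⟩
    exact ⟨b, hb⟩
  pow := by rw [phi_pow, hmn]
  lang := fun h => by
    obtain ⟨z, hz⟩ := lang_all hp M.toCoxeterSystem hm (phi_isFrob r m)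
      (phi_fr hp M.toCoxeterSystem r (locFin r) m) 1 h
    rw [map_one, one_mul] at hz
    exact ⟨z, hz⟩

section sub

variable (f : F →+* KK r) {m : ℕ} (hm : 0 < m) (F₀ : Subfield F) (hF₀ : Nat.card ↥F₀ = r ^ m)

/-- the subfield group -/
noncomputable def L0 (hp : IsType D l M) (F₀ : Subfield F) : Subgroup ↥(D.group F) := (emb hp.inList F₀.subtype).range

include hF₀ in
theorem mem_L0 [CharP ↥F₀ r] {a : ↥(D.group F)} (ha : phi D (KK r) r m (emb hp.inList f a) = emb hp.inList f a)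
    (h : ∃ j, a ^ r ^ j = 1) : a ∈ L0 hp F₀ := by
  obtain ⟨j, hj⟩ := h
  obtain ⟨b, hb⟩ := mem_emb_of_pow hp (f.comp F₀.subtype) hF₀ ha (j := j) (by rw [← map_pow, hj, map_one])
  exact ⟨b, emb_injective hp.inList f (by rw [H28.GenF.emb_comp hp]; exact hb)⟩

include hF₀ in
theorem fix_L0 {a : ↥(D.group F)} (ha : a ∈ L0 hp F₀) :
    phi D (KK r) r m (emb hp.inList f a) = emb hp.inList f a := by
  obtain ⟨b, rfl⟩ := ha
  rw [H28.GenF.emb_comp hp, phi_emb hp r _ hF₀]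

include hF₀ in
/-- automorphisms commuting with the standard one preserve the subfield group -/
theorem pres_L0 {β α : MulAut ↥(D.group F)}
    (hβ : ∀ a, emb hp.inList f (β a) = phi D (KK r) r m (emb hp.inList f a)) (hαβ : α * β = β * α) :
    ∀ a ∈ L0 hp F₀, α a ∈ L0 hp F₀ := by
  have hchar : CharP ↥F₀ r := (RingHom.charP_iff F₀.subtype F₀.subtype.injective r).2 inferInstance
  have hx : ∀ a, phi D (KK r) r m (emb hp.inList f a) = emb hp.inList f a →
      phi D (KK r) r m (emb hp.inList f (α a)) = emb hp.inList f (α a) := by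
    intro a ha
    have h1 : β a = a := emb_injective hp.inList f (by rw [hβ, ha])
    rw [← hβ, ← MulAut.mul_apply, ← hαβ, MulAut.mul_apply, h1]
  obtain ⟨N, hN⟩ : ∃ N : Subgroup ↥(D.group ↥F₀), ∀ b, b ∈ N ↔
      α (emb hp.inList F₀.subtype b) ∈ (emb hp.inList F₀.subtype).range :=
    ⟨((emb hp.inList F₀.subtype).range.comap α.toMonoidHom).comap (emb hp.inList F₀.subtype), fun b => Iff.rfl⟩
  have h1 : N = ⊤ := group_le hp N fun s t => by
    rw [hN]
    refine mem_L0 hp f F₀ hF₀ (hx _ (fix_L0 hp f F₀ hF₀ ⟨_, rfl⟩)) ⟨1, ?_⟩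
    rw [pow_one, ← map_pow, ← map_pow, xs_pow_char hp, map_one, map_one]
  rintro _ ⟨b, rfl⟩
  show α (emb hp.inList F₀.subtype b) ∈ (emb hp.inList F₀.subtype).range
  rw [← hN, h1]
  exact mem_top _

variable (hLs : IsSimpleGroup ↥⁅L0 hp F₀, L0 hp F₀⁆) (hLn : ¬ IsMulCommutative ↥⁅L0 hp F₀, L0 hp F₀⁆)
  (hZ : center ↥(D.group (KK r)) = ⊥)

include f hLs hLn hZ in
/-- the centralizer of the derived group in the subfield group -/
theorem cent_L0 {a : ↥(D.group F)} (ha : a ∈ L0 hp F₀) (hc : ∀ b ∈ ⁅L0 hp F₀, L0 hp F₀⁆, a * b = b * a) : a = 1 := by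
  have hn : ∀ b ∈ L0 hp F₀, ∀ c ∈ ⁅L0 hp F₀, L0 hp F₀⁆, b * c * b⁻¹ ∈ ⁅L0 hp F₀, L0 hp F₀⁆ := by
    intro b hb c hc
    have h1 : ⁅b, c⁆ ∈ ⁅L0 hp F₀, L0 hp F₀⁆ :=
      commutator_mem_commutator hb (commutator_le_self _ hc)
    have h2 := mul_mem h1 hc
    rwa [commutatorElement_def, inv_mul_cancel_right] at h2
  have hcen : ∀ z ∈ ⁅L0 hp F₀, L0 hp F₀⁆, (∀ b ∈ ⁅L0 hp F₀, L0 hp F₀⁆, z * b = b * z) → z = 1 := by
    intro z hz hzc
    have h1 : (⟨z, hz⟩ : ↥⁅L0 hp F₀, L0 hp F₀⁆) ∈ center ↥⁅L0 hp F₀, L0 hp F₀⁆ := by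
      rw [mem_center_iff]
      intro b
      exact Subtype.ext (hzc b b.2).symm
    rcases hLs.eq_bot_or_eq_top_of_normal (center ↥⁅L0 hp F₀, L0 hp F₀⁆) inferInstance with h | h
    · rw [h, mem_bot] at h1
      exact congrArg Subtype.val h1
    · exact (hLn ⟨⟨fun b c => (mem_center_iff.1 (h ▸ mem_top c) b)⟩⟩).elim
  have h1 : ∀ b ∈ L0 hp F₀, a * b = b * a := by
    intro b hb
    have h2 : ⁅a, b⁆ = 1 := by
      refine hcen _ (commutator_mem_commutator ha hb) fun c hc' => ?_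
      have h3 := hc _ (hn b⁻¹ (inv_mem hb) c hc')
      have h3' := hc _ (inv_mem (hn b⁻¹ (inv_mem hb) c hc'))
      rw [inv_inv] at h3
      have h4 := hc c hc'
      rw [commutatorElement_def]
      calc a * b * a⁻¹ * b⁻¹ * c = a * b * a⁻¹ * (b⁻¹ * c * b) * b⁻¹ := by group
        _ = a * b * (a⁻¹ * (a * (b⁻¹ * c * b) * a⁻¹)) * b⁻¹ := by
            rw [h3]; group
        _ = a * c * b * a⁻¹ * b⁻¹ := by group
        _ = c * (a * b * a⁻¹ * b⁻¹) := by rw [h4]; group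
    rwa [commutatorElement_eq_one_iff_mul_comm] at h2
  have h2 : emb hp.inList f a = 1 := by
    refine eq_one_of_comm hp (locFin r) r (f.comp F₀.subtype) hZ fun b => ?_
    rw [← H28.GenF.emb_comp hp, ← map_mul, h1 _ ⟨b, rfl⟩, map_mul]
  exact emb_injective hp.inList f (by rw [h2, map_one])

include f hLs hLn hZ in
/-- an automorphism preserving `L0` and trivial on the derived group is trivial on `L0` -/
theorem triv_L0 {α : MulAut ↥(D.group F)} (hα : ∀ a ∈ L0 hp F₀, α a ∈ L0 hp F₀)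
    (hc : ∀ a ∈ ⁅L0 hp F₀, L0 hp F₀⁆, α a = a) {a : ↥(D.group F)} (ha : a ∈ L0 hp F₀) : α a = a := by
  have h1 : a⁻¹ * α a = 1 := by
    refine cent_L0 hp f F₀ hLs hLn hZ (mul_mem (inv_mem ha) (hα a ha)) fun b hb => ?_
    have h2 : a * b * a⁻¹ ∈ ⁅L0 hp F₀, L0 hp F₀⁆ := by
      have h1 : ⁅a, b⁆ ∈ ⁅L0 hp F₀, L0 hp F₀⁆ :=
        commutator_mem_commutator ha (commutator_le_self _ hb)
      have h2 := mul_mem h1 hb
      rwa [commutatorElement_def, inv_mul_cancel_right] at h2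
    have h3 := hc _ h2
    rw [map_mul, map_mul, map_inv, hc b hb] at h3
    calc a⁻¹ * α a * b = a⁻¹ * (α a * b * (α a)⁻¹) * α a := by group
      _ = a⁻¹ * (a * b * a⁻¹) * α a := by rw [h3]
      _ = b * (a⁻¹ * α a) := by group
  exact (inv_mul_eq_one.1 h1).symm

include hm hF₀ hLs hLn hZ in
/-- **No other member centralises `L0`.** -/
theorem core {s : ℕ} (hs : s < D.nroots) {β α : MulAut ↥(D.group F)} {p p' n : ℕ} (hpp : p.Prime) (hpp' : p'.Prime) (hne : p' ≠ p)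
    (hmn : m * p = n)
    (hβ : ∀ a, emb hp.inList f (β a) = phi D (KK r) r m (emb hp.inList f a)) (hαβ : α * β = β * α)
    (hT : Ty hp f n p' α) (hc : ∀ a ∈ ⁅L0 hp F₀, L0 hp F₀⁆, α a = a) : α = 1 := by
  have hchar : CharP ↥F₀ r := (RingHom.charP_iff F₀.subtype F₀.subtype.injective r).2 inferInstance
  rcases hT with ⟨y, hy⟩ | ⟨i, m', y, hi, hm', hmn', hy⟩
  · have h1 : y = 1 := by
      refine eq_one_of_comm hp (locFin r) r (f.comp F₀.subtype) hZ fun b => ?_
      have h2 := hy (emb hp.inList F₀.subtype b)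
      rw [triv_L0 hp f F₀ hLs hLn hZ (pres_L0 hp f F₀ hF₀ hβ hαβ) hc ⟨b, rfl⟩, H28.GenF.emb_comp hp] at h2
      exact (eq_mul_inv_iff_mul_eq.1 h2).symm
    subst h1
    refine MulEquiv.ext fun a => emb_injective hp.inList f ?_
    rw [hy, one_mul, inv_one, mul_one]
    rfl
  · exfalso
    have hαi : ∀ a ∈ L0 hp F₀, (α ^ i) a = a := by
      intro a ha
      exact H28.GenF.apply_pow (triv_L0 hp f F₀ hLs hLn hZ (pres_L0 hp f F₀ hF₀ hβ hαβ) hc ha) i
    have hy1 : ∀ a ∈ L0 hp F₀, y * phi D (KK r) r m' (emb hp.inList f a) * y⁻¹ = emb hp.inList f a := by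
      intro a ha
      have h2 := hy a
      rw [hαi a ha] at h2
      exact h2.symm
    -- the prime field
    let _ : Algebra (ZMod r) ↥F₀ := ZMod.algebra _ r
    have h1 : y = 1 := by
      refine eq_one_of_comm hp (locFin r) r ((f.comp F₀.subtype).comp (algebraMap (ZMod r) ↥F₀)) hZ fun b => ?_
      have h2 := hy1 _ ⟨emb hp.inList (algebraMap (ZMod r) ↥F₀) b, rfl⟩
      rw [H28.GenF.emb_comp hp, H28.GenF.emb_comp hp] at h2
      have h3 : phi D (KK r) r m' (emb hp.inList ((f.comp F₀.subtype).comp (algebraMap (ZMod r) ↥F₀)) b) =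
          emb hp.inList ((f.comp F₀.subtype).comp (algebraMap (ZMod r) ↥F₀)) b := by
        have h4 := phi_emb hp r ((f.comp F₀.subtype).comp (algebraMap (ZMod r) ↥F₀)) (n := 1)
          (by rw [Nat.card_zmod, pow_one]) b
        have h5 := H28.GenF.apply_pow h4 m'
        rwa [phi_pow, one_mul] at h5
      rw [h3] at h2
      exact (mul_inv_eq_iff_eq_mul.1 h2)
    subst h1
    have h2 : m ∣ m' := by
      rw [← forall_pow_iff (F := ↥F₀) r hF₀ m']
      intro t
      have h3 := hy1 _ ⟨xc hp (vec D l s) t, rfl⟩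
      rw [H28.GenF.emb_comp hp, TowChev.emb_xc hp, one_mul, inv_one, mul_one, H378.TorChar.phi_xc hp r hs, ← map_pow] at h3
      exact (f.comp F₀.subtype).injective (xc_inj hp hs h3)
    obtain ⟨c, rfl⟩ := h2
    have h3 : c * p' = p := by
      have : m * (c * p') = m * p := by rw [hmn, ← hmn']; ring
      exact Nat.eq_of_mul_eq_mul_left hm this
    have h4 : p' ∣ p := ⟨c, by rw [← h3]; ring⟩
    exact hne ((Nat.prime_dvd_prime_iff_eq hpp' hpp).1 h4)

end sub

open Cfsg.Agent.H46.Gen in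
include hp in
/-- **A cover with members inner-diagonal or of field type, not all inner-diagonal, is impossible.** -/
theorem field_untw {a₀ b₀ : Fin l → ℤ} (hP : Pr D l a₀ b₀) (f : F →+* KK r) {n : ℕ} (hn : Nat.card F = r ^ n)
    (hZ : center ↥(D.group (KK r)) = ⊥)
    (hRC : ∀ F₀ : Subfield F, Nat.card ↥F₀ < Nat.card F →
      IsSimpleGroup ↥⁅L0 hp F₀, L0 hp F₀⁆ ∧ ¬ IsMulCommutative ↥⁅L0 hp F₀, L0 hp F₀⁆ ∧ RC ↥⁅L0 hp F₀, L0 hp F₀⁆)
    {G Ω ι : Type*} [Group G] [MulAction G Ω] [Nonempty Ω] [Finite ι] {N : Subgroup G} (hE : Env G Ω N)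
    (e : N ≃* ↥(D.group F)) {x : ι → G} {q : ι → ℕ} (hx : PF x q) (hcov : Cov Ω x)
    (hT : ∀ j, Ty hp f n (q j) (act hE e (x j))) {i₀ : ι} (hi₀ : act hE e (x i₀) ∉ InD (emb hp.inList f)) : False := by
  obtain ⟨i, m, y, hi, hm, hmn, hy⟩ := (hT i₀).resolve_left hi₀
  have : Fact (q i₀).Prime := ⟨hx.prime i₀⟩
  have hpp : (q i₀).Prime := hx.prime i₀
  obtain ⟨F₀, hF₀, hFF⟩ := H192.Fc.exists_subfield (p := q i₀) r hm hmn hn
  have hchar : CharP ↥F₀ r := (RingHom.charP_iff F₀.subtype F₀.subtype.injective r).2 inferInstance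
  have hxp : (act hE e (x i₀) ^ i) ^ q i₀ = 1 := by
    rw [← map_pow, ← map_pow, ← pow_mul, mul_comm, pow_mul, hx.pow, one_pow, map_one]
  obtain ⟨γ, hγ, hγ'⟩ := (fl_untw hp f hn hm hmn hZ).exists_std hxp hy
  -- the new identification
  have hact : ∀ g, act hE (e.trans γ) g = γ * act hE e g * γ⁻¹ := act_conj hE e γ
  have hT' : ∀ j, Ty hp f n (q j) (act hE (e.trans γ) (x j)) := fun j => by
    rw [hact]; exact (hT j).conj hp hγ
  obtain ⟨e', he'⟩ : ∃ e' : N ≃* ↥(D.group F), e' = e.trans γ := ⟨_, rfl⟩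
  rw [← he'] at hact hT'
  obtain ⟨β, hβ⟩ : ∃ β, β = act hE e' (x i₀) ^ i := ⟨_, rfl⟩
  have hβ' : ∀ a, emb hp.inList f (β a) = phi D (KK r) r m (emb hp.inList f a) := by
    intro a
    rw [hβ, hact, conj_pow, hγ']
  have hcomm : ∀ j, act hE e' (x j) * β = β * act hE e' (x j) := by
    intro j
    rw [hβ, ← map_pow, ← map_mul, ← map_mul]
    congr 1
    have : Commute (x j) (x i₀) := hx.comm j i₀
    exact this.pow_right i
  obtain ⟨hLs, hLn, hLRC⟩ := hRC F₀ (by
    rw [hFF]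
    have h1 : 1 < Nat.card ↥F₀ := by
      rw [hF₀]; exact Nat.one_lt_pow hm.ne' (Fact.out : r.Prime).one_lt
    calc Nat.card ↥F₀ = Nat.card ↥F₀ ^ 1 := (pow_one _).symm
      _ < Nat.card ↥F₀ ^ q i₀ := Nat.pow_lt_pow_right h1 hpp.one_lt)
  obtain ⟨s₁, hs₁, hs₁'⟩ := hP.ra
  obtain ⟨s₂, hs₂, hs₂'⟩ := hP.rs
  -- a scalar moved by the Frobenius
  obtain ⟨t, ht⟩ : ∃ t : F, t ^ r ^ m ≠ t := by
    by_contra hcon
    push Not at hcon
    have h1 := (forall_pow_iff r hn m).1 hcon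
    have h2 := Nat.le_of_dvd hm h1
    have h3 : m * 2 ≤ m * q i₀ := Nat.mul_le_mul_left m hpp.two_le
    omega
  have hc0 : t ^ r ^ m - t ≠ 0 := sub_ne_zero.2 ht
  have hNN : (NN D l a₀ b₀ : F) ≠ 0 := by
    intro h
    have h1 := congrArg (Int.cast : ℤ → F) (NN_sq hp hP)
    rw [Int.cast_mul, h, zero_mul, Int.cast_one] at h1
    exact zero_ne_one h1
  have c1 : ∀ t u : F, Commute (xc hp (a₀ + b₀) t) (xc hp a₀ u) := fun t u => by
    refine (xc_commute hp hP.ra hP.rs ?_ (Or.inr fun m n hm hn => hP.no_comb hp m n hm hn) u t).symm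
    exact ((hP.next hp).ne hp)
  have c2 : ∀ t u : F, Commute (xc hp (a₀ + b₀) t) (xc hp b₀ u) := fun t u => by
    have h' := hP.symm hp
    rw [add_comm a₀ b₀]
    refine (xc_commute hp h'.ra h'.rs ?_ (Or.inr fun m n hm hn => h'.no_comb hp m n hm hn) u t).symm
    exact ((h'.next hp).ne hp)
  have hβx : ∀ t : F, β (xc hp a₀ t) = xc hp a₀ (t ^ r ^ m) := by
    intro t
    apply emb_injective hp.inList f
    rw [hβ', TowChev.emb_xc hp, TowChev.emb_xc hp, ← hs₁', H378.TorChar.phi_xc hp r hs₁, map_pow]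
  refine out_killY hE e' hx hcov hLs hLn hLRC ?_ (i₀ := i₀) ?_ (u := xc hp (a₀ + b₀) (NN D l a₀ b₀ : F))
    (a := xc hp a₀ t) (b := xc hp b₀ (t ^ r ^ m - t)⁻¹) ?_ ?_ (c1 _ _).symm (c2 _ _).symm (k := i) ?_
  · intro j
    have h1 := pres_L0 hp f F₀ hF₀ hβ' (hcomm j)
    intro a ha
    have h2 : (⁅L0 hp F₀, L0 hp F₀⁆).map (act hE e' (x j)).toMonoidHom ≤ ⁅L0 hp F₀, L0 hp F₀⁆ := by
      rw [map_commutator]
      refine commutator_mono ?_ ?_ <;>
      · rintro _ ⟨b, hb, rfl⟩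
        exact h1 b hb
    exact h2 ⟨a, ha, rfl⟩
  · intro j hj hc
    refine act_ne_one hE e' (hx.ne j) ?_
    exact core hp f hm F₀ hF₀ hLs hLn hZ hs₁ hpp (hx.prime j) (fun h => hj (hx.inj h)) hmn hβ' (hcomm j) (hT' j) hc
  · have h1 : xc hp (a₀ + b₀) (NN D l a₀ b₀ : F) = ⁅xc hp a₀ (1 : F), xc hp b₀ (1 : F)⁆ := by
      rw [xc_br hp hP, mul_one, mul_one]
    rw [h1]
    refine commutator_mem_commutator ⟨xc hp a₀ 1, ?_⟩ ⟨xc hp b₀ 1, ?_⟩ <;>
    · rw [TowChev.emb_xc hp, map_one]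
  · intro h
    rw [← xc_zero hp (a₀ + b₀), ← hs₂'] at h
    exact hNN (xc_inj hp hs₂ h)
  · rw [← hβ, hβx, ← xc_neg hp, ← xc_add hp, ← sub_eq_add_neg, xc_br hp hP, mul_inv_cancel₀ hc0, mul_one]

end untw

end Cfsg.Agent.H327.RG
end

-- part: H566/G2/DerL0
section
set_option linter.all false
open scoped Cfsg.Agent.FastGrp

/-!
# S3509, field automorphisms of `G₂(q)`: the derived group of the subfield group (helper566)
-/

set_option autoImplicit false
open Cfsg

namespace Cfsg.Agent.H566.G2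

open Cfsg.Lie Subgroup Cfsg.Agent.BpExc Cfsg.Agent.H327.RG
open Cfsg.Agent.GpExc.Field (glMap emb coe_emb glMap_xG emb_injective coe_glMap glMap_injective)
open scoped commutatorElement

/-- the order of `A_n` -/
theorem card_alt {n : ℕ} (hn : 5 ≤ n) {S : Type*} [Group S] (e : S ≃* alternatingGroup (Fin n)) :
    2 * Nat.card S = n.factorial := by
  have : Nontrivial (Fin n) := Fin.nontrivial_iff_two_le.2 (by omega)
  rw [Nat.card_congr e.toEquiv, Nat.card_eq_fintype_card, two_mul_card_alternatingGroup, Fintype.card_perm, Fintype.card_fin]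

theorem not_alt_of_real {X : Cfsg.Agent.H902.Art.Sh} {p f : ℕ} {S : Type*} [Group S] (h : Cfsg.Agent.H902.Art.Real X p f (Nat.card S))
    (hc : 20160 < Nat.card S) : ¬ IsAlternating S := by
  rintro ⟨n, hn, ⟨e⟩⟩
  rcases Cfsg.Agent.H902.Art.alt_lie h hn (card_alt hn e) with h1 | h1 | h1 <;> omega

theorem not_alt_g2 {F : Type*} [Field F] [Fintype F] (h3 : 3 ≤ Fintype.card F) : ¬ IsAlternating ↥(chevG2.group F) := by
  obtain ⟨p, hFp⟩ := CharP.exists F
  obtain ⟨n, hp, hn⟩ := FiniteField.card F p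
  have hc := Cfsg.Agent.S1059.result (F := F) rfl
  refine not_alt_of_real (X := .G2) (p := p) (f := n) ⟨hp, n.2, ?_, ?_⟩ ?_
  · change 3 ≤ p ^ (n : ℕ)
    rw [← hn]; exact h3
  · rw [hc, hn]
    change 1 * _ = (p ^ (n : ℕ)) ^ 6 * (_ * _)
    ring
  · rw [hc]
    have h4 : 3 ^ 6 ≤ Fintype.card F ^ 6 := Nat.pow_le_pow_left h3 6
    have h5 : 3 ^ 2 ≤ Fintype.card F ^ 2 := Nat.pow_le_pow_left h3 2
    have h6 : 8 ≤ Fintype.card F ^ 2 - 1 := by omega
    have h7 : 728 ≤ Fintype.card F ^ 6 - 1 := by omega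
    calc 20160 < 3 ^ 6 * 8 * 728 := by norm_num
      _ ≤ _ := Nat.mul_le_mul (Nat.mul_le_mul h4 h6) h7

/-- transport -/
theorem facts_congr {S S' : Type*} [Group S] [Group S'] (e : S ≃* S')
    (h : IsSimpleGroup S ∧ ¬ IsMulCommutative S ∧ ¬ IsAlternating S) :
    IsSimpleGroup S' ∧ ¬ IsMulCommutative S' ∧ ¬ IsAlternating S' := by
  obtain ⟨h1, h2, h3⟩ := h
  refine ⟨e.symm.isSimpleGroup, ?_, ?_⟩
  · intro hc
    apply h2
    refine ⟨⟨fun a b => e.injective ?_⟩⟩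
    rw [map_mul, map_mul]
    exact hc.is_comm.comm _ _
  · rintro ⟨n, hn, ⟨f⟩⟩
    exact h3 ⟨n, hn, ⟨e.trans f⟩⟩

/-- the derived group of `G₂(q)` -/
theorem facts_comm {F : Type} [Field F] [Fintype F] :
    IsSimpleGroup ↥(commutator ↥(chevG2.group F)) ∧ ¬ IsMulCommutative ↥(commutator ↥(chevG2.group F)) ∧
      ¬ IsAlternating ↥(commutator ↥(chevG2.group F)) := by
  by_cases h3' : 3 ≤ Fintype.card F
  · have hs₀ := Cfsg.Agent.S1055.result (F := F) (RowsUntw.exists_ne h3')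
    have h4 := not_alt_g2 (F := F) h3'
    have htop : commutator ↥(chevG2.group F) = ⊤ := by
      have hs := hs₀.1
      rcases hs.eq_bot_or_eq_top_of_normal (commutator ↥(chevG2.group F)) inferInstance with h | h
      · exfalso
        apply hs₀.2
        refine ⟨⟨fun a b => ?_⟩⟩
        have h5 : ⁅a, b⁆ ∈ commutator ↥(chevG2.group F) := Subgroup.commutator_mem_commutator (mem_top a) (mem_top b)
        rw [h, mem_bot, commutatorElement_eq_one_iff_mul_comm] at h5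
        exact h5
      · exact h
    rw [htop]
    exact facts_congr topEquiv.symm ⟨hs₀.1, hs₀.2, h4⟩
  · have hE : Fintype.card F = 2 := by
      have := Fintype.one_lt_card (α := F)
      omega
    have : Fact (Nat.Prime 3) := ⟨Nat.prime_three⟩
    have := Fintype.ofFinite (GaloisField 3 2)
    have hK : Fintype.card (GaloisField 3 2) = 9 := by
      rw [← Nat.card_eq_fintype_card, GaloisField.card 3 2 (by norm_num)]
      norm_num
    obtain ⟨e'⟩ := Cfsg.Agent.S1057.result hE hK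
    have hsP := Cfsg.Agent.S0283.result (F := GaloisField 3 2) (q := 3) (by rw [hK]; norm_num) 3 le_rfl (by omega)
    have hcP := SmallSimple.PSLFacts.card_psu_three_three hK
    have hsM : IsSimpleGroup ↥(commutator ↥(chevG2.group F)) := e'.isSimpleGroup
    have hcM : Nat.card ↥(commutator ↥(chevG2.group F)) = 6048 := by
      rw [← hcP]; exact Nat.card_congr e'.toEquiv
    refine ⟨hsM, ?_, ?_⟩
    · intro hc
      let _ : CommGroup ↥(commutator ↥(chevG2.group F)) :=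
        { (inferInstance : Group ↥(commutator ↥(chevG2.group F))) with mul_comm := hc.is_comm.comm }
      have h3 := IsSimpleGroup.prime_card (α := ↥(commutator ↥(chevG2.group F)))
      rw [hcM] at h3
      norm_num at h3
    · rintro ⟨n, hn, ⟨f⟩⟩
      have h1 := card_alt hn f
      rw [hcM] at h1
      rcases Nat.lt_or_ge n 8 with h2 | h2
      · have h4 := Nat.factorial_le (show n ≤ 7 by omega)
        have h5 : Nat.factorial 7 = 5040 := rfl
        omega
      · have h4 := Nat.factorial_le h2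
        have h5 : Nat.factorial 8 = 40320 := rfl
        omega

/-- **(T1)** -/
theorem der_L0 {F : Type} [Field F] [Fintype F] (F₀ : Subfield F) :
    IsSimpleGroup ↥⁅L0 RowsUntw.g2T F₀, L0 RowsUntw.g2T F₀⁆ ∧
      ¬ IsMulCommutative ↥⁅L0 RowsUntw.g2T F₀, L0 RowsUntw.g2T F₀⁆ ∧
      ¬ IsAlternating ↥⁅L0 RowsUntw.g2T F₀, L0 RowsUntw.g2T F₀⁆ := by
  classical
  have : Fintype ↥F₀ := Fintype.ofFinite _
  let ψ : ↥(chevG2.group ↥F₀) →* ↥(chevG2.group F) := emb RowsUntw.g2T.inList F₀.subtype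
  have hψ : Function.Injective ψ := emb_injective _ _
  have h1 : ⁅L0 RowsUntw.g2T F₀, L0 RowsUntw.g2T F₀⁆ = (commutator ↥(chevG2.group ↥F₀)).map ψ := by
    rw [commutator_def, Subgroup.map_commutator, ← MonoidHom.range_eq_map]
    rfl
  rw [h1]
  exact facts_congr ((commutator ↥(chevG2.group ↥F₀)).equivMapOfInjective ψ hψ) facts_comm

end Cfsg.Agent.H566.G2
end

-- part: H244/S3509/AutG2
section
prune_inst 0x500045040522020000180000220024406200019000600c01456109400480674325020101b9801211c9002a64003c004811540149420000000a000600411901a080824000a2080104460089808880000000000000000000000000000000000000000000000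
set_option linter.all false
open scoped Cfsg.Agent.FastGrp

/-!
# S3509: the automorphisms of prime order of `G₂(q)` (helper244)

`cases_g2` : an automorphism of prime order `p` of `G₂(F)` is inner-diagonal, of field type, or `p = 2`, `|F| = 3 ^ n`,
`n` odd, and it is `conj y * Γ ^ n` on the algebraic group, `Γ` the special isogeny.
-/

set_option autoImplicit false
set_option linter.unusedSectionVars false

namespace Cfsg.Agent.H244.S3509G2

open CoxeterSystem Subgroup Cfsg Cfsg.Lie Cfsg.Lie.ChevalleyDatum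
open Cfsg.Agent.ChevalleyStructure Cfsg.Agent.ChevalleyStructure.Elts Cfsg.Agent.ChevalleyStructure.CoxeterGeom
  Cfsg.Agent.ChevalleyStructure.CoxeterGeomTypes Cfsg.Agent.ChevalleyStructure.NPerm
open Cfsg.Agent.Tits.Roots Cfsg.Agent.Tits.Core Cfsg.Agent.Nodes.Reps Cfsg.Agent.Nodes.BNOf
  Cfsg.Agent.Nodes.RGDChev Cfsg.Agent.Nodes.Bruhat Cfsg.Agent.Nodes.OppDec
open Cfsg.Agent.KFacts.RgdAut Cfsg.Agent.KFacts.RgdDiag Cfsg.Agent.KFacts.RgdRigid
  Cfsg.Agent.KFacts.RgdField Cfsg.Agent.KFacts.RgdTau Cfsg.Agent.KFacts.RgdChevCoord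
  Cfsg.Agent.CpAut.RgdUntw Cfsg.Agent.CpAut.RgdConj
open Cfsg.Agent.GpExc.Field (glMap emb coe_emb glMap_xG emb_injective coe_glMap)
open Cfsg.Agent.BpExc Cfsg.Agent.BpExc.FamExt Cfsg.Agent.BpExc.FamFrame Cfsg.Agent.BpExc.FamField Cfsg.Agent.BpExc.Tow
  Cfsg.Agent.BpExc.TowChev Cfsg.Agent.BpExc.FamUntw Cfsg.Agent.BpExc.FamInst Cfsg.Agent.BpExc.LangFr
open Cfsg.Agent.H469.Exc Cfsg.Agent.H469.Exc.SigFr
open Cfsg.Agent.H28.GenF Cfsg.Agent.H327.RG
open scoped Pointwise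

section gen

variable {D : ChevalleyDatum} {l : ℕ} {M : CoxeterMatrix (Fin l)} (hp : IsType D l M)
  {r : ℕ} [Fact r.Prime] {F : Type} [Field F] [Fintype F] [CharP F r] (f : F →+* KK r)
  {d : ℕ} {B : Fin l → Fin l → ℤ}

/-- an automorphism of order `p` without graph part -/
theorem ty_of_tau (hB : InvC D l d B) (hd : d ≠ 0) (hl : Nonempty (Fin l))
    (hconn : ∀ J : Set (Fin l), J.Nonempty → J ≠ Set.univ → ∃ a ∈ J, ∃ b, b ∉ J ∧ M a b ≠ 2)
    {p : ℕ} (hpp : p.Prime) {n : ℕ} (hn : Nat.card F = r ^ n) {x : MulAut ↥(D.group F)}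
    {g : ↥(D.group F)} {τ : F ≃+* F}
    (hτ : Tau (TT D F) (XX D l F) (ch hp) (cartanOf D l) (MulAut.conj g * x) 1 τ) (hτp : τ ^ p = 1) :
    Ty hp f n p x := by
  have hroots : ∀ c : F, c ≠ 0 → ∃ b : KK r, b ^ d = f c := fun c _ =>
    IsAlgClosed.exists_pow_nat_eq (f c) (Nat.pos_of_ne_zero hd)
  by_cases hτ1 : τ = 1
  · left
    subst hτ1
    obtain ⟨t, ht, e⟩ := exists_ext hp f r hconn hB hd hroots hτ (τ' := (1 : KK r ≃+* KK r)) (fun a => rfl)
    have e' : ∀ y, emb hp.inList f (x y) = ((emb hp.inList f g)⁻¹ * t) * emb hp.inList f y *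
        ((emb hp.inList f g)⁻¹ * t)⁻¹ := by
      intro y
      have h1 := e y
      simp only [fld_one, MulAut.mul_apply, MulAut.conj_apply, map_mul, map_mul, map_inv] at h1
      have h2 : emb hp.inList f (x y) = (emb hp.inList f g)⁻¹ * (emb hp.inList f g * emb hp.inList f (x y) *
        (emb hp.inList f g)⁻¹) * emb hp.inList f g := by group
      rw [h2, h1]
      show _ * (t * emb hp.inList f y * t⁻¹) * _ = _
      group
    exact ⟨_, e'⟩
  · right
    obtain ⟨i, m, hi, hm0, hcard, hfr⟩ := exists_field r hpp hτp hτ1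
    have hmn : m * p = n := by
      rw [hn] at hcard
      exact (Nat.pow_right_injective (Fact.out : r.Prime).two_le hcard).symm
    obtain ⟨g', eg⟩ := exists_conj_pow g x i
    have hτi := hτ.pow i
    rw [eg, one_pow] at hτi
    obtain ⟨t, ht, e⟩ := exists_ext hp f r hconn hB hd hroots hτi (τ' := frb (KK r) r m) (fun a => by
      rw [frb_apply, hfr, map_pow])
    have e' : ∀ y, emb hp.inList f ((x ^ i) y) =
        (MulAut.conj ((emb hp.inList f g')⁻¹ * t) * phi D (KK r) r m) (emb hp.inList f y) := by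
      intro y
      have h1 := e y
      rw [MulAut.mul_apply, MulAut.conj_apply, map_mul, map_mul, map_inv] at h1
      have h2 : emb hp.inList f ((x ^ i) y) = (emb hp.inList f g')⁻¹ * (emb hp.inList f g' *
        emb hp.inList f ((x ^ i) y) * (emb hp.inList f g')⁻¹) * emb hp.inList f g' := by group
      rw [h2, h1, MulAut.mul_apply, MulAut.conj_apply]
      show _ * (t * phi D (KK r) r m (emb hp.inList f y) * t⁻¹) * _ = _
      group
    exact ⟨i, m, _, hi, hm0, hmn, e'⟩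

end gen

section frame

variable {F : Type} [Field F] [Fintype F]

/-- `Diag` gives `Perm` -/
theorem perm_of_diag {φ : MulAut ↥(chevG2.group F)} {σ : Equiv.Perm (Fin 2)}
    (h : Diag (TT chevG2 F) (XX chevG2 2 F) φ σ) :
    H70.ChevField.Perm chevG2 F φ (σ : Equiv.Perm (Fin 2)) := by
  have hpos : ∀ i : Fin 2, ∀ y : ↥(chevG2.group F), y ∈ XX chevG2 2 F (sr i) ↔
      y ∈ H70.ChevFix.XX chevG2 F (chevG2.simple i) := by
    intro i y
    rw [Subgroup.mem_subgroupOf, XV_sr RowsUntw.g2T]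
    exact Iff.rfl
  have hneg : ∀ i : Fin 2, ∀ y : ↥(chevG2.group F), y ∈ XX chevG2 2 F (-sr i) ↔
      y ∈ H70.ChevFix.XX chevG2 F (chevG2.neg (chevG2.simple i)) := by
    intro i y
    rw [Subgroup.mem_subgroupOf, XV_neg_sr RowsUntw.g2T]
    exact Iff.rfl
  have kpos : ∀ i : Fin 2, φ • H70.ChevFix.XX chevG2 F (chevG2.simple i) = H70.ChevFix.XX chevG2 F (chevG2.simple (σ i)) := by
    intro i
    ext y
    have h1 := h.pos i (φ⁻¹ y)
    rw [hpos, hpos, MulAut.apply_inv_self] at h1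
    rw [Subgroup.mem_pointwise_smul_iff_inv_smul_mem]
    exact h1.symm
  have kneg : ∀ i : Fin 2, φ • H70.ChevFix.XX chevG2 F (chevG2.neg (chevG2.simple i)) =
      H70.ChevFix.XX chevG2 F (chevG2.neg (chevG2.simple (σ i))) := by
    intro i
    ext y
    have h1 := h.neg i (φ⁻¹ y)
    rw [hneg, hneg, MulAut.apply_inv_self] at h1
    rw [Subgroup.mem_pointwise_smul_iff_inv_smul_mem]
    exact h1.symm
  exact ⟨kpos, kneg⟩

/-- the frame form of an automorphism of order dividing `p` -/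
theorem frame_g2 (r : ℕ) [Fact r.Prime] [CharP F r] {p : ℕ} {x : MulAut ↥(chevG2.group F)} (hx : x ^ p = 1) :
    (∃ (g : ↥(chevG2.group F)) (τ : F ≃+* F),
      Tau (TT chevG2 F) (XX chevG2 2 F) (ch RowsUntw.g2T) (cartanOf chevG2 2) (MulAut.conj g * x) 1 τ ∧ τ ^ p = 1) ∨
    ∃ (g : ↥(chevG2.group F)) (σ : Equiv.Perm (Fin 2)), σ ≠ 1 ∧ σ ^ p = 1 ∧
      H70.ChevField.Perm chevG2 F (MulAut.conj g * x) (σ : Equiv.Perm (Fin 2)) := by
  have hp := RowsUntw.g2T
  obtain ⟨cs⟩ : Nonempty (CoxeterSystem CoxeterMatrix.G₂ CoxeterMatrix.G₂.Group) := ⟨CoxeterMatrix.G₂.toCoxeterSystem⟩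
  obtain ⟨hl, hconn⟩ := conn_of_fin (r := r) hp (S1055.result exists_ne_gal)
  have hW := finite_W hp cs
  have R := rgd (K := F) hp cs r
  have C := coords (K := F) hp cs r
  have H := coroots (K := F) hp cs r
  have hG := TorChev.GG_top (K := F) hp cs
  obtain ⟨g, h1, h2, σ, Dg⟩ := exists_frame_any R hG x
  obtain ⟨g', e⟩ := exists_conj_pow g x p
  rw [hx, mul_one] at e
  have hpow : ∀ {S : Subgroup ↥(chevG2.group F)}, _root_.Cfsg.Agent.KFacts.RgdAut.Fix (MulAut.conj g * x) S → _root_.Cfsg.Agent.KFacts.RgdAut.Fix ((MulAut.conj g * x) ^ p) S := by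
    intro S hS
    generalize p = k
    induction k with
    | zero => intro y; rw [pow_zero]; exact Iff.rfl
    | succ k ih => rw [pow_succ]; exact ih.mul hS
  have hg' : g' ∈ TT chevG2 F := by
    refine mem_T_of_frame R hG ?_ ?_
    · rw [← e]; exact hpow h1
    · rw [← e]; exact hpow h2
  have hσm : σ ^ p = 1 := by
    have h3 := Dg.pow p
    rw [e] at h3
    have h4 := h3.mul (diag_conj R (inv_mem hg'))
    rw [← map_mul, mul_inv_cancel, map_one, mul_one] at h4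
    ext i
    obtain ⟨u, hu, hu1⟩ := exists_ne_one R i
    exact congrArg Fin.val (Diag.apply_eq R h4 hu hu1 rfl)
  by_cases hσ1 : σ = 1
  · left
    subst hσ1
    obtain ⟨τ, hτ⟩ := exists_tau R C H hconn Dg (fun _ _ => rfl)
    refine ⟨g, τ, hτ, ?_⟩
    have h3 := hτ.pow p
    rw [e, one_pow] at h3
    exact (Tau.unique R C h3 (tau_conj R C hg')).2
  · exact Or.inr ⟨g, σ, hσ1, hσm, perm_of_diag Dg⟩

/-- no graph automorphism in characteristic `≠ 3` -/
theorem no_perm {r : ℕ} [Fact r.Prime] [CharP F r] (h3 : r ≠ 3) (hq : 3 ≤ Nat.card F) {φ : MulAut ↥(chevG2.group F)} {σ : Equiv.Perm (Fin 2)}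
    (hσ : σ ≠ 1) (h : H70.ChevField.Perm chevG2 F φ (σ : Equiv.Perm (Fin 2))) : False := by
  have h30 : (3 : F) ≠ 0 := by
    intro h0
    have h1 : ((3 : ℕ) : F) = 0 := by exact_mod_cast h0
    rw [CharP.cast_eq_zero_iff F r] at h1
    exact h3 ((Nat.prime_dvd_prime_iff_eq Fact.out Nat.prime_three).1 h1)
  have h1 : σ = Equiv.swap 0 1 := (H69.OutGF.perm2 σ).resolve_left hσ
  subst h1
  exact H69.OutGF.flip2_not_mem h30 hq ⟨φ, h⟩

end frame

/-- a Frobenius which is inner on `G₂(F)` -/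
theorem dvd_of_conj {r : ℕ} [Fact r.Prime] {F : Type} [Field F] [Fintype F] [CharP F r] (f : F →+* KK r) {n : ℕ}
    (hn : Nat.card F = r ^ n) {m : ℕ} {w : ↥(chevG2.group (KK r))}
    (hw : ∀ a, emb RowsUntw.g2T.inList f a = w * phi chevG2 (KK r) r m (emb RowsUntw.g2T.inList f a) * w⁻¹) :
    n ∣ m := by
  have hZ : center ↥(chevG2.group (KK r)) = ⊥ := center_bot' (S1055.result (exists_ne_algClosed _))
  have hw1 : w = 1 := by
    let _ : Algebra (ZMod r) F := ZMod.algebra _ r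
    refine eq_one_of_comm RowsUntw.g2T (locFin r) r (f.comp (algebraMap (ZMod r) F)) hZ fun b => ?_
    have h2 := hw (emb RowsUntw.g2T.inList (algebraMap (ZMod r) F) b)
    rw [H28.GenF.emb_comp RowsUntw.g2T] at h2
    have h4 := phi_emb RowsUntw.g2T r (f.comp (algebraMap (ZMod r) F)) (n := 1)
      (by rw [Nat.card_zmod, pow_one]) b
    have h5 := H28.GenF.apply_pow h4 m
    rw [phi_pow, one_mul] at h5
    rw [h5] at h2
    exact (mul_inv_eq_iff_eq_mul.1 h2.symm)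
  subst hw1
  rw [← forall_pow_iff r hn m]
  intro t
  have h1 := hw (xs RowsUntw.g2T.inList 7 t)
  rw [emb_xs RowsUntw.g2T, one_mul, inv_one, mul_one] at h1
  unfold phi at h1
  rw [fld_xs, frb_apply, ← map_pow] at h1
  have h2 := xG_injective RowsUntw.g2T.inList (r := 7) (by decide) (congrArg Subtype.val h1)
  exact (f.injective h2).symm

section graph

open Cfsg.Agent.H689.Ccp (fl la gam GG2)

theorem xs_top {k : Type} [Field k] (N : Subgroup ↥(chevG2.group k))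
    (h : ∀ s < 12, ∀ t, xs RowsUntw.g2T.inList s t ∈ N) : N = ⊤ := by
  refine group_le RowsUntw.g2T N fun s t => ?_
  by_cases hs : s < 12
  · exact h s hs t
  · have e : xs RowsUntw.g2T.inList s t = (1 : ↥(chevG2.group k)) := by
      apply Subtype.ext
      apply Units.ext
      exact x_of_not_lt (D := chevG2) hs t
    rw [e]
    exact one_mem N

/-- the special isogeny -/
def SpecG {k : Type} [Field k] (Γ : MulAut ↥(chevG2.group k)) : Prop :=
  ∀ r < 12, ∀ t : k, Γ (xs RowsUntw.g2T.inList r t) = xs RowsUntw.g2T.inList (fl r) (t ^ la r)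

variable {F : Type} [Field F] [Fintype F] [CharP F 3] (f : F →+* KK 3)

local notation "ι" => emb RowsUntw.g2T.inList f

theorem emb_gam {Γ : MulAut ↥(chevG2.group (KK 3))} (hΓ : SpecG Γ) (a : ↥(chevG2.group F)) :
    ι (gam F a) = Γ (ι a) := by
  have h1 : ((ι).comp (gam F).toMonoidHom).eqLocus (Γ.toMonoidHom.comp ι) = ⊤ := by
    refine xs_top _ fun s hs t => ?_
    change ι (gam F (H689.Ccp.X s t)) = Γ (ι (xs RowsUntw.g2T.inList s t))
    rw [H689.Ccp.gam_X hs, emb_xs RowsUntw.g2T, hΓ s hs]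
    change ι (xs RowsUntw.g2T.inList (fl s) (t ^ la s)) = _
    rw [emb_xs RowsUntw.g2T, map_pow]
  have h2 : a ∈ ((ι).comp (gam F).toMonoidHom).eqLocus (Γ.toMonoidHom.comp ι) := by
    rw [h1]; exact mem_top a
  exact h2

theorem emb_fldτ {τ : F ≃+* F} {j : ℕ} (hτ : ∀ a, τ a = a ^ 3 ^ j) (a : ↥(chevG2.group F)) :
    ι (H689.Ccp.fld τ a) = phi chevG2 (KK 3) 3 j (ι a) := by
  have h1 : ((ι).comp (H689.Ccp.fld τ).toMonoidHom).eqLocus ((phi chevG2 (KK 3) 3 j).toMonoidHom.comp ι) = ⊤ := by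
    refine xs_top _ fun s hs t => ?_
    change ι (H689.Ccp.fld τ (H689.Ccp.X s t)) = phi chevG2 (KK 3) 3 j (ι (xs RowsUntw.g2T.inList s t))
    rw [H689.Ccp.fld_X τ hs, emb_xs RowsUntw.g2T]
    change ι (xs RowsUntw.g2T.inList s (τ t)) = _
    rw [emb_xs RowsUntw.g2T, hτ, map_pow]
    unfold phi
    rw [fld_xs, frb_apply]
  have h2 : a ∈ ((ι).comp (H689.Ccp.fld τ).toMonoidHom).eqLocus ((phi chevG2 (KK 3) 3 j).toMonoidHom.comp ι) := by
    rw [h1]; exact mem_top a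
  exact h2

theorem spec_sq {Γ : MulAut ↥(chevG2.group (KK 3))} (hΓ : SpecG Γ) : Γ ^ 2 = phi chevG2 (KK 3) 3 1 := by
  have h1 : (Γ ^ 2).toMonoidHom.eqLocus (phi chevG2 (KK 3) 3 1).toMonoidHom = ⊤ := by
    refine xs_top _ fun s hs t => ?_
    change (Γ ^ 2) (xs RowsUntw.g2T.inList s t) = phi chevG2 (KK 3) 3 1 (xs RowsUntw.g2T.inList s t)
    obtain ⟨h1, h2, h3, -⟩ := H689.Ccp.fl_tab s hs
    rw [pow_two, MulAut.mul_apply, hΓ s hs, hΓ _ h1, h2, ← pow_mul, h3]
    unfold phi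
    rw [fld_xs, frb_apply, pow_one]
  refine MulEquiv.ext fun a => ?_
  have h2 : a ∈ (Γ ^ 2).toMonoidHom.eqLocus (phi chevG2 (KK 3) 3 1).toMonoidHom := by
    rw [h1]; exact mem_top a
  exact h2

/-- **An involutory automorphism of graph type.** -/
theorem graph_of_perm {n : ℕ} (hn : Nat.card F = 3 ^ n) {Γ : MulAut ↥(chevG2.group (KK 3))} (hΓ : SpecG Γ)
    {x : MulAut ↥(chevG2.group F)} (hx : x ^ 2 = 1) {g : ↥(chevG2.group F)} {σ : Equiv.Perm (Fin 2)} (hσ : σ ≠ 1)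
    (h : H70.ChevField.Perm chevG2 F (MulAut.conj g * x) (σ : Equiv.Perm (Fin 2))) :
    Odd n ∧ ∃ y, ∀ a, ι (x a) = y * (Γ ^ n) (ι a) * y⁻¹ := by
  obtain ⟨u, v, hu, hv, τ, e⟩ := H689.Ccp.exists_form h hσ
  obtain ⟨j, hj⟩ := exists_pow_eq 3 τ
  obtain ⟨m, hm⟩ : ∃ m, m = 2 * j + 1 := ⟨_, rfl⟩
  have hΓ2 := spec_sq hΓ
  have hpow : ∀ k : ℕ, Γ ^ (2 * k) = phi chevG2 (KK 3) 3 k := by
    intro k
    rw [pow_mul, hΓ2, phi_pow, one_mul]
  -- the form
  obtain ⟨z, hz⟩ : ∃ z, ∀ a, ι (x a) = z * (Γ ^ m) (ι a) * z⁻¹ := by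
    refine ⟨ι (g⁻¹ * H689.Ccp.H u v), fun a => ?_⟩
    have e1 : x = MulAut.conj (g⁻¹ * H689.Ccp.H u v) * (H689.Ccp.fld τ * gam F) := by
      rw [map_mul, mul_assoc, ← e, ← mul_assoc, ← map_mul, inv_mul_cancel, map_one, one_mul]
    have e2 : x a = (g⁻¹ * H689.Ccp.H u v) * (H689.Ccp.fld τ (gam F a)) * (g⁻¹ * H689.Ccp.H u v)⁻¹ := by
      conv_lhs => rw [e1]
      rfl
    simp only [e2, map_mul (emb _ f) (g⁻¹ * H689.Ccp.H u v * (H689.Ccp.fld τ) ((gam F) a)) ((g⁻¹ * H689.Ccp.H u v)⁻¹), map_mul (emb _ f) (g⁻¹ * H689.Ccp.H u v) ((H689.Ccp.fld τ) ((gam F) a)), map_inv (emb _ f) (g⁻¹ * H689.Ccp.H u v), emb_fldτ f hj ((gam F) a), emb_gam f hΓ a, hm, pow_succ Γ (2 * j), hpow j]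
    rfl
  -- the square
  obtain ⟨w, hw⟩ : ∃ w, ∀ a, ι a = w * phi chevG2 (KK 3) 3 m (ι a) * w⁻¹ := by
    refine ⟨z * (Γ ^ m) z, fun a => ?_⟩
    have h1 : x (x a) = a := by
      have h2 := DFunLike.congr_fun hx a
      rwa [pow_two] at h2
    have h2 := hz (x a)
    simp only [h1, hz a, map_mul, map_mul, map_inv, ← MulAut.mul_apply, ← pow_add, ← two_mul, hpow] at h2
    refine h2.trans ?_
    group
  have hdvd : n ∣ m := dvd_of_conj f hn hw
  obtain ⟨c, hc⟩ := hdvd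
  have hodd : Odd m := ⟨j, hm⟩
  rw [hc] at hodd
  obtain ⟨hn1, hc1⟩ := Nat.odd_mul.1 hodd
  refine ⟨hn1, z, fun a => ?_⟩
  obtain ⟨d, hd⟩ := hc1
  have h1 : (Γ ^ m) (ι a) = (Γ ^ n) (ι a) := by
    have e1 : m = n + 2 * (n * d) := by rw [hc, hd]; ring
    rw [e1, pow_add, MulAut.mul_apply, hpow, ← phi_pow]
    rw [H28.GenF.apply_pow (phi_emb RowsUntw.g2T 3 f hn a) d]
  rw [hz, h1]

end graph

/-- an automorphism of field type is not inner-diagonal -/
theorem not_inD_of_field {r : ℕ} [Fact r.Prime] {F : Type} [Field F] [Fintype F] [CharP F r] (f : F →+* KK r) {n : ℕ}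
    (hn : Nat.card F = r ^ n) {p : ℕ} (hpp : p.Prime) {x : MulAut ↥(chevG2.group F)} {i m : ℕ}
    {y : ↥(chevG2.group (KK r))} (hm : 0 < m) (hmn : m * p = n)
    (hy : ∀ a, emb RowsUntw.g2T.inList f ((x ^ i) a) =
      (MulAut.conj y * phi chevG2 (KK r) r m) (emb RowsUntw.g2T.inList f a)) :
    x ∉ InD (emb RowsUntw.g2T.inList f) := by
  intro hx
  obtain ⟨y', hy'⟩ : x ^ i ∈ InD (emb RowsUntw.g2T.inList f) := pow_mem hx i
  have h1 : n ∣ m := dvd_of_conj f hn (w := y'⁻¹ * y) fun a => by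
    have h2 := hy a
    rw [hy', MulAut.mul_apply, MulAut.conj_apply] at h2
    calc emb RowsUntw.g2T.inList f a = y'⁻¹ * (y' * emb RowsUntw.g2T.inList f a * y'⁻¹) * y' := by group
      _ = y'⁻¹ * (y * phi chevG2 (KK r) r m (emb RowsUntw.g2T.inList f a) * y⁻¹) * y' := by rw [h2]
      _ = _ := by group
  have h3 := Nat.le_of_dvd hm h1
  have h4 : m * 2 ≤ m * p := Nat.mul_le_mul_left m hpp.two_le
  omega

/-- a Tau automorphism without field part is inner -/
theorem inner_of_tau {r : ℕ} [Fact r.Prime] {F : Type} [Field F] [Fintype F] [CharP F r]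
    {x : MulAut ↥(chevG2.group F)} {g : ↥(chevG2.group F)}
    (hτ : Tau (TT chevG2 F) (XX chevG2 2 F) (ch RowsUntw.g2T) (cartanOf chevG2 2) (MulAut.conj g * x) 1
      (1 : F ≃+* F)) : ∃ y : ↥(chevG2.group F), x = MulAut.conj y := by
  obtain ⟨hl, hconn⟩ := conn_of_fin (r := r) RowsUntw.g2T (S1055.result exists_ne_gal)
  obtain ⟨t, ht, e⟩ := exists_ext RowsUntw.g2T (RingHom.id F) r hconn inv_G2 one_ne_zero
    (fun c _ => ⟨c, by rw [pow_one]; rfl⟩) hτ (τ' := (1 : F ≃+* F)) (fun a => rfl)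
  have hid : ∀ y : ↥(chevG2.group F), emb RowsUntw.g2T.inList (RingHom.id F) y = y := by
    intro y
    apply Subtype.ext
    apply Units.ext
    rw [coe_emb, coe_glMap]
    ext i j
    rfl
  refine ⟨g⁻¹ * t, MulEquiv.ext fun y => ?_⟩
  have h1 := e y
  rw [fld_one, hid, hid, MulAut.mul_apply, MulAut.conj_apply] at h1
  have h1' : g * x y * g⁻¹ = t * y * t⁻¹ := h1
  rw [MulAut.conj_apply]
  calc x y = g⁻¹ * (g * x y * g⁻¹) * g := by group
    _ = g⁻¹ * (t * y * t⁻¹) * g := by rw [h1']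
    _ = _ := by group

/-- **The automorphisms of prime order of `G₂(F)`**, second form: inner, or of field type and not inner-diagonal, or of
graph type -/
theorem cases_g2' {r : ℕ} [Fact r.Prime] {F : Type} [Field F] [Fintype F] [CharP F r] (hq : 3 ≤ Nat.card F)
    (f : F →+* KK r) {n : ℕ} (hn : Nat.card F = r ^ n) {p : ℕ} (hpp : p.Prime) {x : MulAut ↥(chevG2.group F)}
    (hx : x ^ p = 1) :
    (Ty RowsUntw.g2T f n p x ∧ ((∃ y : ↥(chevG2.group F), x = MulAut.conj y) ∨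
      x ∉ InD (emb RowsUntw.g2T.inList f))) ∨
    (p = 2 ∧ r = 3 ∧ ∃ (g : ↥(chevG2.group F)) (σ : Equiv.Perm (Fin 2)), σ ≠ 1 ∧
      H70.ChevField.Perm chevG2 F (MulAut.conj g * x) (σ : Equiv.Perm (Fin 2))) := by
  rcases frame_g2 r hx with ⟨g, τ, h1, h2⟩ | ⟨g, σ, h1, h2, h3⟩
  · left
    obtain ⟨hl, hconn⟩ := conn_of_fin (r := r) RowsUntw.g2T (S1055.result exists_ne_gal)
    have hT := ty_of_tau RowsUntw.g2T f inv_G2 one_ne_zero hl hconn hpp hn h1 h2
    refine ⟨hT, ?_⟩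
    by_cases hτ1 : τ = 1
    · left
      subst hτ1
      exact inner_of_tau (r := r) h1
    · right
      obtain ⟨i, m, hi, hm0, hcard, hfr⟩ := exists_field r hpp h2 hτ1
      have hmn : m * p = n := by
        rw [hn] at hcard
        exact (Nat.pow_right_injective (Fact.out : r.Prime).two_le hcard).symm
      obtain ⟨g', eg⟩ := exists_conj_pow g x i
      have hτi := h1.pow i
      rw [eg, one_pow] at hτi
      obtain ⟨t, ht, e⟩ := exists_ext RowsUntw.g2T f r hconn inv_G2 one_ne_zero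
        (fun c _ => ⟨f c, by rw [pow_one]⟩) hτi (τ' := frb (KK r) r m) (fun a => by
        rw [frb_apply, hfr, map_pow])
      refine not_inD_of_field f hn hpp (i := i) (m := m) (y := (emb RowsUntw.g2T.inList f g')⁻¹ * t) hm0 hmn ?_
      intro y
      have h1 := e y
      rw [MulAut.mul_apply, MulAut.conj_apply, map_mul, map_mul, map_inv] at h1
      have h2 : emb RowsUntw.g2T.inList f ((x ^ i) y) = (emb RowsUntw.g2T.inList f g')⁻¹ *
        (emb RowsUntw.g2T.inList f g' * emb RowsUntw.g2T.inList f ((x ^ i) y) *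
        (emb RowsUntw.g2T.inList f g')⁻¹) * emb RowsUntw.g2T.inList f g' := by group
      rw [h2, h1, MulAut.mul_apply, MulAut.conj_apply]
      show _ * (t * phi chevG2 (KK r) r m (emb RowsUntw.g2T.inList f y) * t⁻¹) * _ = _
      group
  · right
    refine ⟨?_, ?_, g, σ, h1, h3⟩
    · have h4 : orderOf σ ∣ p := orderOf_dvd_of_pow_eq_one h2
      have h5 : σ ^ 2 = 1 := by
        rw [(H69.OutGF.perm2 σ).resolve_left h1]
        decide
      have h6 : orderOf σ ∣ 2 := orderOf_dvd_of_pow_eq_one h5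
      have h7 : orderOf σ ≠ 1 := fun h => h1 (orderOf_eq_one_iff.1 h)
      have h8 : orderOf σ = 2 := ((Nat.dvd_prime Nat.prime_two).1 h6).resolve_left h7
      rw [h8] at h4
      exact ((Nat.prime_dvd_prime_iff_eq Nat.prime_two hpp).1 h4).symm
    · by_contra hr
      exact no_perm hr hq h1 h3

end Cfsg.Agent.H244.S3509G2
end

-- part: H916/RG/R24
section
set_option linter.all false

/-!
# S3509: `M24` (helper916)
-/

set_option autoImplicit false

namespace Cfsg.Agent.H916.RG.R24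

open Cfsg Cfsg.Agent.H106.RC Cfsg.Agent.H334.Ore Cfsg.Agent.H334.Ore.Mat Cfsg.Agent.H916.RG.Eng

/-- the class of the record `r8` -/
def t8 : Crt where
  c := 271787644222412330678682982691407336
  m := 6
  p := 2
  q := 3
  st := [⟨true, 230053402636052308529885651869488546, 603701379483483752554575081642229895, 977783897888701185615928890260508300, 2⟩]

/-- the class of the record `r9` -/
def t9 : Crt where
  c := 441366995423741609312549231512542638
  m := 6
  p := 2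
  q := 3
  st := [⟨true, 895730894454731203669768039177828752, 647385901344850096793681996257021607, 180642771462069011516941214225315564, 5⟩]

/-- the class of the record `r13` -/
def t13 : Crt where
  c := 59958983596740834366188217924985573
  m := 10
  p := 2
  q := 5
  st := [⟨true, 190176417210250112690122373581810959, 813170514285819159059739122561687050, 976329858976144688253668533073269792, 5⟩]

/-- the class of the record `r15` -/
def t15 : Crt where
  c := 145797950094761687161608633680418285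
  m := 12
  p := 2
  q := 3
  st := [⟨true, 103490428399879872511447326196567565, 896330871181009407153136531356605774, 970567312120847004310216658166859916, 6⟩]

/-- the class of the record `r16` -/
def t16 : Crt where
  c := 54061143792467787905420018783885681
  m := 12
  p := 2
  q := 3
  st := [⟨true, 524486257964349784857242393716169990, 149712690863446650501751824008231590, 16963844484154683333598515288161836, 5⟩]

/-- the class of the record `r17` -/
def t17 : Crt where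
  c := 296418681862333505317491920136189480
  m := 14
  p := 2
  q := 7
  st := [⟨true, 668876059628145745285378347956919310, 98013657990854407419955819836035617, 549962080228381895313333570228474321, 2⟩]

/-- the class of the record `r18` -/
def t18 : Crt where
  c := 692782671643430358498584137066202775
  m := 14
  p := 2
  q := 7
  st := [⟨true, 545545344354558754321281065994529998, 852167435492133542222061628291134670, 569414163480825998810179747018023412, 4⟩]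

/-- the class of the record `r19` -/
def t19 : Crt where
  c := 311800539162905419356353909696843884
  m := 15
  p := 3
  q := 5
  st := [⟨true, 812987772394217857086029751372581196, 358819582622273534847627140398155911, 955975293400109458169910936258200195, 5⟩]

/-- the class of the record `r20` -/
def t20 : Crt where
  c := 682877364871969722836355392054863185
  m := 15
  p := 3
  q := 5
  st := [⟨true, 435711300094471009183540432176646656, 225428337158648897212538337905740160, 977841831587410394808745107017290340, 5⟩]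

/-- the class of the record `r21` -/
def t21 : Crt where
  c := 152660159869748298187992742290470223
  m := 21
  p := 3
  q := 7
  st := [⟨true, 170344715970944075890907204543761940, 720836925750497429239019665094288655, 379998689956512849470317422979592237, 2⟩,
    ⟨false, 913905811702993639579692217978412706, 112993723820556428318856042273899190, 310899286586797708186032541662203340, 5⟩]

/-- the class of the record `r22` -/
def t22 : Crt where
  c := 801752737117678585333135729932738209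
  m := 21
  p := 3
  q := 7
  st := [⟨true, 312334491873274482040967277691645668, 55194356658927390706768696483885645, 66608272759755819153472131290347051, 2⟩,
    ⟨false, 610379235789809277123922608552395147, 153711913950651138790393872455451860, 458508643277638290698553631888857167, 3⟩]

/-- the certificates -/
def T : List Crt := [t8, t9, t13, t15, t16, t17, t18, t19, t20, t21, t22]

private noncomputable def _root_.Cfsg.Agent.GolayF.f0 : {f // @Cfsg.Agent.H916.RG.Eng.chk = f} :=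
  ⟨_, by delta Cfsg.Agent.H334.Ore.Mat.inG Cfsg.Agent.H916.RG.Eng.chk Cfsg.Agent.H916.RG.Eng.crtOk Cfsg.Agent.H916.RG.Eng.nid Cfsg.Agent.H916.RG.Eng.nw Cfsg.Agent.H916.RG.Eng.okk Cfsg.Agent.H916.RG.Eng.ppOk Cfsg.Agent.H916.RG.Eng.pwc Cfsg.Agent.H916.RG.Eng.pwc._f Cfsg.Agent.H916.RG.Eng.run Cfsg.Agent.H916.RG.Eng.run._f; rewrite [Cfsg.Agent.GolayF.papp_eq, Cfsg.Agent.GolayF.pcomp_eq, Cfsg.Agent.GolayF.ok_eq]; exact rfl⟩

theorem hD : (M24Data.D.all fun r => chk M24Data.F T r.c) = true := by (rewrite [Cfsg.Agent.GolayF.f0.2]; decide +kernel)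

/-- **the row `M24`** -/
theorem rc_m24 {S : Type} [Group S] (hs : IsSimpleGroup S) (hc : ¬ IsMulCommutative S) (h : Spor.IsoM24 S) : RC S := by
  obtain ⟨e⟩ := h
  refine RC.congr e.symm (rc_of_inner S2064.result fun g => ?_)
  exact rce_of_data M24R.id_injective (simple_cgr e hs) (nc_cgr e hc) M24R.hmem M24Data.D T hD M24R.cov g

end Cfsg.Agent.H916.RG.R24
end

-- part: H327/RG/LvU
section
set_option linter.all false
open scoped Cfsg.Agent.FastGrp

/-!
# S3509: `Fr` and `Lv` for the untwisted groups, the generic form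

* `frU` : the frame of `D.group F`;
* `lvU` : the level of a field automorphism;
* `no_centU` : no automorphism of field type of another order centralises the level.
-/

set_option autoImplicit false
set_option linter.unusedSectionVars false

namespace Cfsg.Agent.H327.RG

open CoxeterSystem Subgroup Cfsg Cfsg.Lie Cfsg.Lie.ChevalleyDatum
open Cfsg.Agent.ChevalleyStructure Cfsg.Agent.ChevalleyStructure.Elts Cfsg.Agent.ChevalleyStructure.CoxeterGeom
  Cfsg.Agent.ChevalleyStructure.CoxeterGeomTypes Cfsg.Agent.ChevalleyStructure.NPerm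
open Cfsg.Agent.Tits.Roots Cfsg.Agent.Tits.Core Cfsg.Agent.Nodes.Reps Cfsg.Agent.Nodes.BNOf
  Cfsg.Agent.Nodes.RGDChev Cfsg.Agent.Nodes.Bruhat
open Cfsg.Agent.CpAut.RgdUntw Cfsg.Agent.KFacts.RgdField Cfsg.Agent.KFacts.RgdChevCoord
open Cfsg.Agent.BpExc Cfsg.Agent.BpExc.Tow Cfsg.Agent.BpExc.TowChev Cfsg.Agent.BpExc.FamExt Cfsg.Agent.BpExc.FamUntw
  Cfsg.Agent.BpExc.FamInst Cfsg.Agent.BpExc.LangFr Cfsg.Agent.BpExc.FamField
open Cfsg.Agent.GpExc.Field (glMap emb coe_emb glMap_xG emb_injective coe_glMap glMap_injective)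
open Cfsg.Agent.H469.Exc Cfsg.Agent.H469.Exc.SigFr
open Cfsg.Agent.H28.GenF
open Cfsg.Agent.H46.Gen
open Cfsg.Agent.H106.RC
open scoped commutatorElement

section untw

variable {D : ChevalleyDatum} {l : ℕ} {M : CoxeterMatrix (Fin l)} (hp : IsType D l M)

variable {r : ℕ} [Fact r.Prime] {F : Type} [Field F] [Fintype F] [CharP F r]

include hp in
/-- the frame -/
theorem frU (f : F →+* KK r) {n : ℕ} (hn : Nat.card F = r ^ n) (hZ : center ↥(D.group (KK r)) = ⊥) :
    Fr (emb hp.inList f) (phi D (KK r) r n) where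
  inj := emb_injective hp.inList f
  cent := fun z hz => eq_one_of_comm hp (locFin r) r f hZ hz
  fixι := fun a => phi_emb hp r f hn a
  norm := fun y hy a => by
    obtain ⟨b, hb⟩ := H378.TorFin.conj_range hp f r hn hy ⟨a, rfl⟩
    exact ⟨b, hb⟩

/-- a parameter moved by the Frobenius -/
theorem exists_movedU {n m p : ℕ} (hn : Nat.card F = r ^ n) (hpp : p.Prime) (hm : 0 < m) (hmn : m * p = n) :
    ∃ t : F, t ^ r ^ m ≠ t := by
  by_contra hcon
  push Not at hcon
  have h1 := (forall_pow_iff (F := F) r hn m).1 hcon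
  have h2 : m < n := by
    rw [← hmn]
    calc m = m * 1 := (mul_one m).symm
      _ < m * p := Nat.mul_lt_mul_of_pos_left hpp.one_lt hm
  exact absurd (Nat.le_of_dvd hm h1) (by omega)

/-- **The level of a field automorphism of an untwisted group.** -/
theorem lvU {a₀ b₀ : Fin l → ℤ} (hP : Pr D l a₀ b₀) (f : F →+* KK r) {n m p : ℕ} (hn : Nat.card F = r ^ n)
    (hpp : p.Prime) (hm : 0 < m) (hmn : m * p = n) (hZ : center ↥(D.group (KK r)) = ⊥)
    (F₀ : Subfield F) (hF₀ : Nat.card ↥F₀ = r ^ m)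
    (hLs : IsSimpleGroup ↥⁅L0 hp F₀, L0 hp F₀⁆) (hLn : ¬ IsMulCommutative ↥⁅L0 hp F₀, L0 hp F₀⁆)
    (hLRC : RC ↥⁅L0 hp F₀, L0 hp F₀⁆) :
    Lv (emb hp.inList f) (phi D (KK r) r n) p (phi D (KK r) r m) (L0 hp F₀) := by
  have hchar : CharP ↥F₀ r := (RingHom.charP_iff F₀.subtype F₀.subtype.injective r).2 inferInstance
  refine
    { pow := by rw [phi_pow, hmn]
      lang := fun h => ?_
      fixL := fun a ha => fix_L0 hp f F₀ hF₀ ha
      charL := fun α hx => ?_
      centL := fun y hy => ?_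
      simple := hLs
      ncomm := hLn
      rc := hLRC
      fin := fun β hβ => ?_ }
  · obtain ⟨z, hz⟩ := lang_all hp M.toCoxeterSystem hm (phi_isFrob r m)
      (phi_fr hp M.toCoxeterSystem r (locFin r) m) 1 h
    rw [map_one, one_mul] at hz
    exact ⟨z, hz⟩
  · obtain ⟨N, hN⟩ : ∃ N : Subgroup ↥(D.group ↥F₀), ∀ b, b ∈ N ↔
        α (emb hp.inList F₀.subtype b) ∈ (emb hp.inList F₀.subtype).range :=
      ⟨((emb hp.inList F₀.subtype).range.comap α.toMonoidHom).comap (emb hp.inList F₀.subtype), fun b => Iff.rfl⟩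
    have h1 : N = ⊤ := group_le hp N fun s t => by
      rw [hN]
      refine mem_L0 hp f F₀ hF₀ (hx _ (fix_L0 hp f F₀ hF₀ ⟨_, rfl⟩)) ⟨1, ?_⟩
      rw [pow_one, ← map_pow, ← map_pow, xs_pow_char hp, map_one, map_one]
    rintro _ ⟨b, rfl⟩
    show α (emb hp.inList F₀.subtype b) ∈ (emb hp.inList F₀.subtype).range
    rw [← hN, h1]
    exact mem_top _
  · refine eq_one_of_comm hp (locFin r) r (f.comp F₀.subtype) hZ fun b => ?_
    rw [← H28.GenF.emb_comp hp]
    exact hy _ ⟨b, rfl⟩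
  · obtain ⟨t, ht⟩ := exists_movedU (F := F) hn hpp hm hmn
    obtain ⟨s₁, hs₁, rfl⟩ := hP.ra
    obtain ⟨s₂, hs₂, rfl⟩ := hP.rb
    have h1 : ∀ s : ℕ, ∃ a ∈ L0 hp F₀, emb hp.inList f a = xc hp (vec D l s) 1 := fun s =>
      ⟨emb hp.inList F₀.subtype (xc hp (vec D l s) 1), ⟨_, rfl⟩, by
        rw [TowChev.emb_xc hp, TowChev.emb_xc hp, map_one, map_one]⟩
    have h2 : f (t ^ r ^ m) - f t = f (t ^ r ^ m - t) := (map_sub f _ _).symm
    refine fin_pair hp (emb_injective hp.inList f) hP (t := f t) (t' := f (t ^ r ^ m)) (fun h => ht (f.injective h))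
      ?_ ⟨_, TowChev.emb_xc hp f _ t⟩ ?_ (h1 _) (h1 _) hβ
    · rw [H378.TorChar.phi_xc hp r hs₁, map_pow]
    · rw [h2, ← map_inv₀]
      exact ⟨_, TowChev.emb_xc hp f _ _⟩

include hp in
/-- the level contains the group over the prime field -/
theorem prime_mem (f : F →+* KK r) (F₀ : Subfield F) [CharP ↥F₀ r] (b : ↥(D.group (ZMod r))) :
    ∃ a ∈ L0 hp F₀, emb hp.inList f a = emb hp.inList (algebraMap (ZMod r) (KK r)) b := by
  let _ : Algebra (ZMod r) ↥F₀ := ZMod.algebra _ r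
  refine ⟨_, ⟨emb hp.inList (algebraMap (ZMod r) ↥F₀) b, rfl⟩, ?_⟩
  rw [H28.GenF.emb_comp hp, H28.GenF.emb_comp hp]
  have h1 : (f.comp F₀.subtype).comp (algebraMap (ZMod r) ↥F₀) = algebraMap (ZMod r) (KK r) := Subsingleton.elim _ _
  rw [h1]

include hp in
/-- the Frobenius on the group over the prime field -/
theorem phi_prime (m : ℕ) (b : ↥(D.group (ZMod r))) :
    phi D (KK r) r m (emb hp.inList (algebraMap (ZMod r) (KK r)) b) = emb hp.inList (algebraMap (ZMod r) (KK r)) b := by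
  have h4 := phi_emb hp r (algebraMap (ZMod r) (KK r)) (n := 1) (by rw [Nat.card_zmod, pow_one]) b
  have h5 := H28.GenF.apply_pow h4 m
  rwa [phi_pow, one_mul] at h5

include hp in
/-- **No automorphism of field type of another order centralises the level.** -/
theorem no_centU (f : F →+* KK r) {m m' : ℕ} (hZ : center ↥(D.group (KK r)) = ⊥)
    (F₀ : Subfield F) (hF₀ : Nat.card ↥F₀ = r ^ m) (hmm : ¬ m ∣ m') {s : ℕ} (hs : s < D.nroots) (y : ↥(D.group (KK r))) :
    ¬ ∀ a ∈ L0 hp F₀, y * phi D (KK r) r m' (emb hp.inList f a) * y⁻¹ = emb hp.inList f a := by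
  intro hy1
  have hchar : CharP ↥F₀ r := (RingHom.charP_iff F₀.subtype F₀.subtype.injective r).2 inferInstance
  have h1 : y = 1 := by
    refine eq_one_of_comm hp (locFin r) r (algebraMap (ZMod r) (KK r)) hZ fun b => ?_
    obtain ⟨a, ha, e⟩ := prime_mem hp f F₀ b
    have h2 := hy1 a ha
    rw [e, phi_prime hp] at h2
    exact (mul_inv_eq_iff_eq_mul.1 h2)
  subst h1
  refine hmm ?_
  rw [← forall_pow_iff (F := ↥F₀) r hF₀ m']
  intro t
  have h3 := hy1 _ ⟨xc hp (vec D l s) t, rfl⟩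
  rw [H28.GenF.emb_comp hp, TowChev.emb_xc hp, one_mul, inv_one, mul_one, H378.TorChar.phi_xc hp r hs, ← map_pow] at h3
  exact (f.comp F₀.subtype).injective (xc_inj hp hs h3)

end untw

end Cfsg.Agent.H327.RG
end

-- part: H327/RG/SixA
section
prune_inst 0x700045040522020000000000220024606200019200600801414009400c80650305020100b190121089c022a4403c404811540149420000000a000600411901a080835002a2180d04560009808800000000000000000000000000000000000000000000000
set_option linter.all false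
open scoped Cfsg.Agent.FastGrp

/-!
# S3509: automorphisms of `E₆(q)`, the types

* `eq_one1`, `gr_em1`, `phi_em1`, `sig_em1` : the group `twistedE6 K 1` (fixed points of the graph automorphism);
* `sig6_56`, `no_fix56` : `sig6` moves a simple root element;
* `form6` : every automorphism of `E₆(F)` is induced by `conj z * phi m` or `conj z * sig6 m`;
* `Ty6u`, `ty6u` : the automorphisms of prime order.
-/

set_option autoImplicit false
set_option linter.unusedSectionVars false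

namespace Cfsg.Agent.H327.RG

open CoxeterSystem Subgroup Cfsg Cfsg.Lie Cfsg.Lie.ChevalleyDatum
open Cfsg.Agent.ChevalleyStructure Cfsg.Agent.ChevalleyStructure.Elts Cfsg.Agent.ChevalleyStructure.CoxeterGeom
  Cfsg.Agent.ChevalleyStructure.CoxeterGeomTypes Cfsg.Agent.ChevalleyStructure.NPerm
open Cfsg.Agent.Nodes.RGDChev Cfsg.Agent.KFacts.RgdChevCoord
open Cfsg.Agent.BpExc.TowChev Cfsg.Agent.BpExc.FamUntw Cfsg.Agent.BpExc.LangFr Cfsg.Agent.BpExc.FamField
  Cfsg.Agent.BpExc.RowsUntw Cfsg.Agent.BpExc.FamInst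
open Cfsg.Agent.ChevalleyStructure.GraphSymm (symmE6)
open Cfsg.Agent.ChevalleyStructure.TwE6Basic (hE6 single_mem pair_mem twisted_le_iff exists_frob)
open Cfsg.Agent.H522.FamTw.Frame (sig6 sig6_pow sig6_sq isFrob_sig6 fr_sig6)
open Cfsg.Agent.BpExc.FamTw.Six (em em_injective coe_em)
open Cfsg.Agent.BpExc.FamTw.Gr
open Cfsg.Agent.GpExc.Field (glMap emb coe_emb glMap_xG emb_injective coe_glMap glMap_injective)
open Cfsg.Agent.CpAut.RgdUntw
open Cfsg.Agent.H469.Exc Cfsg.Agent.H469.Exc.SigFr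
open Cfsg.Agent.H28.GenF
open Cfsg.Agent.H46.Gen
open Cfsg.Agent.H106.RC
open scoped commutatorElement

section Prime

variable {r : ℕ} [Fact r.Prime]

theorem eq_one1 {K₁ : Type} [Field K₁] [Fintype K₁] (f₁ : K₁ →+* KK r) {z : ↥(chevE6.group (KK r))}
    (hz : ∀ g : ↥(twistedE6 K₁ 1), z * em 1 f₁ g = em 1 f₁ g * z) : z = 1 :=
  H522.FamTw.Six.eq_one_of_comm (φ := RingHom.id K₁) (q := 1) (fun x => by rw [pow_one]; rfl)
    (fun t => by rw [pow_one, pow_one]) f₁ z hz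

theorem gr_em1 {K₁ : Type} [Field K₁] [Fintype K₁] (f₁ : K₁ →+* KK r) (g : ↥(twistedE6 K₁ 1)) :
    gr (L := KK r) hE6 symmE6 (em 1 f₁ g) = em 1 f₁ g := by
  have h1 := BpExc.FamTw.Six.sig_em (φ := RingHom.id K₁) (q := 1) (fun x => by rw [pow_one]; rfl)
    (fun t => by rw [pow_one, pow_one]) f₁ (Φ := (1 : KK r ≃+* KK r)) (fun a => rfl) g
  have h2 : fld chevE6 (1 : KK r ≃+* KK r) (em 1 f₁ g) = em 1 f₁ g := by
    rw [fld_one]
    rfl
  rwa [h2] at h1

/-- `em` through an embedding of the untwisted group -/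
theorem emb_em6 {K L k : Type} [Field K] [Field L] [Field k] {q : ℕ} (f : K →+* L) (g : L →+* k)
    (b : ↥(twistedE6 K q)) : emb e6T.inList g (em q f b) = em q (g.comp f) b := by
  apply Subtype.ext
  apply Units.ext
  rw [coe_emb, coe_em, coe_em, coe_glMap, coe_glMap, coe_glMap, Matrix.map_map]
  rfl

theorem emb_em6_id {K k : Type} [Field K] [Field k] {q : ℕ} (g : K →+* k)
    (b : ↥(twistedE6 K q)) : emb e6T.inList g (em q (RingHom.id K) b) = em q g b := by
  rw [emb_em6, RingHom.comp_id]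

/-- elements over the prime field -/
theorem phi_em1 (m : ℕ) (b : ↥(twistedE6 (ZMod r) 1)) :
    phi chevE6 (KK r) r m (em 1 (algebraMap (ZMod r) (KK r)) b) = em 1 (algebraMap (ZMod r) (KK r)) b := by
  rw [← emb_em6_id, phi_prime e6T]

theorem sig_em1 (m : ℕ) (b : ↥(twistedE6 (ZMod r) 1)) :
    sig6 (KK r) r m (em 1 (algebraMap (ZMod r) (KK r)) b) = em 1 (algebraMap (ZMod r) (KK r)) b := by
  show gr (L := KK r) hE6 symmE6 (phi chevE6 (KK r) r m (em 1 (algebraMap (ZMod r) (KK r)) b)) = _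
  rw [phi_em1, gr_em1]

/-- `sig6` on a simple root element -/
theorem sig6_56 (m : ℕ) (t : KK r) :
    sig6 (KK r) r m (xc e6T (vec chevE6 6 56) t) = xc e6T (vec chevE6 6 36) (t ^ r ^ m) := by
  have key : (symmE6.σ ⟨56, by decide +kernel⟩).val = 36 ∧ symmE6.ε ⟨56, by decide +kernel⟩ = 1 := by decide +kernel
  obtain ⟨h1, h2⟩ := key
  rw [MulAut.mul_apply, H378.TorChar.phi_xc e6T r (by decide : 56 < 72)]
  have h3 : xc e6T (vec chevE6 6 56) (t ^ r ^ m) = xg H522.FamTw.Frame.inListE6 56 (t ^ r ^ m) :=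
    Subtype.ext (coe_xc e6T (by decide : 56 < 72) _)
  have h4 : xc e6T (vec chevE6 6 36) (t ^ r ^ m) = xg H522.FamTw.Frame.inListE6 36 (t ^ r ^ m) :=
    Subtype.ext (coe_xc e6T (by decide : 36 < 72) _)
  rw [h3, h4, gr_xg H522.FamTw.Frame.inListE6 symmE6 ⟨56, by decide +kernel⟩, h1, h2, Int.cast_one, one_mul]

theorem x56_ne {L : Type} [Field L] {t u : L} (ht : t ≠ 0) :
    xc e6T (vec chevE6 6 56) t ≠ xc e6T (vec chevE6 6 36) u := by
  intro h
  have h0 : xG hE6 56 t = xG hE6 36 u := by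
    have h1 := congrArg Subtype.val h
    rwa [coe_xc e6T (by decide : 56 < 72), coe_xc e6T (by decide : 36 < 72)] at h1
  have p1 : chevE6.IsPosRoot 56 := by decide +kernel
  have p2 : chevE6.IsPosRoot 36 := by decide +kernel
  have hs : chevE6.simple 0 = 56 := by decide +kernel
  have h1 := H522.FamTw.Cent.co_word (hD := hE6) (F := L) (i := 0) (by decide +kernel) [(56, t)] (by
    intro x hx; rw [List.mem_singleton] at hx; subst hx; exact p1)
  have h2 := H522.FamTw.Cent.co_word (hD := hE6) (F := L) (i := 0) (by decide +kernel) [(36, u)] (by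
    intro x hx; rw [List.mem_singleton] at hx; subst hx; exact p2)
  have e : wordG hE6 [(56, t)] = wordG hE6 [(36, u)] := by
    rw [wordG_cons, wordG_cons, h0]
  rw [e] at h1
  have h3 := H522.FamTw.Cent.Co.unique (by decide +kernel) h1 h2
  rw [hs] at h3
  apply ht
  simpa using h3

/-- **`sig6 m` is not inner-diagonal on a level.** -/
theorem no_cent_sig {F : Type} [Field F] [Fintype F] [CharP F r] (f : F →+* KK r) (F₀ : Subfield F) (m : ℕ)
    (y : ↥(chevE6.group (KK r))) :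
    ¬ ∀ a ∈ L0 e6T F₀, y * sig6 (KK r) r m (emb e6T.inList f a) * y⁻¹ = emb e6T.inList f a := by
  intro hall
  have hchar : CharP ↥F₀ r := (RingHom.charP_iff F₀.subtype F₀.subtype.injective r).2 inferInstance
  have hy : y = 1 := by
    refine eq_one1 (algebraMap (ZMod r) (KK r)) fun b => ?_
    obtain ⟨a, ha, e⟩ := prime_mem e6T f F₀ (em 1 (RingHom.id (ZMod r)) b)
    rw [emb_em6_id] at e
    have h2 := hall a ha
    rw [e, sig_em1] at h2
    exact mul_inv_eq_iff_eq_mul.1 h2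
  subst hy
  have h2 := hall _ ⟨xc e6T (vec chevE6 6 56) 1, rfl⟩
  rw [H28.GenF.emb_comp e6T, BpExc.TowChev.emb_xc e6T, map_one, one_mul, inv_one, mul_one, sig6_56] at h2
  exact x56_ne one_ne_zero h2.symm

end Prime

section Form

variable {r : ℕ} [Fact r.Prime] {F : Type} [Field F] [Fintype F] [CharP F r]

/-- the graph automorphism over `F` and over `KK r` -/
theorem gr_emb (f : F →+* KK r) (a : ↥(chevE6.group F)) :
    emb e6T.inList f (gr e6T.inList symmE6 a) = gr (L := KK r) e6T.inList symmE6 (emb e6T.inList f a) := by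
  apply Subtype.ext
  rw [coe_gr, coe_emb, coe_emb, coe_gr, map_mul, map_mul, map_inv, glMap_P]

/-- **Every automorphism of `E₆(F)`.** -/
theorem form6 (f : F →+* KK r) (α : MulAut ↥(chevE6.group F)) : ∃ (m : ℕ) (z : ↥(chevE6.group (KK r))),
    (∀ a, emb e6T.inList f (α a) = z * phi chevE6 (KK r) r m (emb e6T.inList f a) * z⁻¹) ∨
    ∀ a, emb e6T.inList f (α a) = z * sig6 (KK r) r m (emb e6T.inList f a) * z⁻¹ := by
  obtain ⟨x, d, g, φ, hd, hg, hφ, h⟩ := Cfsg.Agent.S2156.result chevE6 (by simp) (α : ↥(chevE6.group F) ≃* _)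
  obtain ⟨τ, rfl⟩ := H296.ESixGF.eq_fld e6T hφ
  obtain ⟨m, hm⟩ := exists_pow_eq r τ
  obtain ⟨t, -, ht⟩ := H296.Core.diag_ext e6T f inv_E6 (by norm_num : (3 : ℕ) ≠ 0)
    (fun c _ => IsAlgClosed.exists_pow_nat_eq _ (by norm_num)) hd
  have hfld : ∀ a, emb e6T.inList f (fld chevE6 τ a) = phi chevE6 (KK r) r m (emb e6T.inList f a) := fun a =>
    (BpExc.FamExt.fld_emb e6T f (τ := τ) (τ' := frb (KK r) r m) (fun b => by rw [frb_apply, hm, map_pow]) a).symm
  refine ⟨m, emb e6T.inList f x * t, ?_⟩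
  have h0 : ∀ a, emb e6T.inList f (α a) =
      (emb e6T.inList f x * t) * emb e6T.inList f (g (fld chevE6 τ a)) * (emb e6T.inList f x * t)⁻¹ := by
    intro a
    have h1 : α a = x * d (g (fld chevE6 τ a)) * x⁻¹ := h a
    rw [h1, map_mul, map_mul, map_inv, ht]
    group
  by_cases hg1 : g = 1
  · left
    intro a
    rw [h0, hg1, ← hfld]
    rfl
  · right
    intro a
    have h2 : g = gr e6T.inList symmE6 := H296.ESixGF.eq_gr hg hg1
    rw [h0, h2, gr_emb, hfld]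
    rfl

/-- the graph type -/
def IsGr (f : F →+* KK r) (α : MulAut ↥(chevE6.group F)) : Prop :=
  ∃ y : ↥(chevE6.group (KK r)), ∀ a, emb e6T.inList f (α a) = y * gr (L := KK r) e6T.inList symmE6 (emb e6T.inList f a) * y⁻¹

/-- the types of the automorphisms of prime order of `E₆(F)` -/
def Ty6u (f : F →+* KK r) (n p : ℕ) (α : MulAut ↥(chevE6.group F)) : Prop :=
  (α ∈ InD (emb e6T.inList f) ∨ (p = 2 ∧ IsGr f α)) ∨
    (∃ m, 0 < m ∧ m * p = n ∧ Fl (emb e6T.inList f) p (phi chevE6 (KK r) r m) α) ∨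
    (p = 2 ∧ ∃ m, 0 < m ∧ m * 2 = n ∧ Fl (emb e6T.inList f) 2 (sig6 (KK r) r m) α)

theorem sig6_zero : sig6 (KK r) r 0 = gr (L := KK r) e6T.inList symmE6 := by
  show gr (L := KK r) hE6 symmE6 * phi chevE6 (KK r) r 0 = _
  rw [H296.ESixGF.phi_zero, mul_one]

/-- the Frobenius depends on the exponent modulo `n` -/
theorem phi_mod (f : F →+* KK r) {n : ℕ} (hn : Nat.card F = r ^ n) (m c : ℕ) (a : ↥(chevE6.group F)) :
    phi chevE6 (KK r) r (m + n * c) (emb e6T.inList f a) = phi chevE6 (KK r) r m (emb e6T.inList f a) := by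
  have h1 : phi chevE6 (KK r) r (n * c) (emb e6T.inList f a) = emb e6T.inList f a := by
    rw [← phi_pow]
    exact H28.GenF.apply_pow (phi_emb e6T r f hn a) c
  rw [← H296.Core.phi_mul, MulAut.mul_apply, h1]

/-- **Involutory automorphisms of `E₆(F)`.** -/
theorem ty6u_two (f : F →+* KK r) {n : ℕ} (hn : Nat.card F = r ^ n) (hn0 : 0 < n) {α : MulAut ↥(chevE6.group F)}
    (hα : α ^ 2 = 1) : Ty6u f n 2 α := by
  obtain ⟨m, z, h⟩ := form6 f α
  -- the square
  have hsq : ∀ (Γ : MulAut ↥(chevE6.group (KK r))), Γ ^ 2 = phi chevE6 (KK r) r (m * 2) →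
      (∀ b, Γ (em 1 (algebraMap (ZMod r) (KK r)) b) = em 1 (algebraMap (ZMod r) (KK r)) b) →
      (∀ a, emb e6T.inList f (α a) = z * Γ (emb e6T.inList f a) * z⁻¹) → n ∣ m * 2 := by
    intro Γ hΓ hΓ1 hz
    have h1 : ∀ a, (z * Γ z) * phi chevE6 (KK r) r (m * 2) (emb e6T.inList f a) * (z * Γ z)⁻¹ =
        emb e6T.inList f a := by
      intro a
      have h2 : (α ^ 2) a = a := by rw [hα]; rfl
      rw [pow_two, MulAut.mul_apply] at h2
      have h3 := hz (α a)
      rw [h2, hz, map_mul, map_mul, map_inv] at h3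
      conv_rhs => rw [h3]
      rw [← hΓ, pow_two, MulAut.mul_apply]
      group
    have h2 : z * Γ z = 1 := by
      refine eq_one1 (algebraMap (ZMod r) (KK r)) fun b => ?_
      obtain ⟨a, -, e⟩ := prime_mem e6T f (⊤ : Subfield F) (em 1 (RingHom.id (ZMod r)) b)
      rw [emb_em6_id] at e
      have h2 := h1 a
      rw [e, phi_em1] at h2
      exact mul_inv_eq_iff_eq_mul.1 h2
    rw [h2] at h1
    rw [← forall_pow_iff (F := F) r hn (m * 2)]
    intro t
    have h3 := h1 (xc e6T (vec chevE6 6 46) t)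
    rw [BpExc.TowChev.emb_xc e6T, one_mul, inv_one, mul_one, H378.TorChar.phi_xc e6T r (by decide : 46 < 72), ← map_pow] at h3
    exact f.injective (xc_inj e6T (by decide : 46 < 72) h3)
  have hdvd : n ∣ m * 2 := by
    rcases h with h | h
    · exact hsq _ (phi_pow r m 2) (fun b => phi_em1 m b) h
    · exact hsq _ (sig6_sq r m) (fun b => sig_em1 m b) h
  obtain ⟨c, hc⟩ := hdvd
  -- reduce `m`
  obtain ⟨m', c', hm, hm'⟩ : ∃ m' c', m = m' + n * c' ∧ (m' = 0 ∨ (0 < m' ∧ m' * 2 = n)) := by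
    rcases Nat.even_or_odd' c with ⟨c', rfl | rfl⟩
    · exact ⟨0, c', by rw [zero_add]; apply Nat.eq_of_mul_eq_mul_right (by norm_num : 0 < 2); rw [hc]; ring, Or.inl rfl⟩
    · have h2 : (m - n * c') * 2 = n := by
        have : m * 2 = n * c' * 2 + n := by rw [hc]; ring
        omega
      refine ⟨m - n * c', c', by
        have : m * 2 = n * c' * 2 + n := by rw [hc]; ring
        omega, Or.inr ⟨by omega, h2⟩⟩
  rcases h with h | h
  · have h' : ∀ a, emb e6T.inList f (α a) = z * phi chevE6 (KK r) r m' (emb e6T.inList f a) * z⁻¹ := by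
      intro a
      rw [h, hm, phi_mod f hn]
    rcases hm' with rfl | ⟨h1, h2⟩
    · left; left
      refine ⟨z, fun a => ?_⟩
      rw [h', H296.ESixGF.phi_zero]
      rfl
    · right; left
      exact ⟨m', h1, h2, 1, z, Nat.coprime_one_left 2, fun a => by rw [pow_one, h']; rfl⟩
  · have h' : ∀ a, emb e6T.inList f (α a) = z * sig6 (KK r) r m' (emb e6T.inList f a) * z⁻¹ := by
      intro a
      rw [h]
      show z * gr (L := KK r) hE6 symmE6 (phi chevE6 (KK r) r m (emb e6T.inList f a)) * z⁻¹ = _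
      rw [hm, phi_mod f hn]
      rfl
    rcases hm' with rfl | ⟨h1, h2⟩
    · left; right
      refine ⟨rfl, z, fun a => ?_⟩
      rw [h', sig6_zero]
    · right; right
      exact ⟨rfl, m', h1, h2, 1, z, Nat.coprime_one_left 2, fun a => by rw [pow_one, h']; rfl⟩

/-- **The automorphisms of prime order of `E₆(F)`.** -/
theorem ty6u (f : F →+* KK r) {n p : ℕ} (hn : Nat.card F = r ^ n) (hn0 : 0 < n) (hpp : p.Prime)
    {α : MulAut ↥(chevE6.group F)} (hα : α ^ p = 1) : Ty6u f n p α := by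
  by_cases hp2 : p = 2
  · subst hp2
    exact ty6u_two f hn hn0 hα
  · rcases cases_untw e6T inv_E6 three_ne_zero symTwo_E6 (S1054.result chevE6 (by simp))
      (S1054.result chevE6 (by simp)) hpp hp2 f hn hα with h | ⟨h1, h2, i, y, h3, h4⟩
    · exact Or.inl (Or.inl h)
    · exact Or.inr (Or.inl ⟨n / p, h2, h1, i, y, h3, h4⟩)

end Form

end Cfsg.Agent.H327.RG
end

-- part: H327/RG/SixU
section
set_option linter.all false
open scoped Cfsg.Agent.FastGrp

/-!
# S3509: `E₆(q)`, members of field or graph-field type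

* `lvGF` : the level `²E₆(q₀)`, `q = q₀²`, of a graph-field automorphism;
* `field_e6` : a cover for `E₆(q)` with a member which is neither inner-diagonal nor of graph type is impossible.
-/

set_option autoImplicit false
set_option linter.unusedSectionVars false

namespace Cfsg.Agent.H327.RG

open CoxeterSystem Subgroup Cfsg Cfsg.Lie Cfsg.Lie.ChevalleyDatum
open Cfsg.Agent.ChevalleyStructure Cfsg.Agent.ChevalleyStructure.Elts Cfsg.Agent.ChevalleyStructure.CoxeterGeom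
  Cfsg.Agent.ChevalleyStructure.CoxeterGeomTypes Cfsg.Agent.ChevalleyStructure.NPerm
open Cfsg.Agent.Nodes.RGDChev Cfsg.Agent.KFacts.RgdChevCoord
open Cfsg.Agent.BpExc.TowChev Cfsg.Agent.BpExc.FamUntw Cfsg.Agent.BpExc.LangFr Cfsg.Agent.BpExc.FamField
  Cfsg.Agent.BpExc.RowsUntw Cfsg.Agent.BpExc.FamInst
open Cfsg.Agent.ChevalleyStructure.GraphSymm (symmE6)
open Cfsg.Agent.ChevalleyStructure.TwE6Basic (hE6 single_mem pair_mem twisted_le_iff exists_frob)
open Cfsg.Agent.H522.FamTw.Frame (sig6 sig6_pow sig6_sq isFrob_sig6 fr_sig6)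
open Cfsg.Agent.BpExc.FamTw.Six (em em_injective coe_em)
open Cfsg.Agent.BpExc.FamTw.Gr
open Cfsg.Agent.GpExc.Field (glMap emb coe_emb glMap_xG emb_injective coe_glMap glMap_injective)
open Cfsg.Agent.CpAut.RgdUntw
open Cfsg.Agent.H469.Exc Cfsg.Agent.H469.Exc.SigFr
open Cfsg.Agent.H28.GenF
open Cfsg.Agent.H46.Gen
open Cfsg.Agent.H106.RC
open scoped commutatorElement

variable {r : ℕ} [Fact r.Prime] {F : Type} [Field F] [Fintype F] [CharP F r]

/-- the level of a graph-field automorphism -/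
noncomputable def L6 (F : Type) [Field F] (q : ℕ) : Subgroup ↥(chevE6.group F) := (em q (RingHom.id F)).range

theorem center6 : center ↥(chevE6.group (KK r)) = ⊥ := center_bot' (S1054.result chevE6 (by simp))

/-- **The level of a graph-field automorphism of `E₆(q²)`.** -/
theorem lvGF (f : F →+* KK r) {n m : ℕ} (hn : Nat.card F = r ^ n) (hm : 0 < m) (hmn : m * 2 = n)
    (hRC : RC ↥(twistedE6 F (r ^ m))) :
    Lv (emb e6T.inList f) (phi chevE6 (KK r) r n) 2 (sig6 (KK r) r m) (L6 F (r ^ m)) := by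
  have hr : r.Prime := Fact.out
  have hq₀ : IsPrimePow (r ^ m) := (isPrimePow_nat_iff _).2 ⟨r, m, hr, hm, rfl⟩
  have hF : Fintype.card F = (r ^ m) ^ 2 := by rw [← Nat.card_eq_fintype_card, hn, ← hmn, pow_mul]
  obtain ⟨φ, hφ, hqq⟩ := exists_frob hq₀ hF
  have hem : ∀ b, emb e6T.inList f (em (r ^ m) (RingHom.id F) b) = em (r ^ m) f b := fun b => emb_em6_id f b
  have hfixm : ∀ b, sig6 (KK r) r m (em (r ^ m) f b) = em (r ^ m) f b := fun b =>
    H522.FamTw.Six.sig6_em f r hφ hqq rfl b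
  obtain ⟨hs0, hs0'⟩ := Cfsg.Agent.S1070.result hq₀ hF
  let eL : ↥(twistedE6 F (r ^ m)) ≃* ↥(L6 F (r ^ m)) := MonoidHom.ofInjective (em_injective (RingHom.id F))
  have hs1 : IsSimpleGroup ↥(L6 F (r ^ m)) := isSimple_cgr0 eL hs0
  have hs2 : ¬ IsMulCommutative ↥(L6 F (r ^ m)) := fun hc => hs0' ⟨⟨fun a b => by
    apply eL.injective
    rw [map_mul, map_mul]
    exact hc.is_comm.comm _ _⟩⟩
  have hder : ⁅L6 F (r ^ m), L6 F (r ^ m)⁆ = L6 F (r ^ m) := perfect_of_simple hs1 hs2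
  refine
    { pow := by rw [sig6_sq, hmn]
      lang := fun h => ?_
      fixL := ?_
      charL := ?_
      centL := ?_
      simple := by rw [hder]; exact hs1
      ncomm := by rw [hder]; exact hs2
      rc := by rw [hder]; exact hRC.congr eL
      fin := fun β hβ => ?_ }
  · obtain ⟨z, hz⟩ := lang_all e6T CoxeterMatrix.E₆.toCoxeterSystem hm (isFrob_sig6 r m)
      (fr_sig6 (locFin r) r e6T CoxeterMatrix.E₆.toCoxeterSystem m) 1 h
    rw [map_one, one_mul] at hz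
    exact ⟨z, hz⟩
  · rintro _ ⟨b, rfl⟩
    rw [hem, hfixm]
  · intro x hx
    obtain ⟨N, hN⟩ : ∃ N : Subgroup ↥(twistedE6 F (r ^ m)), ∀ b, b ∈ N ↔
        x (em (r ^ m) (RingHom.id F) b) ∈ L6 F (r ^ m) :=
      ⟨((L6 F (r ^ m)).comap x.toMonoidHom).comap (em (r ^ m) (RingHom.id F)), fun b => Iff.rfl⟩
    have h1 : N = ⊤ := r_gen6 hq₀ hF N fun b hb => by
      rw [hN]
      have h2 := hx (em (r ^ m) (RingHom.id F) b) (by rw [hem, hfixm])
      obtain ⟨b', hb'⟩ := mem_of_pow6 hF hm rfl f h2 (j := 1) (by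
        rw [pow_one, ← map_pow, ← map_pow, ← map_pow, hb, map_one, map_one, map_one])
      exact ⟨b', emb_injective e6T.inList f (by rw [hem, hb'])⟩
    rintro _ ⟨b, rfl⟩
    rw [← hN, h1]
    exact mem_top _
  · intro y hy
    exact H522.FamTw.Six.eq_one_of_comm hφ hqq f y fun b => by
      rw [← hem]
      exact hy _ ⟨b, rfl⟩
  · obtain ⟨t, ht⟩ := exists_movedU (F := F) hn Nat.prime_two hm hmn
    have h1 : ∀ {s : ℕ}, s ∈ [46, 39] → ∃ a ∈ L6 F (r ^ m), emb e6T.inList f a = xc e6T (vec chevE6 6 s) 1 := by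
      intro s hs
      obtain ⟨a, ha⟩ := mem_range6 (q := r ^ m) f hs (t := (1 : F)) (one_pow _)
      exact ⟨_, ⟨a, rfl⟩, by rw [hem, ha, map_one]⟩
    have h2 : f (t ^ r ^ m) - f t = f (t ^ r ^ m - t) := (map_sub f _ _).symm
    refine fin_pair e6T (emb_injective e6T.inList f) pr6 (t := f t) (t' := f (t ^ r ^ m)) (fun h => ht (f.injective h))
      ?_ ⟨_, BpExc.TowChev.emb_xc e6T f _ t⟩ ?_ (h1 (by simp)) (h1 (by simp)) hβ
    · rw [sig6_x (by simp), map_pow]
    · rw [h2, ← map_inv₀]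
      exact ⟨_, BpExc.TowChev.emb_xc e6T f _ _⟩

/-- no field automorphism of odd order centralises `²E₆(q₀)` -/
theorem no_centGF (f : F →+* KK r) {n m m' p' : ℕ} (hn : Nat.card F = r ^ n) (hm : 0 < m) (hmn : m * 2 = n)
    (hpp' : p'.Prime) (hp2' : p' ≠ 2) (hmn' : m' * p' = n) (y : ↥(chevE6.group (KK r))) :
    ¬ ∀ a ∈ L6 F (r ^ m), y * phi chevE6 (KK r) r m' (emb e6T.inList f a) * y⁻¹ = emb e6T.inList f a := by
  intro hall
  have hF : Fintype.card F = (r ^ m) ^ 2 := by rw [← Nat.card_eq_fintype_card, hn, ← hmn, pow_mul]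
  let _ : Algebra (ZMod r) F := ZMod.algebra _ r
  have hf1 : ∀ t : ZMod r, algebraMap (ZMod r) F (t ^ 1) = algebraMap (ZMod r) F t ^ r ^ m := by
    intro t
    rw [pow_one, ← map_pow]
    congr 1
    exact ((forall_pow_iff (F := ZMod r) r (n := 1) (by rw [Nat.card_zmod, pow_one]) m).2 (one_dvd m) t).symm
  have hy : y = 1 := by
    refine eq_one1 (algebraMap (ZMod r) (KK r)) fun b => ?_
    have h1 := hall _ ⟨res6 (algebraMap (ZMod r) F) hf1 b, rfl⟩
    have h2 : f.comp (algebraMap (ZMod r) F) = algebraMap (ZMod r) (KK r) := Subsingleton.elim _ _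
    rw [emb_em6_id, em_res6, h2, phi_em1] at h1
    exact mul_inv_eq_iff_eq_mul.1 h1
  subst hy
  have h1 : m ∣ m' := by
    refine dvd6 hF hm rfl fun t ht => ?_
    obtain ⟨a, ha⟩ := mem_range6 (q := r ^ m) f (s := 46) (by simp) ht
    have h2 := hall _ ⟨a, rfl⟩
    rw [emb_em6_id, ha, one_mul, inv_one, mul_one, H378.TorChar.phi_xc e6T r (by decide : 46 < 72), ← map_pow] at h2
    exact f.injective (xc_inj e6T (by decide : 46 < 72) h2)
  obtain ⟨c, rfl⟩ := h1
  have h3 : c * p' = 2 := by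
    have : m * (c * p') = m * 2 := by rw [hmn, ← hmn']; ring
    exact Nat.eq_of_mul_eq_mul_left hm this
  have h4 : p' ∣ 2 := ⟨c, by rw [← h3]; ring⟩
  exact hp2' ((Nat.prime_dvd_prime_iff_eq hpp' Nat.prime_two).1 h4)

/-- **`E₆(q)`: a cover with a member which is neither inner-diagonal nor of graph type is impossible.** -/
theorem field_e6 (f : F →+* KK r) {n : ℕ} (hn : Nat.card F = r ^ n) (hn0 : 0 < n)
    (hRC : ∀ F₀ : Subfield F, Nat.card ↥F₀ < Nat.card F →
      IsSimpleGroup ↥⁅L0 e6T F₀, L0 e6T F₀⁆ ∧ ¬ IsMulCommutative ↥⁅L0 e6T F₀, L0 e6T F₀⁆ ∧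
        RC ↥⁅L0 e6T F₀, L0 e6T F₀⁆)
    (hRC2 : ∀ q₀ : ℕ, IsPrimePow q₀ → Fintype.card F = q₀ ^ 2 → RC ↥(twistedE6 F q₀))
    {G Ω ι : Type*} [Group G] [MulAction G Ω] [Nonempty Ω] [Finite ι] {N : Subgroup G} (hE : Env G Ω N)
    (e : N ≃* ↥(chevE6.group F)) {x : ι → G} {s : ι → ℕ} (hx : PF x s) (hcov : Cov Ω x) {i₀ : ι}
    (hi₀ : act hE e (x i₀) ∉ InD (emb e6T.inList f)) (hg₀ : ¬ (s i₀ = 2 ∧ IsGr f (act hE e (x i₀)))) : False := by
  have hr : r.Prime := Fact.out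
  have hpr : Pr chevE6 6 (vec chevE6 6 46) (vec chevE6 6 39) := pr6
  have hT : ∀ j, Ty6u f n (s j) (act hE e (x j)) := fun j => ty6u f hn hn0 (hx.prime j) (by
    rw [← map_pow, hx.pow, map_one])
  have hpp := hx.prime i₀
  have hs46 : 46 < chevE6.nroots := by decide +kernel
  -- a prime dividing ...
  have key : ∀ {p p' m m' : ℕ}, p.Prime → p'.Prime → p' ≠ p → 0 < m → m * p = n → m' * p' = n → ¬ m ∣ m' := by
    intro p p' m m' h1 h2 h3 hm h4 h5 h6
    obtain ⟨c, rfl⟩ := h6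
    have h7 : c * p' = p := by
      have : m * (c * p') = m * p := by rw [h4, ← h5]; ring
      exact Nat.eq_of_mul_eq_mul_left hm this
    have h8 : p' ∣ p := ⟨c, by rw [← h7]; ring⟩
    exact h3 ((Nat.prime_dvd_prime_iff_eq h2 h1).1 h8)
  rcases hT i₀ with (h | h) | ⟨m, hm, hmn, hFl⟩ | ⟨hp2, m, hm, hmn, hFl⟩
  · exact hi₀ h
  · exact hg₀ h
  · -- field type
    have : Fact (s i₀).Prime := ⟨hpp⟩
    obtain ⟨F₀, hF₀, hFF⟩ := H192.Fc.exists_subfield (p := s i₀) r hm hmn hn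
    obtain ⟨hLs, hLn, hLRC⟩ := hRC F₀ (by
      rw [hFF]
      have h1 : 1 < Nat.card ↥F₀ := by
        rw [hF₀]; exact Nat.one_lt_pow hm.ne' hr.one_lt
      calc Nat.card ↥F₀ = Nat.card ↥F₀ ^ 1 := (pow_one _).symm
        _ < Nat.card ↥F₀ ^ s i₀ := Nat.pow_lt_pow_right h1 hpp.one_lt)
    refine field_abs (frU e6T f hn center6) (lvU e6T hpr f hn hpp hm hmn center6 F₀ hF₀ hLs hLn hLRC) hE e hx hcov rfl
      hFl fun j hj => ?_
    have hne : s j ≠ s i₀ := fun h => hj (hx.inj h)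
    rcases hT j with (h | ⟨h2, y, hy⟩) | ⟨m', hm', hmn', hFl'⟩ | ⟨hp2', m', hm', hmn', hFl'⟩
    · exact Or.inl h
    · refine Or.inr ⟨sig6 (KK r) r 0, ⟨1, y, Nat.coprime_one_left _, fun a => ?_⟩, no_cent_sig f F₀ 0⟩
      rw [pow_one, hy, sig6_zero]
      rfl
    · exact Or.inr ⟨_, hFl', no_centU e6T f center6 F₀ hF₀ (key hpp (hx.prime j) hne hm hmn hmn') hs46⟩
    · refine Or.inr ⟨_, ?_, no_cent_sig f F₀ m'⟩
      rw [hp2']
      exact hFl'
  · -- graph-field type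
    have hmn' : m * s i₀ = n := by rw [hp2, hmn]
    have hlv := lvGF f hn hm hmn (hRC2 (r ^ m) ((isPrimePow_nat_iff _).2 ⟨r, m, hr, hm, rfl⟩) (by
      rw [← Nat.card_eq_fintype_card, hn, ← hmn, pow_mul]))
    refine field_abs (frU e6T f hn center6) hlv hE e hx hcov hp2 hFl fun j hj => ?_
    have hne : s j ≠ 2 := fun h => hj (hx.inj (h.trans hp2.symm))
    rcases hT j with (h | ⟨h2, -⟩) | ⟨m', hm', hmn', hFl'⟩ | ⟨hp2', -⟩
    · exact Or.inl h
    · exact absurd h2 hne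
    · exact Or.inr ⟨_, hFl', no_centGF f hn hm hmn (hx.prime j) hne hmn'⟩
    · exact absurd hp2' hne

/-- the members of a cover for `E₆(q)` -/
theorem inD_or_gr (f : F →+* KK r) {n : ℕ} (hn : Nat.card F = r ^ n) (hn0 : 0 < n)
    (hRC : ∀ F₀ : Subfield F, Nat.card ↥F₀ < Nat.card F →
      IsSimpleGroup ↥⁅L0 e6T F₀, L0 e6T F₀⁆ ∧ ¬ IsMulCommutative ↥⁅L0 e6T F₀, L0 e6T F₀⁆ ∧
        RC ↥⁅L0 e6T F₀, L0 e6T F₀⁆)
    (hRC2 : ∀ q₀ : ℕ, IsPrimePow q₀ → Fintype.card F = q₀ ^ 2 → RC ↥(twistedE6 F q₀))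
    {G Ω ι : Type*} [Group G] [MulAction G Ω] [Nonempty Ω] [Finite ι] {N : Subgroup G} (hE : Env G Ω N)
    (e : N ≃* ↥(chevE6.group F)) {x : ι → G} {s : ι → ℕ} (hx : PF x s) (hcov : Cov Ω x) (i : ι) :
    act hE e (x i) ∈ InD (emb e6T.inList f) ∨ (s i = 2 ∧ IsGr f (act hE e (x i))) := by
  by_contra hcon
  rw [not_or] at hcon
  exact field_e6 f hn hn0 hRC hRC2 hE e hx hcov hcon.1 hcon.2

end Cfsg.Agent.H327.RG
end

-- part: H327/RG/TwSixG
section
prune_inst 0x700045040522020000000000020024606200019000600c01456008400c80654305020100b090121089c02aa4403c404811540149420000000a000600411901a080835002a2180d04560009808800000000000000000000000000000000000000000000000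
set_option linter.all false
open scoped Cfsg.Agent.FastGrp

/-!
# S3509: `²E₆(q)`, involutory automorphisms, covers with a member of field type and a member of graph type

* `IsGrT`, `two_te6` : an automorphism of order 2 is inner-diagonal or of graph type;
* `inD_or_gr_te6` : the members of a cover are inner-diagonal or of order 2 and graph type.
-/

set_option autoImplicit false
set_option linter.unusedSectionVars false

namespace Cfsg.Agent.H327.RG

open CoxeterSystem Subgroup Cfsg Cfsg.Lie Cfsg.Lie.ChevalleyDatum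
open Cfsg.Agent.ChevalleyStructure Cfsg.Agent.ChevalleyStructure.Elts Cfsg.Agent.ChevalleyStructure.CoxeterGeom
  Cfsg.Agent.ChevalleyStructure.CoxeterGeomTypes Cfsg.Agent.ChevalleyStructure.NPerm
open Cfsg.Agent.Nodes.RGDChev Cfsg.Agent.KFacts.RgdChevCoord
open Cfsg.Agent.BpExc.TowChev Cfsg.Agent.BpExc.FamUntw Cfsg.Agent.BpExc.LangFr Cfsg.Agent.BpExc.FamField
  Cfsg.Agent.BpExc.RowsUntw Cfsg.Agent.BpExc.FamInst
open Cfsg.Agent.ChevalleyStructure.GraphSymm (symmE6)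
open Cfsg.Agent.ChevalleyStructure.TwE6Basic (hE6 single_mem pair_mem twisted_le_iff exists_frob)
open Cfsg.Agent.H522.FamTw.Frame (sig6 sig6_pow sig6_sq isFrob_sig6 fr_sig6)
open Cfsg.Agent.BpExc.FamTw.Six (em em_injective coe_em)
open Cfsg.Agent.BpExc.FamTw.Gr
open Cfsg.Agent.GpExc.Field (glMap emb coe_emb glMap_xG emb_injective coe_glMap glMap_injective)
open Cfsg.Agent.CpAut.RgdUntw
open Cfsg.Agent.H469.Exc Cfsg.Agent.H469.Exc.SigFr
open Cfsg.Agent.H28.GenF
open Cfsg.Agent.H46.Gen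
open Cfsg.Agent.H106.RC
open scoped commutatorElement

variable {r : ℕ} [Fact r.Prime]

section T

variable {K : Type} [Field K] [Fintype K] [CharP K r] {q : ℕ}

/-- the graph type -/
def IsGrT (f : K →+* KK r) (α : MulAut ↥(twistedE6 K q)) : Prop :=
  ∃ y : ↥(chevE6.group (KK r)), ∀ a, em q f (α a) = y * gr (L := KK r) e6T.inList symmE6 (em q f a) * y⁻¹

theorem res_prime (K : Type) [Field K] [CharP K r] [Algebra (ZMod r) K] (m : ℕ) (t : ZMod r) :
    algebraMap (ZMod r) K (t ^ 1) = algebraMap (ZMod r) K t ^ r ^ m := by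
  rw [pow_one, ← map_pow]
  congr 1
  exact ((forall_pow_iff (F := ZMod r) r (n := 1) (by rw [Nat.card_zmod, pow_one]) m).2 (one_dvd m) t).symm

/-- the prime group inside `²E₆(q)` -/
theorem prime_mem6 (f : K →+* KK r) (m : ℕ) (b : ↥(twistedE6 (ZMod r) 1)) :
    ∃ a : ↥(twistedE6 K (r ^ m)), em (r ^ m) f a = em 1 (algebraMap (ZMod r) (KK r)) b := by
  let _ : Algebra (ZMod r) K := ZMod.algebra _ r
  refine ⟨res6 (algebraMap (ZMod r) K) (res_prime K m) b, ?_⟩
  have h2 : f.comp (algebraMap (ZMod r) K) = algebraMap (ZMod r) (KK r) := Subsingleton.elim _ _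
  rw [em_res6, h2]

/-- **Automorphisms of order 2 of `²E₆(q)`.** -/
theorem two_te6 (hq : IsPrimePow q) (hK : Fintype.card K = q ^ 2) (f : K →+* KK r) {n : ℕ} (hn : q = r ^ n)
    {α : MulAut ↥(twistedE6 K q)} (hα : α ^ 2 = 1) : α ∈ InD (em q f) ∨ IsGrT f α := by
  obtain ⟨φ, hφ, hqq⟩ := exists_frob hq hK
  have hΦ : ∀ a, frb (KK r) r n (f a) = f (φ a) := by
    intro a
    rw [frb_apply, hφ, map_pow, hn]
  have hW : Finite CoxeterMatrix.F₄.Group := Nodes.RGDFold.finite_W (hp := Nodes.RGDTwE6.hp)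
    CoxeterMatrix.F₄.toCoxeterSystem Nodes.RGDTwE6.isCartan Nodes.RGDTwE6.foldData
  obtain ⟨-, τ, y, -, -, hy⟩ := BpExc.FamTw.Six.exists_lift hφ hqq CoxeterMatrix.F₄.toCoxeterSystem r f hK hq.one_lt
    (fun a => IsAlgClosed.exists_pow_nat_eq (f a) (by norm_num)) hΦ α
  obtain ⟨m, hm⟩ := exists_pow_eq r τ
  have hy' : ∀ a, em q f (α a) = y * phi chevE6 (KK r) r m (em q f a) * y⁻¹ := fun a => by
    rw [hy, H522.FamTw.Six.em_st f r hm]
  -- the square
  have h1 : ∀ a, (y * phi chevE6 (KK r) r m y) * phi chevE6 (KK r) r (m * 2) (em q f a) *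
      (y * phi chevE6 (KK r) r m y)⁻¹ = em q f a := by
    intro a
    have h2 : (α ^ 2) a = a := by rw [hα]; rfl
    rw [pow_two, MulAut.mul_apply] at h2
    have h3 := hy' (α a)
    rw [h2, hy', map_mul, map_mul, map_inv] at h3
    conv_rhs => rw [h3]
    rw [← phi_pow, pow_two, MulAut.mul_apply]
    group
  have h2 : y * phi chevE6 (KK r) r m y = 1 := by
    refine eq_one1 (algebraMap (ZMod r) (KK r)) fun b => ?_
    subst hn
    obtain ⟨a, e⟩ := prime_mem6 f n b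
    have h2 := h1 a
    rw [e, phi_em1] at h2
    exact mul_inv_eq_iff_eq_mul.1 h2
  rw [h2] at h1
  have hdvd : n ∣ m * 2 := by
    by_cases hn0 : n = 0
    · exfalso
      rw [hn, hn0, pow_zero] at hq
      exact hq.ne_one rfl
    refine dvd6 hK (by omega) hn fun t ht => ?_
    obtain ⟨a, ha⟩ := mem_range6 (q := q) f (s := 46) (by simp) ht
    have h3 := h1 a
    rw [ha, one_mul, inv_one, mul_one, H378.TorChar.phi_xc e6T r (by decide : 46 < 72), ← map_pow] at h3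
    exact f.injective (xc_inj e6T (by decide : 46 < 72) h3)
  -- `phi n` is the graph automorphism
  have hgr : ∀ a, phi chevE6 (KK r) r n (em q f a) = gr (L := KK r) e6T.inList symmE6 (em q f a) := by
    intro a
    have h3 := congrArg (gr (L := KK r) e6T.inList symmE6) (H522.FamTw.Six.sig6_em f r hφ hqq hn a)
    rw [← h3]
    exact (H522.FamTw.Six.gr_gr6 _).symm
  have h2n : ∀ c (a : ↥(twistedE6 K q)), phi chevE6 (KK r) r (n * 2 * c) (em q f a) = em q f a := by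
    intro c a
    have h3 : phi chevE6 (KK r) r (n * 2) (em q f a) = em q f a := by
      rw [← sig6_sq]
      exact H28.GenF.apply_pow (H522.FamTw.Six.sig6_em f r hφ hqq hn a) 2
    rw [← phi_pow]
    exact H28.GenF.apply_pow h3 c
  have hcomm : ∀ (i j : ℕ) (z : ↥(chevE6.group (KK r))), phi chevE6 (KK r) r (i + j) z =
      phi chevE6 (KK r) r i (phi chevE6 (KK r) r j z) := by
    intro i j z
    rw [← MulAut.mul_apply, H296.Core.phi_mul]
  -- `2n` divides `2m`
  have hdvd2 : n ∣ m := by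
    by_cases hn0 : n = 0
    · exfalso
      rw [hn, hn0, pow_zero] at hq
      exact hq.ne_one rfl
    have h3 : n * 2 ∣ m * 2 := by
      have hK' : Nat.card K = r ^ (n * 2) := by rw [Nat.card_eq_fintype_card, hK, hn, ← pow_mul]
      rw [← forall_pow_iff (F := K) r hK']
      intro t
      -- the element `x_56(t) x_36(t ^ q)`
      obtain ⟨b, hb⟩ : ∃ b : ↥(twistedE6 K q), b = ⟨xG hE6 56 t * xG hE6 36 (t ^ q), pair_mem t (rs := (56, 36)) (by simp)⟩ :=
        ⟨_, rfl⟩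
      have h4 := h1 b
      have h5 : em q f b = xc e6T (vec chevE6 6 56) (f t) * xc e6T (vec chevE6 6 36) (f t ^ q) := by
        apply Subtype.ext
        rw [coe_em, Subgroup.coe_mul, coe_xc e6T (by decide : 56 < 72), coe_xc e6T (by decide : 36 < 72), hb,
          ← map_pow]
        show glMap chevE6 f (xG hE6 56 t * xG hE6 36 (t ^ q)) = _
        rw [map_mul, glMap_xG, glMap_xG]
      rw [h5, one_mul, inv_one, mul_one, map_mul, H378.TorChar.phi_xc e6T r (by decide : 56 < 72),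
        H378.TorChar.phi_xc e6T r (by decide : 36 < 72)] at h4
      have h6 := congrArg Subtype.val h4
      rw [Subgroup.coe_mul, Subgroup.coe_mul, coe_xc e6T (by decide : 56 < 72), coe_xc e6T (by decide : 36 < 72),
        coe_xc e6T (by decide : 56 < 72), coe_xc e6T (by decide : 36 < 72)] at h6
      have p1 : chevE6.IsPosRoot 56 := by decide +kernel
      have p2 : chevE6.IsPosRoot 36 := by decide +kernel
      have hs : chevE6.simple 0 = 56 := by decide +kernel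
      have hw : ∀ (t u : KK r), ∀ x ∈ [(56, t), (36, u)], chevE6.IsPosRoot x.1 := by
        intro t u x hx
        simp only [List.mem_cons, List.not_mem_nil, or_false] at hx
        rcases hx with rfl | rfl
        · exact p1
        · exact p2
      have h7 := H522.FamTw.Cent.co_word (hD := hE6) (F := KK r) (i := 0) (by decide +kernel) _
        (hw (f t ^ r ^ (m * 2)) ((f t ^ q) ^ r ^ (m * 2)))
      have h8 := H522.FamTw.Cent.co_word (hD := hE6) (F := KK r) (i := 0) (by decide +kernel) _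
        (hw (f t) (f t ^ q))
      have e : wordG hE6 [(56, f t ^ r ^ (m * 2)), (36, (f t ^ q) ^ r ^ (m * 2))] =
          wordG hE6 [(56, f t), (36, f t ^ q)] := by
        rw [wordG_cons, wordG_cons, wordG_cons, wordG_cons, wordG_nil, mul_one, mul_one]
        exact h6
      rw [e] at h7
      have h9 := H522.FamTw.Cent.Co.unique (by decide +kernel) h7 h8
      rw [hs] at h9
      have h10 : f t ^ r ^ (m * 2) = f t := by simpa using h9
      exact f.injective (by rw [map_pow, h10])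
    exact Nat.dvd_of_mul_dvd_mul_right (by norm_num) h3
  obtain ⟨c, rfl⟩ := hdvd2
  rcases Nat.even_or_odd' c with ⟨c', rfl | rfl⟩
  · left
    refine ⟨y, fun a => ?_⟩
    rw [hy', ← mul_assoc, h2n]
  · right
    refine ⟨y, fun a => ?_⟩
    rw [hy', show n * (2 * c' + 1) = n + n * 2 * c' by ring, hcomm, h2n, hgr]

/-- graph type does not centralise the level -/
theorem no_cent_gr6 {q : ℕ} (f : K →+* KK r) {m : ℕ} (hm : 0 < m) {K₀ : Subfield K}
    (hK₀ : Nat.card ↥K₀ = (r ^ m) ^ 2) (hf : ∀ t : ↥K₀, K₀.subtype (t ^ r ^ m) = K₀.subtype t ^ q)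
    (y : ↥(chevE6.group (KK r))) :
    ¬ ∀ a ∈ (res6 K₀.subtype hf).range, y * sig6 (KK r) r 0 (em q f a) * y⁻¹ = em q f a := by
  intro hall
  have hchar : CharP ↥K₀ r := (RingHom.charP_iff K₀.subtype K₀.subtype.injective r).2 inferInstance
  have hfin : Fintype ↥K₀ := Fintype.ofFinite _
  have hr : r.Prime := Fact.out
  have hall' : ∀ b : ↥(twistedE6 ↥K₀ (r ^ m)), y * sig6 (KK r) r 0 (em (r ^ m) (f.comp K₀.subtype) b) * y⁻¹ =
      em (r ^ m) (f.comp K₀.subtype) b := by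
    intro b
    have h1 := hall _ ⟨b, rfl⟩
    rwa [em_res6] at h1
  have hy : y = 1 := by
    refine eq_one1 (algebraMap (ZMod r) (KK r)) fun b => ?_
    obtain ⟨a, e⟩ := prime_mem6 (f.comp K₀.subtype) m b
    have h2 := hall' a
    rw [e, sig_em1] at h2
    exact mul_inv_eq_iff_eq_mul.1 h2
  subst hy
  -- a parameter of `K₀` moved by the power `r ^ m`
  have h0 : ∀ t : ↥K₀, t ^ r ^ m = t := by
    intro t
    obtain ⟨b, hb⟩ : ∃ b : ↥(twistedE6 ↥K₀ (r ^ m)), b =
        ⟨xG hE6 56 t * xG hE6 36 (t ^ r ^ m), pair_mem t (rs := (56, 36)) (by simp)⟩ := ⟨_, rfl⟩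
    obtain ⟨g, hg⟩ : ∃ g : ↥K₀ →+* KK r, g = f.comp K₀.subtype := ⟨_, rfl⟩
    have h4 := hall' b
    rw [← hg] at h4
    have h5 : em (r ^ m) g b = xc e6T (vec chevE6 6 56) (g t) * xc e6T (vec chevE6 6 36) (g t ^ r ^ m) := by
      apply Subtype.ext
      rw [coe_em, Subgroup.coe_mul, coe_xc e6T (by decide : 56 < 72), coe_xc e6T (by decide : 36 < 72), hb,
        ← map_pow]
      show glMap chevE6 g (xG hE6 56 t * xG hE6 36 (t ^ r ^ m)) = _
      rw [map_mul, glMap_xG, glMap_xG]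
    have key : (symmE6.σ ⟨36, by decide +kernel⟩).val = 56 ∧ symmE6.ε ⟨36, by decide +kernel⟩ = 1 := by decide +kernel
    have h36 : ∀ u : KK r, sig6 (KK r) r 0 (xc e6T (vec chevE6 6 36) u) = xc e6T (vec chevE6 6 56) u := by
      intro u
      obtain ⟨h1, h2⟩ := key
      rw [sig6_zero]
      have h3 : xc e6T (vec chevE6 6 36) u = xg e6T.inList 36 u :=
        Subtype.ext (coe_xc e6T (by decide : 36 < 72) _)
      have h4 : xc e6T (vec chevE6 6 56) u = xg e6T.inList 56 u :=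
        Subtype.ext (coe_xc e6T (by decide : 56 < 72) _)
      rw [h3, h4, gr_xg e6T.inList symmE6 ⟨36, by decide +kernel⟩, h1, h2, Int.cast_one, one_mul]
    rw [h5, one_mul, inv_one, mul_one, map_mul, sig6_56, h36, pow_zero, pow_one] at h4
    have h6 := congrArg Subtype.val h4
    rw [Subgroup.coe_mul, Subgroup.coe_mul, coe_xc e6T (by decide : 56 < 72), coe_xc e6T (by decide : 36 < 72),
      coe_xc e6T (by decide : 56 < 72), coe_xc e6T (by decide : 36 < 72)] at h6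
    have p1 : chevE6.IsPosRoot 56 := by decide +kernel
    have p2 : chevE6.IsPosRoot 36 := by decide +kernel
    have hs : chevE6.simple 0 = 56 := by decide +kernel
    have h7 := H522.FamTw.Cent.co_word (hD := hE6) (F := KK r) (i := 0) (by decide +kernel)
      [(36, g t), (56, g t ^ r ^ m)] (by
        intro x hx
        simp only [List.mem_cons, List.not_mem_nil, or_false] at hx
        rcases hx with rfl | rfl
        · exact p2
        · exact p1)
    have h8 := H522.FamTw.Cent.co_word (hD := hE6) (F := KK r) (i := 0) (by decide +kernel)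
      [(56, g t), (36, g t ^ r ^ m)] (by
        intro x hx
        simp only [List.mem_cons, List.not_mem_nil, or_false] at hx
        rcases hx with rfl | rfl
        · exact p1
        · exact p2)
    have e : wordG hE6 [(36, g t), (56, g t ^ r ^ m)] = wordG hE6 [(56, g t), (36, g t ^ r ^ m)] := by
      rw [wordG_cons, wordG_cons, wordG_cons, wordG_cons, wordG_nil, mul_one, mul_one]
      exact h6
    rw [e] at h7
    have h9 := H522.FamTw.Cent.Co.unique (by decide +kernel) h7 h8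
    rw [hs] at h9
    have h10 : g t ^ r ^ m = g t := by simpa using h9
    exact g.injective (by rw [map_pow, h10])
  have hK₀' : Nat.card ↥K₀ = r ^ (m * 2) := by rw [hK₀, ← pow_mul]
  have h1 := (forall_pow_iff (F := ↥K₀) r hK₀' m).1 h0
  exact absurd (Nat.le_of_dvd hm h1) (by omega)

/-- **`²E₆(q)`: the members of a cover are inner-diagonal or of order 2 and graph type.** -/
theorem inD_or_gr_te6' (hq : IsPrimePow q) (hK : Fintype.card K = q ^ 2) (f : K →+* KK r) {n : ℕ} (hn : q = r ^ n)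
    (hn0 : 0 < n)
    (hRC : ∀ (K₀ : Subfield K) (q₀ : ℕ), IsPrimePow q₀ → Nat.card ↥K₀ = q₀ ^ 2 → q₀ < q →
      (∀ t : ↥K₀, K₀.subtype (t ^ q₀) = K₀.subtype t ^ q) → RC ↥(twistedE6 ↥K₀ q₀))
    {G Ω ι : Type*} [Group G] [MulAction G Ω] [Nonempty Ω] [Finite ι] {N : Subgroup G} (hE : Env G Ω N)
    (e : N ≃* ↥(twistedE6 K q)) {x : ι → G} {s : ι → ℕ} (hx : PF x s) (hcov : Cov Ω x) (i₀ : ι) :
    act hE e (x i₀) ∈ InD (em q f) ∨ (s i₀ = 2 ∧ IsGrT f (act hE e (x i₀))) := by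
  have hT : ∀ j, Ty6 q f n (s j) (act hE e (x j)) ∨ (s j = 2 ∧ IsGrT f (act hE e (x j))) := by
    intro j
    have h1 : act hE e (x j) ^ s j = 1 := by rw [← map_pow, hx.pow, map_one]
    by_cases h2 : s j = 2
    · rw [h2] at h1
      rcases two_te6 hq hK f hn h1 with h | h
      · exact Or.inl (Or.inl h)
      · exact Or.inr ⟨h2, h⟩
    · exact Or.inl (ty6_of_odd hq hK f hn (hx.prime j) h2 h1)
  by_contra hcon
  rw [not_or] at hcon
  obtain ⟨hp2, m, hm, hmn, hFl⟩ := ((hT i₀).resolve_right hcon.2).resolve_left hcon.1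
  obtain ⟨K₀, hK₀, hf⟩ := exists_sub6 hK hn (hx.prime i₀) hp2 hm hmn
  have hr : r.Prime := Fact.out
  have hlv := lv_te6 hq hK f hn (hx.prime i₀) hp2 hm hmn hK₀ hf (hRC K₀ _
    ((isPrimePow_nat_iff _).2 ⟨r, m, hr, hm, rfl⟩) hK₀ (by
      rw [hn]
      refine Nat.pow_lt_pow_right hr.one_lt ?_
      rw [← hmn]
      calc m = m * 1 := (mul_one m).symm
        _ < m * s i₀ := Nat.mul_lt_mul_of_pos_left (hx.prime i₀).one_lt hm) hf)
  refine field_abs (fr_te6 hq hK f hn) hlv hE e hx hcov rfl hFl fun j hj => ?_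
  rcases hT j with (h | ⟨hp2', m', hm', hmn', hFl'⟩) | ⟨h2, y, hy⟩
  · exact Or.inl h
  · exact Or.inr ⟨_, hFl', no_cent6 f (hx.prime i₀) hp2 (hx.prime j) hp2' (fun h => hj (hx.inj h)) hmn hmn' hn0 hK₀ hf⟩
  · refine Or.inr ⟨sig6 (KK r) r 0, ⟨1, y, Nat.coprime_one_left _, fun a => ?_⟩, no_cent_gr6 f hm hK₀ hf⟩
    rw [pow_one, hy, sig6_zero]
    rfl

/-- **The same, all smaller `q₀`.** -/
theorem inD_or_gr_te6 (hq : IsPrimePow q) (hK : Fintype.card K = q ^ 2) (f : K →+* KK r) {n : ℕ} (hn : q = r ^ n)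
    (hn0 : 0 < n)
    (hRC : ∀ (K₀ : Subfield K) (q₀ : ℕ), IsPrimePow q₀ → Nat.card ↥K₀ = q₀ ^ 2 → q₀ < q → RC ↥(twistedE6 ↥K₀ q₀))
    {G Ω ι : Type*} [Group G] [MulAction G Ω] [Nonempty Ω] [Finite ι] {N : Subgroup G} (hE : Env G Ω N)
    (e : N ≃* ↥(twistedE6 K q)) {x : ι → G} {s : ι → ℕ} (hx : PF x s) (hcov : Cov Ω x) (i₀ : ι) :
    act hE e (x i₀) ∈ InD (em q f) ∨ (s i₀ = 2 ∧ IsGrT f (act hE e (x i₀))) :=
  inD_or_gr_te6' hq hK f hn hn0 (fun K₀ q₀ h1 h2 h3 _ => hRC K₀ q₀ h1 h2 h3) hE e hx hcov i₀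

end T

end Cfsg.Agent.H327.RG
end

-- part: H368/G3/Comb_mg
section
prune_inst 0x100001040422000000000000200024402200019000600c01054100400480274000000900818010134020220400300048115400400000000000000000011800800000100080080000420080000080000000000000000000000000000000000000000000000
set_option linter.all false
open scoped Cfsg.Agent.FastGrp

-- part: H368/G3/Comb
section
/-!
# S3509, outer involutions of graph type, odd characteristic: tables of `E₆` (helper368)

`71` the highest root, `0 = neg 71`, `rho`, `eps` the graph automorphism.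

* `kap e s` : the sign of `τ` on the root `s`;
* `In e s` : `s` is moved by `rho` or fixed with sign `1`;
* `Ck` : the check of a commutator relation.
-/

set_option autoImplicit false

namespace Cfsg.Agent.H368.G3

open Cfsg Cfsg.Lie Cfsg.Agent.ChevalleyStructure Cfsg.Agent.ChevalleyStructure.TwistedE6Sigma
open Cfsg.Agent.ChevalleyStructure.HMatDiagAll (expo)

/-- the sign of `τ` on the root `s` -/
def kap (e : ℤ) (s : ℕ) : ℤ := if expo chevE6 71 s % 2 = 0 then eps s else e * eps s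

/-- the roots of `Fix τ` -/
def In (e : ℤ) (s : ℕ) : Prop := rho s ≠ s ∨ kap e s = 1

instance (e : ℤ) (s : ℕ) : Decidable (In e s) := by unfold In; infer_instance

/-- the check of a commutator relation -/
def Ck (s s' b : ℕ) (n1 n2 : ℤ) : Prop :=
  chevE6.commTerms s (rho s') = [(b, n1, 1, 1)] ∧ chevE6.commTerms (rho s) s' = [(b, n2, 1, 1)] ∧
  chevE6.commTerms s s' = [] ∧ chevE6.commTerms (rho s) (rho s') = [] ∧
  chevE6.commTerms s b = [] ∧ chevE6.commTerms (rho s) b = [] ∧ chevE6.commTerms s' b = [] ∧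
  chevE6.commTerms (rho s') b = [] ∧
  s' ≠ s ∧ s' ≠ chevE6.neg s ∧ rho s' ≠ rho s ∧ rho s' ≠ chevE6.neg (rho s) ∧
  rho s' ≠ s ∧ rho s' ≠ chevE6.neg s ∧ s' ≠ rho s ∧ s' ≠ chevE6.neg (rho s) ∧
  b ≠ s ∧ b ≠ chevE6.neg s ∧ b ≠ rho s ∧ b ≠ chevE6.neg (rho s) ∧
  b ≠ s' ∧ b ≠ chevE6.neg s' ∧ b ≠ rho s' ∧ b ≠ chevE6.neg (rho s')

instance (s s' b : ℕ) (n1 n2 : ℤ) : Decidable (Ck s s' b n1 n2) := by unfold Ck; infer_instance

/-- the relations for the fixed roots orthogonal to the highest root: `(s, s', b, n)` -/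
def Tb : List (ℕ × ℕ × ℕ × ℤ) :=
  [(3, 48, 11, 1), (4, 49, 27, -1), (7, 52, 32, -1), (9, 54, 39, -1), (10, 55, 44, -1), (21, 66, 60, 1)]

theorem tb_check : ∀ x ∈ Tb, Ck x.1 x.2.1 x.2.2.1 x.2.2.2 x.2.2.2 ∧ x.1 < 72 ∧ x.2.1 < 72 ∧ x.2.2.1 < 72 ∧
    rho x.1 ≠ x.1 ∧ rho x.2.1 ≠ x.2.1 ∧ expo chevE6 71 x.1 % 2 ≠ 0 ∧ expo chevE6 71 x.2.1 % 2 ≠ 0 ∧
    eps x.1 = eps x.2.1 ∧ (x.2.2.2 = 1 ∨ x.2.2.2 = -1) ∧ rho x.2.2.1 = x.2.2.1 := by decide +kernel

/-- every root of `Fix τ` is reached -/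
theorem cover_check : ∀ s < 72, expo chevE6 71 s % 2 ≠ 0 ∨ s = 0 ∨ s = 71 ∨ (∃ x ∈ Tb, x.2.2.1 = s) ∨
    (rho s ≠ s ∧ ∃ b ∈ [44, 39, 60], expo chevE6 b s % 2 ≠ 0 ∧ expo chevE6 b (rho s) % 2 ≠ 0) := by decide +kernel

theorem tb_mem : ∀ b ∈ [44, 39, 60], (∃ x ∈ Tb, x.2.2.1 = b) ∧ ∃ x ∈ Tb, x.2.2.1 = chevE6.neg b := by decide +kernel

theorem expo_rho : ∀ s < 72, expo chevE6 71 (rho s) = expo chevE6 71 s := by decide +kernel

theorem expo_vec : ∀ s < 72, expo chevE6 71 s = Cfsg.Agent.Nodes.RGDChev.vec chevE6 6 s 1 := by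
  decide +kernel

/-- the final pair -/
theorem fin_check : Ck 48 66 71 1 1 ∧ rho 66 = 68 ∧ rho 48 = 50 ∧ rho 50 = 48 ∧ rho 68 = 66 ∧ eps 48 = 1 ∧ eps 66 = 1 := by
  decide +kernel

theorem neg_71 : chevE6.neg 71 = 0 := by decide +kernel

theorem pair_check : ∀ s < 72, rho s ≠ s → chevE6.commTerms s (rho s) = [] ∧ rho s ≠ s ∧ rho s ≠ chevE6.neg s := by
  decide +kernel

end Cfsg.Agent.H368.G3
end

-- part: H692/RG/Cls
section
/-!
# The classes of the graph involutions of `E₆(q)` and `²E₆(q)`, `q` odd, over the closure (S3509, helper692)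

`Y = E₆(k)`, `k` the closure of `𝔽_r`, `γ = gr`, `φ = phi n`.
* `TE ε t` : `t ∈ T(Y)`, `χ_{α_2}(t) = ε = ± 1`, `χ_{α_i}(t) = 1` for the other simple roots; `TE.sq`, `TE.phi`, `TE.gam`, `TE.ch`;
* `cls_e6` : an involution of graph type of `E₆(F)` is `conj t * γ` after conjugation by `v ∈ Y ^ φ`;
* `cls_te6` : an involution of `Aut (²E₆(q))`, not inner: after conjugation by some `z ∈ Y` it is `conj t * γ`, and `φ` too;
* `mem_e6`, `mem_te6` : the `r`-elements.
-/

set_option autoImplicit false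
set_option linter.unusedSectionVars false

namespace Cfsg.Agent.H692.RG

open CoxeterSystem Subgroup Cfsg Cfsg.Lie Cfsg.Lie.ChevalleyDatum
open Cfsg.Agent.ChevalleyStructure Cfsg.Agent.ChevalleyStructure.Elts Cfsg.Agent.ChevalleyStructure.CoxeterGeom
  Cfsg.Agent.ChevalleyStructure.CoxeterGeomTypes Cfsg.Agent.ChevalleyStructure.NPerm
open Cfsg.Agent.Tits.Roots Cfsg.Agent.Nodes.RGDChev Cfsg.Agent.KFacts.RgdChevCoord
open Cfsg.Agent.BpExc.TowChev Cfsg.Agent.BpExc.FamUntw Cfsg.Agent.BpExc.LangFr Cfsg.Agent.BpExc.FamField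
  Cfsg.Agent.BpExc.RowsUntw Cfsg.Agent.BpExc.FamInst
open Cfsg.Agent.ChevalleyStructure.GraphSymm (symmE6)
open Cfsg.Agent.H522.FamTw.Frame (sig6 rho6 fr_sig6 fr_six)
open Cfsg.Agent.BpExc.FamTw.Six (em em_injective coe_em)
open Cfsg.Agent.BpExc.FamTw.Gr
open Cfsg.Agent.GpExc.Field (glMap emb coe_emb glMap_xG emb_injective coe_glMap glMap_injective)
open Cfsg.Agent.CpAut.RgdUntw
open Cfsg.Agent.H378.TorChar (tchar tchar_sr tchar_apply tchar_injective tchar_phi tchar_surjective lat lat_sr lat_apply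
  ext_sr eq_lat)
open Cfsg.Agent.H469.Exc (KK)
open Cfsg.Agent.H28.GenF
open Cfsg.Agent.H296.ESixGF (hp6)
open Cfsg.Agent.H327.RG (form6 gr_emb IsGr IsGrT)

section Abs

variable {K₀ Y : Type*} [Group K₀] [Group Y] {ι : K₀ →* Y} {γ σ Φ : MulAut Y}

theorem cls_abs (hcen : ∀ z, (∀ a, z * ι a = ι a * z) → z = 1) (hσ : ∀ a, σ (ι a) = ι a)
    (hγΦ : ∀ b, γ (Φ b) = Φ (γ b)) (hσΦ : ∀ b, σ (Φ b) = Φ (σ b)) {t u : Y} (hΦt : Φ t = t) {x ζ δ : MulAut K₀}
    (hζ : ∀ a, ι (ζ a) = u * Φ (ι a) * u⁻¹) (hδ : ∀ a, ι (δ a) = t * γ (ι a) * t⁻¹) (hx : ζ * x = δ * ζ) :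
    ∃ v, σ v = v ∧ ∀ a, v * ι (x a) * v⁻¹ = t * γ (v * ι a * v⁻¹) * t⁻¹ := by
  obtain ⟨v, rfl⟩ := Φ.surjective u
  have hζ' : ∀ a, ι (ζ a) = Φ (v * ι a * v⁻¹) := fun a => by rw [hζ, map_mul, map_mul, map_inv]
  refine ⟨v, ?_, fun a => ?_⟩
  · have h1 : v⁻¹ * σ v = 1 := by
      apply hcen
      intro a
      have h2 := hσ (ζ a)
      rw [hζ', hσΦ] at h2
      have h3 := Φ.injective h2
      rw [map_mul, map_mul, map_inv, hσ] at h3
      calc v⁻¹ * σ v * ι a = v⁻¹ * (σ v * ι a * (σ v)⁻¹) * σ v := by group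
        _ = v⁻¹ * (v * ι a * v⁻¹) * σ v := by rw [h3]
        _ = ι a * (v⁻¹ * σ v) := by group
    exact (inv_mul_eq_one.1 h1).symm
  · apply Φ.injective
    have h1 : ζ (x a) = δ (ζ a) := by rw [← MulAut.mul_apply, hx]; rfl
    rw [← hζ', h1, hδ, hζ', hγΦ, map_mul Φ (t * γ _), map_mul Φ t, map_inv, hΦt]

theorem tw_fix {G : Type*} [Group G] {e : G →* Y} {γ ψ : MulAut Y} {x : MulAut G} (hγ : ∀ b, γ (γ b) = b)
    (hcom : ∀ b, γ (ψ b) = ψ (γ b)) (hfix : ∀ g, γ (ψ (e g)) = e g)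
    (hcen : ∀ c : Y, (∀ g, c * e g = e g * c) → c = 1) {y : Y} (hxy : ∀ g, e (x g) = y * γ (e g) * y⁻¹) :
    γ (ψ y) = y := by
  have h0 : γ (y⁻¹ * γ (ψ y)) = 1 := by
    apply hcen
    intro g
    have h1 := hfix (x g)
    have h2 : γ (ψ (γ (e g))) = γ (e g) := by rw [← hcom, hfix]
    rw [hxy, map_mul, map_mul, map_inv, map_mul, map_mul, map_inv, h2] at h1
    have h3 : y⁻¹ * γ (ψ y) * γ (e g) = γ (e g) * (y⁻¹ * γ (ψ y)) := by
      calc y⁻¹ * γ (ψ y) * γ (e g) = y⁻¹ * (γ (ψ y) * γ (e g) * (γ (ψ y))⁻¹) * γ (ψ y) := by group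
        _ = y⁻¹ * (y * γ (e g) * y⁻¹) * γ (ψ y) := by rw [h1]
        _ = γ (e g) * (y⁻¹ * γ (ψ y)) := by group
    have h4 := congrArg γ h3
    rwa [map_mul γ _ (γ (e g)), map_mul γ (γ (e g)), hγ] at h4
  have h5 := congrArg γ h0
  rw [hγ, map_one] at h5
  exact (inv_mul_eq_one.1 h5).symm

/-- the final conjugation -/
theorem tw_fin {G : Type*} [Group G] {e : G →* Y} {γ ψ : MulAut Y} {x : MulAut G}
    (hfg : ∀ g, ψ (e g) = γ (e g)) {y : Y} (hxy : ∀ g, e (x g) = y * γ (e g) * y⁻¹) {z v t : Y} (hz : ψ z = z * y)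
    (hv : ψ v = v) (hw : v * (z * y * (γ z)⁻¹) = t * γ v) : ψ (v * z) = t * γ (v * z) ∧
      (∀ g, (v * z) * e (x g) * (v * z)⁻¹ = t * γ ((v * z) * e g * (v * z)⁻¹) * t⁻¹) ∧
      ∀ g, (v * z) * e (x g) * (v * z)⁻¹ = ψ ((v * z) * e g * (v * z)⁻¹) := by
  have h1 : v * z * y = t * γ (v * z) := by
    rw [map_mul, ← mul_assoc, ← hw]
    group
  have h2 : ψ (v * z) = v * z * y := by rw [map_mul, hv, hz, mul_assoc]
  refine ⟨h2.trans h1, fun g => ?_, fun g => ?_⟩
  · rw [hxy, map_mul, map_mul, map_inv]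
    calc v * z * (y * γ (e g) * y⁻¹) * (v * z)⁻¹ = (v * z * y) * γ (e g) * (v * z * y)⁻¹ := by group
      _ = (t * γ (v * z)) * γ (e g) * (t * γ (v * z))⁻¹ := by rw [h1]
      _ = t * (γ (v * z) * γ (e g) * (γ (v * z))⁻¹) * t⁻¹ := by group
  · rw [hxy, map_mul, map_mul, map_inv, h2, hfg]
    group

end Abs

variable {r : ℕ} [Fact r.Prime]

/-- the torus elements of the normal forms -/
structure TE (ε : (KK r)ˣ) (t : ↥(chevE6.group (KK r))) : Prop where
  eps : ε * ε = 1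
  mem : t ∈ TT chevE6 (KK r)
  char : tchar hp6 ⟨t, mem⟩ = lat fun i : Fin 6 => if i = 1 then ε else 1

theorem eps_zpow {ε : (KK r)ˣ} (h : ε * ε = 1) (m : ℤ) : ε ^ (m + m) = 1 := by
  rw [zpow_add, ← mul_zpow, h, one_zpow]

theorem eps_pow {ε : (KK r)ˣ} (h : ε * ε = 1) (m : ℕ) : ε ^ r ^ m = ε := by
  have h1 : (ε : KK r) = 1 ∨ (ε : KK r) = -1 := by
    rcases mul_self_eq_one_iff.1 (by rw [← Units.val_mul, h, Units.val_one] : (ε : KK r) * ε = 1) with h | h
    · exact Or.inl h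
    · exact Or.inr h
  apply Units.ext
  rw [Units.val_pow_eq_pow_val]
  rcases h1 with h1 | h1
  · rw [h1, one_pow]
  · rw [h1]
    have h2 : ((-1 : KK r)) ^ r ^ m = ((iterateFrobenius (KK r) r m) (-1)) := by rw [iterateFrobenius_def]
    rw [h2, map_neg, map_one]

theorem TE.ext {ε : (KK r)ˣ} {t t' : ↥(chevE6.group (KK r))} (h : TE ε t) (ht' : t' ∈ TT chevE6 (KK r))
    (h' : tchar hp6 ⟨t', ht'⟩ = lat fun i : Fin 6 => if i = 1 then ε else 1) : t' = t := by
  have h1 := tchar_injective hp6 (h'.trans h.char.symm)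
  exact congrArg Subtype.val h1

theorem TE.exists {ε : (KK r)ˣ} (h : ε * ε = 1) : ∃ t, TE (r := r) ε t := by
  obtain ⟨t, ht⟩ := tchar_surjective (k := KK r) hp6 inv_E6 (by norm_num)
    (lat fun i : Fin 6 => if i = 1 then ε else 1)
  exact ⟨t.1, h, t.2, ht⟩

theorem TE.eq_one {t : ↥(chevE6.group (KK r))} (h : TE 1 t) : t = 1 := by
  have h1 : (⟨t, h.mem⟩ : ↥(TT chevE6 (KK r))) = 1 := by
    apply tchar_injective hp6
    rw [h.char, map_one]
    refine ext_sr fun i => ?_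
    rw [lat_sr]
    show _ = 1
    split_ifs <;> rfl
  exact congrArg Subtype.val h1

theorem TE.cases {ε : (KK r)ˣ} {t : ↥(chevE6.group (KK r))} (h : TE ε t) : ε = 1 ∨ ε = -1 := by
  rcases mul_self_eq_one_iff.1 (by rw [← Units.val_mul, h.eps, Units.val_one] : (ε : KK r) * ε = 1) with h | h
  · exact Or.inl (Units.ext h)
  · exact Or.inr (Units.ext h)

theorem TE.sq {ε : (KK r)ˣ} {t : ↥(chevE6.group (KK r))} (h : TE ε t) : t * t = 1 := by
  have h1 : (⟨t, h.mem⟩ : ↥(TT chevE6 (KK r))) * ⟨t, h.mem⟩ = 1 := by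
    apply tchar_injective hp6
    rw [map_mul, h.char, map_one]
    refine ext_sr fun i => ?_
    rw [MonoidHom.mul_apply, lat_sr]
    show _ = 1
    split_ifs
    · exact h.eps
    · exact one_mul 1
  exact congrArg Subtype.val h1

theorem TE.phi {ε : (KK r)ˣ} {t : ↥(chevE6.group (KK r))} (h : TE ε t) (m : ℕ) : phi chevE6 (KK r) r m t = t := by
  refine h.ext (Cfsg.Agent.H378.TorChar.phi_mem hp6 r h.mem) ?_
  rw [tchar_phi hp6 r h.mem, h.char]
  refine ext_sr fun i => ?_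
  rw [MonoidHom.pow_apply, lat_sr]
  split_ifs
  · exact eps_pow h.eps m
  · exact one_pow _

/-- the characters of `t` at the roots -/
theorem TE.ch {ε : (KK r)ˣ} {t : ↥(chevE6.group (KK r))} (h : TE ε t) {a : Fin 6 → ℤ}
    (ha : IsRoot CoxeterMatrix.E₆.toCoxeterSystem hp6.isCartan a) : ch hp6 a t = ((ε ^ a 1 : (KK r)ˣ) : KK r) := by
  rw [← tchar_apply hp6 CoxeterMatrix.E₆.toCoxeterSystem (Cfsg.Agent.H469.Exc.locFin r) r ⟨t, h.mem⟩ ha, h.char,
    lat_apply]
  congr 1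
  rw [Finset.prod_eq_single 1]
  · rw [if_pos rfl]
  · intro i _ hi
    rw [if_neg hi, one_zpow]
  · intro h
    exact absurd (Finset.mem_univ _) h

theorem gr_xc (i : Fin 6) (s : KK r) : gr (L := KK r) hp6.inList symmE6 (xc hp6 (sr i) s) = xc hp6 (sr (rho6 i)) s := by
  have h3 : ∀ (j : Fin 6) (s : KK r), xc hp6 (sr j) s = xg hp6.inList (chevE6.simple j) s := by
    intro j s
    apply Subtype.ext
    rw [← vec_simple hp6 j, coe_xc hp6 (simple_lt hp6.inList (lt_rank hp6 j))]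
    rfl
  rw [h3, h3]
  have h4 := gr_xg (L := KK r) hp6.inList symmE6 ⟨chevE6.simple i, H522.FamTw.Frame.simple_lt6 i⟩ s
  rw [H522.FamTw.Frame.simple_eps6, Int.cast_one, one_mul, H522.FamTw.Frame.simple_map6] at h4
  exact h4

theorem gr_tor {t : ↥(chevE6.group (KK r))} (ht : t ∈ TT chevE6 (KK r)) :
    gr (L := KK r) hp6.inList symmE6 t ∈ TT chevE6 (KK r) :=
  ((fr_six (k := KK r) hp6 CoxeterMatrix.E₆.toCoxeterSystem).tor t).2 ht

theorem ch_gr {t : ↥(chevE6.group (KK r))} (ht : t ∈ TT chevE6 (KK r)) (i : Fin 6) :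
    ch hp6 (sr (rho6 i)) (gr (L := KK r) hp6.inList symmE6 t) = ch hp6 (sr i) t := by
  have C := coordsL (k := KK r) hp6 CoxeterMatrix.E₆.toCoxeterSystem (Cfsg.Agent.H469.Exc.locFin r) r
  have hri := isRoot_sr CoxeterMatrix.E₆.toCoxeterSystem hp6.isCartan i
  have hri' := isRoot_sr CoxeterMatrix.E₆.toCoxeterSystem hp6.isCartan (rho6 i)
  have h1 := congrArg (gr (L := KK r) hp6.inList symmE6) ((C.coord _ hri).act t ht 1)
  rw [map_mul, map_mul, map_inv, gr_xc, gr_xc, (C.coord _ hri').act _ (gr_tor ht) 1, mul_one, mul_one] at h1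
  exact (C.coord _ hri').inj h1

theorem TE.gam {ε : (KK r)ˣ} {t : ↥(chevE6.group (KK r))} (h : TE ε t) :
    gr (L := KK r) hp6.inList symmE6 t = t := by
  refine h.ext (gr_tor h.mem) (ext_sr fun i => Units.ext ?_)
  have hρρ : ∀ i, rho6 (rho6 i) = i := by decide
  rw [tchar_sr, ← hρρ i, ch_gr h.mem, ← tchar_sr hp6 ⟨t, h.mem⟩, h.char, lat_sr, lat_sr]
  have h2 : (rho6 i = 1) = (rho6 (rho6 i) = 1) := by
    revert i
    decide
  simp only [h2]

/-! ### `gr` is a graph automorphism -/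

theorem gr_isGraph {L : Type*} [Field L] : chevE6.IsGraphAut (gr (L := L) hp6.inList symmE6) := by
  refine ⟨Cfsg.Agent.H296.ESixGF.rho6, Cfsg.Agent.H296.ESixGF.rho6_symm, fun g i t => ⟨fun h => ?_, fun h => ?_⟩⟩
  · rw [(Cfsg.Agent.H79.SimpleGen.eq_xS_iff hp6.inList g _ t).2 h]
    exact (Cfsg.Agent.H79.SimpleGen.eq_xS_iff hp6.inList _ _ _).1 (Cfsg.Agent.H296.ESixGF.gr_isGr i t).1
  · rw [(Cfsg.Agent.H79.SimpleGen.eq_xS_iff hp6.inList g _ t).2 h]
    exact (Cfsg.Agent.H79.SimpleGen.eq_xS_iff hp6.inList _ _ _).1 (Cfsg.Agent.H296.ESixGF.gr_isGr i t).2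

theorem gr_ne_one {L : Type*} [Field L] : gr (L := L) hp6.inList symmE6 ≠ 1 := by
  intro h
  have h1 := (Cfsg.Agent.H296.ESixGF.gr_isGr (L := L) (0 : Fin 6) 1).1
  rw [h, MulAut.one_apply, one_pow] at h1
  have h2 := congrArg Subtype.val h1
  have h3 := Cfsg.Agent.H522.FamTw.Cent.co_self (hD := hp6.inList) (F := L) 0 1
  have h4 := Cfsg.Agent.H522.FamTw.Cent.co_ne (hD := hp6.inList) (F := L) (i := 0) (r := chevE6.simple 5) (by decide +kernel)
    (by decide +kernel) 1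
  have h5 : Cfsg.Agent.H522.FamTw.Cent.Co hp6.inList 0 (Cfsg.Agent.ChevalleyStructure.Elts.xG hp6.inList
    (chevE6.simple 0) (1 : L)) 0 := by
    have h6 : Cfsg.Agent.ChevalleyStructure.Elts.xG hp6.inList (chevE6.simple 0) (1 : L) =
      Cfsg.Agent.ChevalleyStructure.Elts.xG hp6.inList (chevE6.simple 5) (1 : L) := h2
    rw [h6]
    exact h4
  exact one_ne_zero (Cfsg.Agent.H522.FamTw.Cent.Co.unique (by decide) h3 h5)

theorem gam_sq (b : ↥(chevE6.group (KK r))) : gr (L := KK r) hp6.inList symmE6 (gr hp6.inList symmE6 b) = b := by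
  rw [← MulAut.mul_apply, Cfsg.Agent.H296.ESixGF.gr_sq6]
  rfl

theorem gam_phi (n : ℕ) (b : ↥(chevE6.group (KK r))) : gr (L := KK r) hp6.inList symmE6 (phi chevE6 (KK r) r n b) =
    phi chevE6 (KK r) r n (gr (L := KK r) hp6.inList symmE6 b) := by
  have hco : Commute (gr (L := KK r) hp6.inList symmE6) (phi chevE6 (KK r) r n) :=
    Cfsg.Agent.BpExc.FamTw.Gr.gr_mul_fld hp6.inList symmE6 _
  rw [← MulAut.mul_apply, hco.eq, MulAut.mul_apply]

theorem phi_phi (n m : ℕ) (b : ↥(chevE6.group (KK r))) :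
    phi chevE6 (KK r) r n (phi chevE6 (KK r) r m b) = phi chevE6 (KK r) r m (phi chevE6 (KK r) r n b) := by
  rw [← MulAut.mul_apply, ← MulAut.mul_apply, H296.Core.phi_mul, H296.Core.phi_mul, add_comm]

/-! ### the classes -/

/-- **The normal form of a graph involution `x` of `K₀`.** -/
structure GrD {K₀ : Type*} [Group K₀] (n : ℕ) (x : MulAut K₀) (t : ↥(chevE6.group (KK r)))
    (κ : K₀ →* ↥(chevE6.group (KK r))) : Prop where
  inj : Function.Injective κ
  cen : ∀ c, (∀ a, c * κ a = κ a * c) → c = 1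
  act : ∀ a, κ (x a) = t * gr (L := KK r) hp6.inList symmE6 (κ a) * t⁻¹
  frob : (∀ a, phi chevE6 (KK r) r n (κ a) = κ a) ∨ ∀ a, phi chevE6 (KK r) r n (κ a) = κ (x a)
  surj : ∀ b, phi chevE6 (KK r) r n b = b → t * gr (L := KK r) hp6.inList symmE6 b * t⁻¹ = b →
    (∃ m, b ^ r ^ m = 1) → ∃ a, x a = a ∧ κ a = b

theorem lift_comm {K₀ Y : Type*} [Group K₀] [Group Y] {κ : K₀ →* Y} (hcen : ∀ c, (∀ a, c * κ a = κ a * c) → c = 1)
    {x α : MulAut K₀} {τ : MulAut Y} (hact : ∀ a, κ (x a) = τ (κ a)) (hα : α * x = x * α) {y : Y}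
    (hy : ∀ a, κ (α a) = y * κ a * y⁻¹) : τ y = y := by
  have h1 : y⁻¹ * τ y = 1 := by
    apply hcen
    intro b
    obtain ⟨a, rfl⟩ := x.surjective b
    have h2 : κ (α (x a)) = κ (x (α a)) := by rw [← MulAut.mul_apply, hα]; rfl
    rw [hy, hact (α a), hy, map_mul, map_mul, map_inv, ← hact] at h2
    calc y⁻¹ * τ y * κ (x a) = y⁻¹ * (τ y * κ (x a) * (τ y)⁻¹) * τ y := by group
      _ = y⁻¹ * (y * κ (x a) * y⁻¹) * τ y := by rw [h2]
      _ = κ (x a) * (y⁻¹ * τ y) := by group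
  exact (inv_mul_eq_one.1 h1).symm

/-- the inner-diagonal automorphisms commuting with `x` -/
theorem GrD.lift {K₀ : Type*} [Group K₀] {n : ℕ} {x : MulAut K₀} {t : ↥(chevE6.group (KK r))}
    {κ : K₀ →* ↥(chevE6.group (KK r))} (h : GrD n x t κ) {α : MulAut K₀} (hα : α * x = x * α)
    {y : ↥(chevE6.group (KK r))} (hy : ∀ a, κ (α a) = y * κ a * y⁻¹) :
    phi chevE6 (KK r) r n y = y ∧ t * gr (L := KK r) hp6.inList symmE6 y * t⁻¹ = y := by
  refine ⟨?_, ?_⟩
  · rcases h.frob with h1 | h1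
    · exact lift_comm h.cen (x := 1) (fun a => (h1 a).symm) (by rw [one_mul, mul_one]) hy
    · exact lift_comm h.cen (fun a => (h1 a).symm) hα hy
  · exact lift_comm (τ := MulAut.conj t * gr (L := KK r) hp6.inList symmE6) h.cen h.act hα hy

/-! ### `E₆(q)` -/

section Untw

variable {F : Type} [Field F] [Fintype F] [CharP F r] (f : F →+* KK r) {n : ℕ}

theorem cen6 (c : ↥(chevE6.group (KK r))) (hc : ∀ a, c * emb hp6.inList f a = emb hp6.inList f a * c) : c = 1 := by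
  have hk1 := S1054.result (F := KK r) chevE6 (by simp)
  exact Cfsg.Agent.BpExc.FamUntw.eq_one_of_comm hp6 (Cfsg.Agent.H469.Exc.locFin r) r f
    (Cfsg.Agent.H522.FldUntw.center_eq_bot hk1.1 hk1.2) hc

/-- the element over the graph automorphism is fixed by the Frobenius automorphism -/
theorem fix_of_isGr (hn : Nat.card F = r ^ n) {x : MulAut ↥(chevE6.group F)} {y : ↥(chevE6.group (KK r))}
    (hy : ∀ a, emb hp6.inList f (x a) = y * gr (L := KK r) hp6.inList symmE6 (emb hp6.inList f a) * y⁻¹) :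
    phi chevE6 (KK r) r n y = y := by
  have h0 : ∀ a, phi chevE6 (KK r) r n (emb hp6.inList f a) = emb hp6.inList f a := fun a =>
    Cfsg.Agent.H692.IFO.Lang.emb_phi f hn (Nat.card_eq_fintype_card.symm) a
  have h1 : y⁻¹ * phi chevE6 (KK r) r n y = 1 := by
    apply cen6 f
    intro b
    obtain ⟨a, rfl⟩ : ∃ a, gr hp6.inList symmE6 a = b :=
      (gr (L := F) hp6.inList symmE6).surjective b
    have h2 := h0 (x a)
    simp only [hy, map_mul, map_mul, map_inv, ← gr_emb f a, h0] at h2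
    have h3 : emb hp6.inList f (gr hp6.inList symmE6 a) = emb e6T.inList f (gr e6T.inList symmE6 a) := rfl
    rw [h3]
    calc y⁻¹ * phi chevE6 (KK r) r n y * emb e6T.inList f (gr e6T.inList symmE6 a) =
          y⁻¹ * (phi chevE6 (KK r) r n y * emb e6T.inList f (gr e6T.inList symmE6 a) *
            (phi chevE6 (KK r) r n y)⁻¹) * phi chevE6 (KK r) r n y := by group
      _ = y⁻¹ * (y * emb e6T.inList f (gr e6T.inList symmE6 a) * y⁻¹) * phi chevE6 (KK r) r n y := by rw [h2]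
      _ = emb e6T.inList f (gr e6T.inList symmE6 a) * (y⁻¹ * phi chevE6 (KK r) r n y) := by group
  exact (inv_mul_eq_one.1 h1).symm

/-- **The classes of the graph involutions of `E₆(F)`.** -/
theorem cls_e6 (hn : Nat.card F = r ^ n) (hr2 : r ≠ 2) {x : MulAut ↥(chevE6.group F)} (hx : x * x = 1)
    (hg : IsGr f x) : ∃ (v t : ↥(chevE6.group (KK r))) (ε : (KK r)ˣ), TE ε t ∧ phi chevE6 (KK r) r n v = v ∧
      ∀ a, v * emb hp6.inList f (x a) * v⁻¹ =
        t * gr (L := KK r) hp6.inList symmE6 (v * emb hp6.inList f a * v⁻¹) * t⁻¹ := by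
  obtain ⟨y, hy⟩ := hg
  have hw := fix_of_isGr f hn hy
  obtain ⟨y', d, hd, hyd⟩ := Cfsg.Agent.H692.IFO.Lang.aut_of_fix f hn (Nat.card_eq_fintype_card.symm) hw
  have hxd : ∀ a, x a = y' * d (gr hp6.inList symmE6 a) * y'⁻¹ := by
    intro a
    apply emb_injective hp6.inList f
    exact (hy a).trans (hyd a).symm
  have h2 : (2 : F) ≠ 0 := by
    refine Ring.two_ne_zero ?_
    rw [← CharP.eq F (ringChar.charP F) (inferInstance : CharP F r)] at hr2
    exact hr2
  obtain ⟨ζ, d', ε0, hε0, hd', hx1⟩ := Cfsg.Agent.H321.IFE6.norm_form_fin h2 hx hd gr_isGraph gr_ne_one hxd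
  -- the torus element
  obtain ⟨t, ht, htd⟩ := Cfsg.Agent.H296.Core.diag_ext hp6 f inv_E6 (by norm_num : (3 : ℕ) ≠ 0)
    (fun c _ => IsAlgClosed.exists_pow_nat_eq _ (by norm_num))
    ((Cfsg.Agent.H79.DiagAuts.diagFacts hp6.inList F).isDiag _ d' hd')
  have hTE : TE (Units.map (f : F →* KK r) ε0) t := by
    refine ⟨by rw [← map_mul, hε0, map_one], ht, ext_sr fun i => Units.ext ?_⟩
    rw [tchar_sr, lat_sr]
    have h1 := (hd' i 1).1
    have h3 := htd (Cfsg.Agent.H79.SimpleGen.xS hp6.inList (chevE6.simple i) 1)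
    rw [h1] at h3
    have h4 : ∀ c : F, emb hp6.inList f (Cfsg.Agent.H79.SimpleGen.xS hp6.inList (chevE6.simple i) c) =
        xc hp6 (sr i) (f c) := by
      intro c
      apply Subtype.ext
      rw [coe_emb, ← vec_simple hp6 i, coe_xc hp6 (simple_lt hp6.inList (lt_rank hp6 i))]
      exact glMap_xG _ _ _ _
    rw [h4, h4] at h3
    have C := coordsL (k := KK r) hp6 CoxeterMatrix.E₆.toCoxeterSystem (Cfsg.Agent.H469.Exc.locFin r) r
    have hri := isRoot_sr CoxeterMatrix.E₆.toCoxeterSystem hp6.isCartan i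
    rw [(C.coord _ hri).act t ht (f 1)] at h3
    have h5 := (C.coord _ hri).inj h3
    rw [map_one, mul_one, mul_one] at h5
    rw [← h5]
    show f ((if i = 1 then ε0 else 1 : Fˣ) : F) = ((if i = 1 then Units.map (f : F →* KK r) ε0 else 1 : (KK r)ˣ) : KK r)
    split_ifs
    · rfl
    · exact map_one f
  have hx2 : ζ * x = (d' * gr hp6.inList symmE6) * ζ := by
    rw [hx1]
    group
  have hδ : ∀ a, emb hp6.inList f ((d' * gr hp6.inList symmE6 : MulAut ↥(chevE6.group F)) a) =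
      t * gr (L := KK r) hp6.inList symmE6 (emb hp6.inList f a) * t⁻¹ := by
    intro a
    rw [MulAut.mul_apply, htd]
    congr 2
    exact gr_emb f a
  have hσ : ∀ a, phi chevE6 (KK r) r n (emb hp6.inList f a) = emb hp6.inList f a := fun a =>
    Cfsg.Agent.H692.IFO.Lang.emb_phi f hn (Nat.card_eq_fintype_card.symm) a
  obtain ⟨m, u, hζ⟩ := form6 f ζ
  rcases hζ with hζ | hζ
  · obtain ⟨v, hv, h⟩ := cls_abs (ι := emb hp6.inList f) (cen6 f) hσ (γ := gr hp6.inList symmE6)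
      (Φ := phi chevE6 (KK r) r m) (gam_phi m) (phi_phi n m) (hTE.phi m) hζ hδ hx2
    exact ⟨v, t, _, hTE, hv, h⟩
  · obtain ⟨v, hv, h⟩ := cls_abs (ι := emb hp6.inList f) (cen6 f) hσ (γ := gr hp6.inList symmE6)
      (Φ := sig6 (KK r) r m) (fun b => by
        show gr (L := KK r) hp6.inList symmE6 (gr (L := KK r) hp6.inList symmE6 (phi chevE6 (KK r) r m b)) =
          gr (L := KK r) hp6.inList symmE6 (phi chevE6 (KK r) r m (gr (L := KK r) hp6.inList symmE6 b))
        rw [gam_phi]) (fun b => by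
        show phi chevE6 (KK r) r n (gr (L := KK r) hp6.inList symmE6 (phi chevE6 (KK r) r m b)) =
          gr (L := KK r) hp6.inList symmE6 (phi chevE6 (KK r) r m (phi chevE6 (KK r) r n b))
        rw [← gam_phi, phi_phi]) (by
        show gr (L := KK r) hp6.inList symmE6 (phi chevE6 (KK r) r m t) = t
        rw [hTE.phi, hTE.gam]) hζ hδ hx2
    exact ⟨v, t, _, hTE, hv, h⟩

/-- **`E₆(q)`, `q` odd.** -/
theorem grD_e6 (hn : Nat.card F = r ^ n) (hr2 : r ≠ 2) {x : MulAut ↥(chevE6.group F)} (hx : x * x = 1)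
    (hg : IsGr f x) : ∃ (v t : ↥(chevE6.group (KK r))) (ε : (KK r)ˣ), TE ε t ∧ phi chevE6 (KK r) r n v = v ∧
      GrD n x t ((MulAut.conj v).toMonoidHom.comp (emb hp6.inList f)) := by
  obtain ⟨v, t, ε, h, hv, hx1⟩ := cls_e6 f hn hr2 hx hg
  have hσ : ∀ a, phi chevE6 (KK r) r n (emb hp6.inList f a) = emb hp6.inList f a := fun a =>
    Cfsg.Agent.H692.IFO.Lang.emb_phi f hn (Nat.card_eq_fintype_card.symm) a
  have hinj : Function.Injective ((MulAut.conj v).toMonoidHom.comp (emb hp6.inList f)) :=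
    (MulAut.conj v).injective.comp (emb_injective hp6.inList f)
  refine ⟨v, t, ε, h, hv, ⟨hinj, fun c hc => ?_, hx1, Or.inl fun a => ?_, fun b hb hτ ⟨m, hm⟩ => ?_⟩⟩
  · have h1 : v⁻¹ * c * v = 1 := by
      apply cen6 f
      intro a
      have h2 : c * (v * emb hp6.inList f a * v⁻¹) = (v * emb hp6.inList f a * v⁻¹) * c := hc a
      calc v⁻¹ * c * v * emb hp6.inList f a = v⁻¹ * (c * (v * emb hp6.inList f a * v⁻¹)) * v := by group
        _ = v⁻¹ * ((v * emb hp6.inList f a * v⁻¹) * c) * v := by rw [h2]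
        _ = emb hp6.inList f a * (v⁻¹ * c * v) := by group
    calc c = v * (v⁻¹ * c * v) * v⁻¹ := by group
      _ = 1 := by rw [h1]; group
  · show phi chevE6 (KK r) r n (v * emb hp6.inList f a * v⁻¹) = v * emb hp6.inList f a * v⁻¹
    rw [map_mul, map_mul, map_inv, hv, hσ]
  · obtain ⟨a, ha⟩ := Cfsg.Agent.H28.GenF.mem_emb_of_pow hp6 f hn (y := v⁻¹ * b * v) (j := m)
      (by rw [map_mul, map_mul, map_inv, hv, hb]) (by
        have h1 := conj_pow (i := r ^ m) (a := v⁻¹) (b := b)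
        rw [inv_inv] at h1
        rw [h1, hm]
        group)
    have hb2 : v * emb hp6.inList f a * v⁻¹ = b := by rw [ha]; group
    refine ⟨a, ?_, hb2⟩
    apply hinj
    show v * emb hp6.inList f (x a) * v⁻¹ = v * emb hp6.inList f a * v⁻¹
    rw [hx1, hb2, hτ]

/-- the `r`-elements of `Fix φ` -/
theorem rng_e6 (hn : Nat.card F = r ^ n) {v : ↥(chevE6.group (KK r))} (hv : phi chevE6 (KK r) r n v = v)
    {y : ↥(chevE6.group (KK r))} (hy : phi chevE6 (KK r) r n y = y) {k : ℕ} (hk : y ^ r ^ k = 1) :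
    ∃ a, v * emb hp6.inList f a * v⁻¹ = y := by
  obtain ⟨a, ha⟩ := Cfsg.Agent.H28.GenF.mem_emb_of_pow hp6 f hn (y := v⁻¹ * y * v) (j := k)
    (by rw [map_mul, map_mul, map_inv, hv, hy]) (by
      have h1 := conj_pow (i := r ^ k) (a := v⁻¹) (b := y)
      rw [inv_inv] at h1
      rw [h1, hk]
      group)
  exact ⟨a, by rw [ha]; group⟩

end Untw

/-! ### `²E₆(q)` -/

section Tw

variable {K : Type} [Field K] [Fintype K] [CharP K r] (f : K →+* KK r) {q n : ℕ}

/-- **The classes of the graph involutions of `²E₆(q)`, `q` odd.** -/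
theorem cls_te6 (hn0 : 0 < n) (hn : q = r ^ n) (hK : Fintype.card K = q ^ 2) (hr2 : r ≠ 2)
    {x : MulAut ↥(twistedE6 K q)} (hx : x * x = 1) (hg : IsGrT f x) :
    ∃ (z t : ↥(chevE6.group (KK r))) (ε : (KK r)ˣ), TE ε t ∧
      (phi chevE6 (KK r) r n z = t * gr (L := KK r) hp6.inList symmE6 z) ∧
      (∀ g, z * _root_.Cfsg.Agent.BpExc.FamTw.Six.em q f (x g) * z⁻¹ = t * gr (L := KK r) hp6.inList symmE6 (z * em q f g * z⁻¹) * t⁻¹) ∧
      ∀ g, z * em q f (x g) * z⁻¹ = phi chevE6 (KK r) r n (z * em q f g * z⁻¹) := by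
  have hrp : r.Prime := Fact.out
  obtain ⟨y, hy0⟩ := hg
  have hfix : ∀ g, gr (L := KK r) hp6.inList symmE6 (phi chevE6 (KK r) r n (_root_.Cfsg.Agent.BpExc.FamTw.Six.em q f g)) = em q f g := fun g =>
    Cfsg.Agent.H522.FamTw.Six.em_fix f r hn0 hn hK g
  have hfg : ∀ g, phi chevE6 (KK r) r n (em q f g) = gr (L := KK r) hp6.inList symmE6 (em q f g) := fun g =>
    Cfsg.Agent.H692.IFO.Lang.psi_eq Cfsg.Agent.H296.ESixGF.gr_sq6 (hfix g)
  have hxy : ∀ g, em q f (x g) = y * phi chevE6 (KK r) r n (em q f g) * y⁻¹ := fun g => by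
    rw [hfg]
    exact hy0 g
  have hcen := Cfsg.Agent.H692.IFO.Lang.hone6 f hn0 hn hK
  have hy1 : ∀ g, em q f (x g) = y * gr (L := KK r) hp6.inList symmE6 (em q f g) * y⁻¹ := hy0
  have hσy := tw_fix (e := em q f) gam_sq (gam_phi n) hfix hcen hy1
  have hγγ : gr (L := KK r) hp6.inList symmE6 * gr hp6.inList symmE6 = 1 := Cfsg.Agent.H296.ESixGF.gr_sq6
  have hyy := Cfsg.Agent.H692.IFO.Lang.mul_gam (e := em q f) hγγ hfix hcen hx hxy
  obtain ⟨z, hz⟩ := lang_all hp6 CoxeterMatrix.E₆.toCoxeterSystem (p := r) (e := n) hn0 (phi_isFrob r n)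
    (phi_fr hp6 CoxeterMatrix.E₆.toCoxeterSystem r (Cfsg.Agent.H469.Exc.locFin r) n) 1 y
  rw [map_one, one_mul] at hz
  have hz' : phi chevE6 (KK r) r n z = z * y := by rw [hz]; group
  obtain ⟨hw1, hw2, -⟩ := Cfsg.Agent.H692.IFO.Lang.core hγγ (gam_phi n) hσy hyy hz
  -- the field with `q` elements
  have : Fintype (GaloisField r n) := Fintype.ofFinite _
  have hF : Nat.card (GaloisField r n) = r ^ n := GaloisField.card r n hn0.ne'
  obtain ⟨f1⟩ := exists_emb r (GaloisField r n)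
  obtain ⟨w, hw⟩ : ∃ w, w = z * y * (gr (L := KK r) hp6.inList symmE6 z)⁻¹ := ⟨_, rfl⟩
  rw [← hw] at hw1 hw2
  obtain ⟨y', d, hd, hyd⟩ := Cfsg.Agent.H692.IFO.Lang.aut_of_fix f1 hF.symm.symm (Nat.card_eq_fintype_card.symm) hw1
  obtain ⟨x', hx'⟩ : ∃ x' : MulAut ↥(chevE6.group (GaloisField r n)), x' =
    MulAut.conj y' * d * gr hp6.inList symmE6 := ⟨_, rfl⟩
  rw [← hx'] at hyd
  have hx2 : x' * x' = 1 := by
    apply MulEquiv.ext
    intro a
    apply emb_injective hp6.inList f1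
    have h0 : emb hp6.inList f1 ((x' * x' : MulAut ↥(chevE6.group (GaloisField r n))) a) =
        w * gr (L := KK r) hp6.inList symmE6 (w * gr (L := KK r) hp6.inList symmE6 (emb hp6.inList f1 a) * w⁻¹) *
          w⁻¹ := by
      rw [MulAut.mul_apply, hyd, hyd]
    simp only [h0, map_mul, map_mul, map_inv, gam_sq]
    have h1 : w * (gr (L := KK r) hp6.inList symmE6 w * emb hp6.inList f1 a * (gr hp6.inList symmE6 w)⁻¹) * w⁻¹ =
        (w * gr (L := KK r) hp6.inList symmE6 w) * emb hp6.inList f1 a * (w * gr hp6.inList symmE6 w)⁻¹ := by group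
    rw [h1, hw2, one_mul, inv_one, mul_one, MulAut.one_apply]
  obtain ⟨v, t, ε, hTE, hv, hvx⟩ := cls_e6 f1 hF hr2 hx2 ⟨w, hyd⟩
  have hvw : v * w = t * gr (L := KK r) hp6.inList symmE6 v := by
    have h1 : (v * w)⁻¹ * (t * gr (L := KK r) hp6.inList symmE6 v) = 1 := by
      apply cen6 f1
      intro b
      obtain ⟨a, rfl⟩ : ∃ a, gr hp6.inList symmE6 a = b :=
        (gr (L := GaloisField r n) hp6.inList symmE6).surjective b
      have h2 := hvx a
      simp only [hyd, map_mul, map_mul, map_inv] at h2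
      have h3 : emb hp6.inList f1 (gr hp6.inList symmE6 a) = gr (L := KK r) hp6.inList symmE6 (emb hp6.inList f1 a) :=
        gr_emb f1 a
      rw [h3]
      generalize gr (L := KK r) hp6.inList symmE6 (emb hp6.inList f1 a) = E at h2
      generalize gr (L := KK r) hp6.inList symmE6 v = v' at h2
      calc (v * w)⁻¹ * (t * v') * E = (v * w)⁻¹ * (t * (v' * E * v'⁻¹) * t⁻¹) * (t * v') := by group
        _ = (v * w)⁻¹ * (v * (w * E * w⁻¹) * v⁻¹) * (t * v') := by rw [h2]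
        _ = E * ((v * w)⁻¹ * (t * v')) := by group
    exact inv_mul_eq_one.1 h1
  rw [hw] at hvw
  obtain ⟨h1, h2, h3⟩ := tw_fin (e := _root_.Cfsg.Agent.BpExc.FamTw.Six.em q f) hfg hy1 hz' hv hvw
  exact ⟨v * z, t, ε, hTE, h1, h2, h3⟩

/-- **`²E₆(q)`, `q` odd.** -/
theorem grD_te6 (hn0 : 0 < n) (hn : q = r ^ n) (hK : Fintype.card K = q ^ 2) (hr2 : r ≠ 2)
    {x : MulAut ↥(twistedE6 K q)} (hx : x * x = 1) (hg : IsGrT f x) :
    ∃ (z t : ↥(chevE6.group (KK r))) (ε : (KK r)ˣ), TE ε t ∧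
      (phi chevE6 (KK r) r n z = t * gr (L := KK r) hp6.inList symmE6 z) ∧
      GrD n x t ((MulAut.conj z).toMonoidHom.comp (_root_.Cfsg.Agent.BpExc.FamTw.Six.em q f)) := by
  obtain ⟨z, t, ε, h, hz, h1, h2⟩ := cls_te6 f hn0 hn hK hr2 hx hg
  have hcen := Cfsg.Agent.H692.IFO.Lang.hone6 f hn0 hn hK
  have hinj : Function.Injective ((MulAut.conj z).toMonoidHom.comp (_root_.Cfsg.Agent.BpExc.FamTw.Six.em q f)) :=
    (MulAut.conj z).injective.comp (em_injective f)
  refine ⟨z, t, ε, h, hz, ⟨hinj, fun c hc => ?_, h1, Or.inr fun a => (h2 a).symm, fun b hb hτ ⟨m, hm⟩ => ?_⟩⟩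
  · have h1 : z⁻¹ * c * z = 1 := by
      apply hcen
      intro a
      have h2 : c * (z * _root_.Cfsg.Agent.BpExc.FamTw.Six.em q f a * z⁻¹) = (z * em q f a * z⁻¹) * c := hc a
      calc z⁻¹ * c * z * em q f a = z⁻¹ * (c * (z * em q f a * z⁻¹)) * z := by group
        _ = z⁻¹ * ((z * em q f a * z⁻¹) * c) * z := by rw [h2]
        _ = em q f a * (z⁻¹ * c * z) := by group
    calc c = z * (z⁻¹ * c * z) * z⁻¹ := by group
      _ = 1 := by rw [h1]; group
  · have htt := h.sq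
    have hti : t⁻¹ = t := (inv_eq_of_mul_eq_one_left htt :)
    have hτb : gr (L := KK r) hp6.inList symmE6 b = t * b * t := by
      calc gr (L := KK r) hp6.inList symmE6 b = t⁻¹ * (t * gr (L := KK r) hp6.inList symmE6 b * t⁻¹) * t := by group
        _ = t * b * t := by rw [hτ, hti]
    have hσz : gr (L := KK r) hp6.inList symmE6 (phi chevE6 (KK r) r n z) = t * z := by
      rw [hz, map_mul, gam_sq, h.gam]
    obtain ⟨a, ha⟩ : z⁻¹ * b * z ∈ (_root_.Cfsg.Agent.BpExc.FamTw.Six.em q f).range := by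
      refine Cfsg.Agent.H692.IFO.Lang.mem_range_of_rpow f hn0 hn hK (m := m) ?_ ?_
      · rw [MulAut.mul_apply]
        show gr (L := KK r) hp6.inList symmE6 (phi chevE6 (KK r) r n (z⁻¹ * b * z)) = z⁻¹ * b * z
        simp only [map_mul, map_inv]
        rw [hb, hσz, hτb]
        calc (t * z)⁻¹ * (t * b * t) * (t * z) = z⁻¹ * b * (t * t) * z := by group
          _ = z⁻¹ * b * z := by rw [htt, mul_one]
      · have h1 := conj_pow (i := r ^ m) (a := z⁻¹) (b := b)
        rw [inv_inv] at h1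
        rw [h1, hm]
        group
    have hb2 : z * em q f a * z⁻¹ = b := by rw [ha]; group
    refine ⟨a, ?_, hb2⟩
    apply hinj
    show z * em q f (x a) * z⁻¹ = z * em q f a * z⁻¹
    rw [h1, hb2, hτ]

/-- the `r`-elements of `Fix (τ φ)` -/
theorem rng_te6 (hn0 : 0 < n) (hn : q = r ^ n) (hK : Fintype.card K = q ^ 2) {z t : ↥(chevE6.group (KK r))}
    {ε : (KK r)ˣ} (h : TE ε t) (hz : phi chevE6 (KK r) r n z = t * gr (L := KK r) hp6.inList symmE6 z)
    {y : ↥(chevE6.group (KK r))} (hy : t * gr (L := KK r) hp6.inList symmE6 (phi chevE6 (KK r) r n y) * t⁻¹ = y)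
    {k : ℕ} (hk : y ^ r ^ k = 1) : ∃ a, z * _root_.Cfsg.Agent.BpExc.FamTw.Six.em q f a * z⁻¹ = y := by
  have htt := h.sq
  have hti : t⁻¹ = t := (inv_eq_of_mul_eq_one_left htt :)
  have hσy : gr (L := KK r) hp6.inList symmE6 (phi chevE6 (KK r) r n y) = t * y * t := by
    calc gr (L := KK r) hp6.inList symmE6 (phi chevE6 (KK r) r n y) =
          t⁻¹ * (t * gr (L := KK r) hp6.inList symmE6 (phi chevE6 (KK r) r n y) * t⁻¹) * t := by group
      _ = t * y * t := by rw [hy, hti]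
  have hσz : gr (L := KK r) hp6.inList symmE6 (phi chevE6 (KK r) r n z) = t * z := by
    rw [hz, map_mul, gam_sq, h.gam]
  obtain ⟨a, ha⟩ : z⁻¹ * y * z ∈ (_root_.Cfsg.Agent.BpExc.FamTw.Six.em q f).range := by
    refine Cfsg.Agent.H692.IFO.Lang.mem_range_of_rpow f hn0 hn hK (m := k) ?_ ?_
    · rw [MulAut.mul_apply]
      show gr (L := KK r) hp6.inList symmE6 (phi chevE6 (KK r) r n (z⁻¹ * y * z)) = z⁻¹ * y * z
      simp only [map_mul, map_inv]
      rw [hσz, hσy]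
      calc (t * z)⁻¹ * (t * y * t) * (t * z) = z⁻¹ * y * (t * t) * z := by group
        _ = z⁻¹ * y * z := by rw [htt, mul_one]
    · have h1 := conj_pow (i := r ^ k) (a := z⁻¹) (b := y)
      rw [inv_inv] at h1
      rw [h1, hk]
      group
  exact ⟨a, by rw [ha]; group⟩

end Tw

end Cfsg.Agent.H692.RG
end

-- part: H85/RGT/SixD
section
/-!
# S3509, `E₆(k)`: the condition on the base pair of the centraliser of a graph involution (helper85)

* `h0` : `h_{a₀}(-1) = n_{a₀}(1)²`, inverts `zz s c` if the coefficient of `s` at `α₂` is odd;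
* `zz_mem` : `zz s c ∈ MK K X` for these `s`;
* `cond6` : `Cond K X Y`.
-/

set_option autoImplicit false
set_option linter.unusedSectionVars false

namespace Cfsg.Agent.H85.RGT.Six

open CoxeterSystem Cfsg Cfsg.Lie Cfsg.Lie.ChevalleyDatum
open Cfsg.Agent.ChevalleyStructure Cfsg.Agent.ChevalleyStructure.Elts Cfsg.Agent.ChevalleyStructure.CoxeterGeom
  Cfsg.Agent.ChevalleyStructure.NPerm Cfsg.Agent.ChevalleyStructure.NConj
open Cfsg.Agent.Tits.Roots Cfsg.Agent.Tits.Core Cfsg.Agent.Tits.RootComb Cfsg.Agent.Nodes.Reps Cfsg.Agent.Nodes.BNOf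
  Cfsg.Agent.Nodes.RGDChev Cfsg.Agent.Nodes.Bruhat Cfsg.Agent.Nodes.NormalForm
open Cfsg.Agent.KFacts.RgdField Cfsg.Agent.KFacts.RgdChevCoord Cfsg.Agent.CpAut.RgdUntw
open Cfsg.Agent.BpExc Cfsg.Agent.BpExc.TorCent Cfsg.Agent.BpExc.Tow Cfsg.Agent.BpExc.TowChev Cfsg.Agent.BpExc.Fr
  Cfsg.Agent.BpExc.FamField Cfsg.Agent.BpExc.FamUntw Cfsg.Agent.BpExc.FamInst Cfsg.Agent.BpExc.RowsUntw
open Cfsg.Agent.BpExc.FamTw.Gr (gr gr_xg xg coe_gr coe_xg gr_mul_fld)
open Cfsg.Agent.ChevalleyStructure.GraphSymm (symmE6)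
open Cfsg.Agent.H28.RG Cfsg.Agent.H441.RG
open Cfsg.Agent.H398.RG (Base Cond MK conj_MK le_MK cj_le_MK)

universe u

section Abs

variable {G : Type*} [Group G]

/-- an element of odd order inverted by an element of `N` -/
theorem mem_of_inv {N : Subgroup G} {h z : G} (hh : h ∈ N) (hz : ∀ n ∈ N, z * n * z⁻¹ ∈ N) (hi : h * z * h⁻¹ = z⁻¹)
    {j : ℕ} (hj : z ^ (2 * j + 1) = 1) : z ∈ N := by
  have h1 : z⁻¹ * z⁻¹ ∈ N := by
    have h2 : h * (z * h⁻¹ * z⁻¹) ∈ N := N.mul_mem hh (hz _ (N.inv_mem hh))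
    have e : h * (z * h⁻¹ * z⁻¹) = (h * z * h⁻¹) * z⁻¹ := by group
    rwa [e, hi] at h2
  have h2 : z = (z⁻¹ * z⁻¹) ^ j := by
    have h3 : z⁻¹ * z⁻¹ = (z ^ 2)⁻¹ := by rw [pow_two, mul_inv_rev]
    rw [h3, inv_pow, ← pow_mul, eq_inv_iff_mul_eq_one, ← pow_succ', hj]
  rw [h2]
  exact N.pow_mem h1 j

/-- the commutator of the products -/
theorem comm_prod {x x' y y' z : G} (h1 : y * x = x * y * z) (h2 : y' * x' = x' * y' * z) (h3 : y' * x = x * y')
    (h4 : y * x' = x' * y) (h5 : ∀ g ∈ ({x, x', y, y'} : Set G), z * g = g * z) :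
    (y * y') * (x * x') = (x * x') * (y * y') * (z * z) := by
  have zx' := h5 x' (by simp)
  have zy' := h5 y' (by simp)
  calc (y * y') * (x * x') = y * (y' * x) * x' := by group
    _ = (y * x) * (y' * x') := by rw [h3]; group
    _ = x * y * (z * x') * y' * z := by rw [h1, h2]; group
    _ = x * (y * x') * (z * y') * z := by rw [zx']; group
    _ = (x * x') * (y * y') * (z * z) := by rw [h4, zy']; group

end Abs

variable {k : Type u} [Field k] [IsAlgClosed k] (hk : LocFin k) (r : ℕ) [Fact r.Prime] [CharP k r] [PerfectRing k r]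
  {m : ℕ} {ε : kˣ} {t : ↥(chevE6.group k)}

/-- `h_{a₀}(-1)` -/
noncomputable def h0 (k : Type u) [Field k] : ↥(chevE6.group k) := ng 71 1 * ng 71 1

include hk r in
theorem h0_act {b : Fin 72} (hb : ¬ Even (vc b.val 1)) (c : k) : h0 k * xe b.val c * (h0 k)⁻¹ = xe b.val (-c) := by
  have h1 := ng_sq_act (k := k) hk r ωt 0 b.2 (fun h => hb ((par_top b).1 h)) c
  rw [ωt_rf] at h1
  exact h1

theorem h0_mem (D : TD k r m ε t) : h0 k ∈ X6 k r m t 71 ⊔ X6 k r m t 0 := by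
  have h1 := ng_mem r D (s := 71) (by decide) rh_vals.2.2.1 (by decide +kernel)
  exact mul_mem h1 h1

theorem X6_le_K (hk : LocFin k) : X6 k r m t 71 ≤ K6 k r m t ∧ X6 k r m t 0 ≤ K6 k r m t := by
  constructor
  · rintro y ⟨hy, hyL⟩
    obtain ⟨c, rfl⟩ := (mem_XX (by decide)).1 hy
    exact Subgroup.mem_sup_left (Subgroup.mem_sup_left ⟨xe_U hk (by decide) (by decide) c, hyL⟩)
  · rintro y ⟨hy, hyL⟩
    obtain ⟨c, rfl⟩ := (mem_XX (by decide)).1 hy
    exact Subgroup.mem_sup_left (Subgroup.mem_sup_right ⟨xe_V hk (by decide) c, hyL⟩)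

theorem K6_le_L : K6 k r m t ≤ Fx (SS k r m t) := sup_le (sup_le inf_le_right inf_le_right) inf_le_right

theorem h0_L (hk : LocFin k) (D : TD k r m ε t) : h0 k ∈ Fx (SS k r m t) :=
  K6_le_L r ((sup_le (X6_le_K r hk).1 (X6_le_K r hk).2) (h0_mem r D))

include r in
/-- `h0 ^ j` on the root elements -/
theorem h0_pow_act (hk : LocFin k) {b : Fin 72} (hb : ¬ Even (vc b.val 1)) (j : ℕ) (c : k) :
    h0 k ^ j * xe b.val c * (h0 k ^ j)⁻¹ = xe b.val ((-1) ^ j * c) := by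
  induction j with
  | zero => rw [pow_zero, pow_zero, one_mul, one_mul, inv_one, mul_one]
  | succ j ih =>
    have e : h0 k ^ (j + 1) * xe b.val c * (h0 k ^ (j + 1))⁻¹ =
        h0 k * (h0 k ^ j * xe b.val c * (h0 k ^ j)⁻¹) * (h0 k)⁻¹ := by rw [pow_succ']; group
    rw [e, ih, h0_act hk r hb]
    congr 1
    ring

theorem zz_inv (D : TD k r m ε t) {s : Fin 72} (hs : rh s ≠ s) (c : k) : (zz t s.val c)⁻¹ = zz t s.val (-c) := by
  unfold zz
  rw [mul_inv_rev, ← map_inv, xe_inv, comm_tau r D hs]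

theorem zz_pow (D : TD k r m ε t) {s : Fin 72} (hs : rh s ≠ s) (c : k) (j : ℕ) :
    zz t s.val c ^ j = zz t s.val (j * c) := by
  unfold zz
  have h1 : Commute (xe s.val c) (tau t (xe s.val c)) := (comm_tau r D hs c c).symm
  rw [h1.mul_pow, ← map_pow, xe_pow]

theorem zz_zero (s : ℕ) : zz t s (0 : k) = 1 := by
  unfold zz
  rw [xe_zero, map_one, mul_one]

/-- odd powers of `h0` invert `zz` -/
theorem h0_zz (hk : LocFin k) (D : TD k r m ε t) {s : Fin 72} (hs : rh s ≠ s) (ho : ¬ Even (vc s.val 1)) {j : ℕ}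
    (hj : Odd j) (c : k) : h0 k ^ j * zz t s.val c * (h0 k ^ j)⁻¹ = (zz t s.val c)⁻¹ := by
  have h1 := h0_pow_act r hk ho j c
  rw [hj.neg_one_pow, neg_one_mul] at h1
  have h2 : tau t (h0 k ^ j) = h0 k ^ j := by
    rw [map_pow, ((mem_L r).1 (h0_L r hk D)).2]
  have h3 := congrArg (tau t) h1
  rw [map_mul, map_mul, map_inv, h2] at h3
  rw [zz_inv r D hs]
  unfold zz
  have e : h0 k ^ j * (xe s.val c * tau t (xe s.val c)) * (h0 k ^ j)⁻¹ =
      (h0 k ^ j * xe s.val c * (h0 k ^ j)⁻¹) * (h0 k ^ j * tau t (xe s.val c) * (h0 k ^ j)⁻¹) := by group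
  rw [e, h1, h3]

theorem zz_K (hk : LocFin k) (D : TD k r m ε t) {s : Fin 72} (hs : rh s ≠ s) {c : k} (hc : c ^ r ^ m = c) :
    zz t s.val c ∈ K6 k r m t := by
  have h1 := zz_L r D hs hc
  by_cases h36 : 36 ≤ s.val
  · exact Subgroup.mem_sup_left (Subgroup.mem_sup_left ⟨zz_U hk r D h36 c, h1⟩)
  · refine Subgroup.mem_sup_left (Subgroup.mem_sup_right ⟨?_, h1⟩)
    unfold zz
    rw [tau_xe r D]
    exact mul_mem (xe_V hk (by omega) c) (xe_V hk (rh_negative s (by omega)) _)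

theorem Y_le_MK (hr2 : r ≠ 2) (hm : 0 < m) (hk : LocFin k) (D : TD k r m ε t) :
    X6 k r m t 0 ≤ MK (K6 k r m t) (X6 k r m t 71) := by
  obtain ⟨g, hg, e⟩ := (base6 hk r hr2 hm D).conjY
  rw [← e]
  exact cj_le_MK hg

theorem h0_MK (hr2 : r ≠ 2) (hm : 0 < m) (hk : LocFin k) (D : TD k r m ε t) :
    h0 k ∈ MK (K6 k r m t) (X6 k r m t 71) :=
  (sup_le (le_MK _ _) (Y_le_MK r hr2 hm hk D)) (h0_mem r D)

theorem odd_r (hr2 : r ≠ 2) : ∃ j, r = 2 * j + 1 := (Fact.out : r.Prime).odd_of_ne_two hr2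

theorem zz_r (D : TD k r m ε t) {s : Fin 72} (hs : rh s ≠ s) (c : k) : zz t s.val c ^ r = 1 := by
  rw [zz_pow r D hs, CharP.cast_eq_zero, zero_mul, zz_zero]

/-- **The elements `zz s c`, odd coefficient at `α₂`, are in `M`.** -/
theorem zz_mem (hr2 : r ≠ 2) (hm : 0 < m) (hk : LocFin k) (D : TD k r m ε t) {s : Fin 72} (hs : rh s ≠ s)
    (ho : ¬ Even (vc s.val 1)) {c : k} (hc : c ^ r ^ m = c) : zz t s.val c ∈ MK (K6 k r m t) (X6 k r m t 71) := by
  obtain ⟨j, hj⟩ := odd_r r hr2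
  refine mem_of_inv (h := h0 k ^ 1) (pow_mem (h0_MK r hr2 hm hk D) 1)
    (fun n hn => conj_MK (zz_K r hk D hs hc) hn) (h0_zz r hk D hs ho odd_one c) (j := j) ?_
  rw [← hj, zz_r r D hs]

/-- the commutator of `zz 48 a` and `zz 68 b` -/
theorem zz_comm (hk : LocFin k) (D : TD k r m ε t) : ∃ η : k, (η = 1 ∨ η = -1) ∧ ∀ a b : k,
    zz t 68 b * zz t 48 a = zz t 48 a * zz t 68 b * xe 71 (2 * (η * (a * b))) := by
  obtain ⟨η, hη, h⟩ := comm_top_xe (k := k)
  refine ⟨η, hη, fun a b => ?_⟩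
  have hz : tau t (xe 71 (η * (a * b))) = xe 71 (η * (a * b)) := by
    have h1 := tau_xe r D 71 (η * (a * b))
    rwa [rh_vals.2.2.1, sc_fix r D rh_vals.2.2.1 (Or.inr (by decide +kernel)), one_mul] at h1
  have h1 := h a b
  have h2 := congrArg (tau t) h1
  rw [map_mul, map_mul, map_mul, hz] at h2
  have t48 : ∀ c : k, ∃ d, tau t (xe 48 c) = xe 50 d := fun c => ⟨_, by
    have := tau_xe r D 48 c
    rwa [rh_vals.1] at this⟩
  have t68 : ∀ c : k, ∃ d, tau t (xe 68 c) = xe 66 d := fun c => ⟨_, by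
    have := tau_xe r D 68 c
    rwa [rh_vals.2.1] at this⟩
  have h3 : tau t (xe 68 b) * xe 48 a = xe 48 a * tau t (xe 68 b) := by
    obtain ⟨d, hd⟩ := t68 b
    rw [hd]
    exact comm_xe (by decide) (by decide) (by decide) (by decide +kernel) comm_48_66.1 a d
  have h4 : xe 68 b * tau t (xe 48 a) = tau t (xe 48 a) * xe 68 b := by
    obtain ⟨d, hd⟩ := t48 a
    rw [hd]
    exact comm_xe (by decide) (by decide) (by decide) (by decide +kernel) comm_48_66.2 d b
  have hU : ∀ y ∈ U6 k, xe 71 (η * (a * b)) * y = y * xe 71 (η * (a * b)) := fun y hy =>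
    (comm_U hk hy ((mem_XX (by decide)).2 ⟨_, rfl⟩)).symm
  have key := comm_prod h1 h2 h3 h4 (fun g hg => by
    simp only [Set.mem_insert_iff, Set.mem_singleton_iff] at hg
    rcases hg with rfl | rfl | rfl | rfl
    · exact hU _ (xe_U hk (by decide) (by decide) _)
    · obtain ⟨d, hd⟩ := t48 a
      rw [hd]
      exact hU _ (xe_U hk (by decide) (by decide) _)
    · exact hU _ (xe_U hk (by decide) (by decide) _)
    · obtain ⟨d, hd⟩ := t68 b
      rw [hd]
      exact hU _ (xe_U hk (by decide) (by decide) _))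
  rw [xe_add, ← two_mul] at key
  exact key

/-- **The condition on the base pair.** -/
theorem cond6 (hr2 : r ≠ 2) (hm : 0 < m) (hk : LocFin k) (D : TD k r m ε t) :
    Cond (K6 k r m t) (X6 k r m t 71) (X6 k r m t 0) := by
  intro N hN hMN hY
  obtain ⟨j, hj⟩ := odd_r r hr2
  have hXM : X6 k r m t 71 ≤ MK (K6 k r m t) (X6 k r m t 71) := le_MK _ _
  have hfix71 : rh 71 = 71 := rh_vals.2.2.1
  have hev71 : Even (vc (71 : Fin 72).val 1) := by decide +kernel
  -- `⟨X, Y⟩ ≤ X N`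
  let XN : Subgroup ↥(chevE6.group k) :=
    { carrier := {z | ∃ x ∈ X6 k r m t 71, ∃ n ∈ N, z = x * n}
      one_mem' := ⟨1, one_mem _, 1, N.one_mem, by simp⟩
      mul_mem' := by
        rintro _ _ ⟨x, hx, n, hn, rfl⟩ ⟨x', hx', n', hn', rfl⟩
        refine ⟨x * x', mul_mem hx hx', (x'⁻¹ * n * x') * n', N.mul_mem ?_ hn', by group⟩
        have := hMN x'⁻¹ (hXM (inv_mem hx')) n hn
        rwa [inv_inv] at this
      inv_mem' := by
        rintro _ ⟨x, hx, n, hn, rfl⟩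
        refine ⟨x⁻¹, inv_mem hx, x * n⁻¹ * x⁻¹, hMN x (hXM hx) _ (N.inv_mem hn), by group⟩ }
  have h1 : X6 k r m t 71 ⊔ X6 k r m t 0 ≤ XN := sup_le (fun x hx => ⟨x, hx, 1, N.one_mem, by simp⟩) hY
  obtain ⟨x, hx, n, hn, hρe⟩ := h1 (h0_mem r D)
  have hpow : ∀ i : ℕ, ∃ n' ∈ N, h0 k ^ i = x ^ i * n' := by
    intro i
    induction i with
    | zero => exact ⟨1, N.one_mem, by simp⟩
    | succ i ih =>
      obtain ⟨n', hn', e⟩ := ih
      refine ⟨(x⁻¹ * n' * x) * n, N.mul_mem ?_ hn, ?_⟩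
      · have := hMN x⁻¹ (hXM (inv_mem hx)) n' hn'
        rwa [inv_inv] at this
      · rw [pow_succ, e, hρe, pow_succ]
        group
  have hh : h0 k ^ r ∈ N := by
    obtain ⟨n', hn', e⟩ := hpow r
    obtain ⟨c, -, rfl⟩ := (mem_X6 r D (s := 71) hfix71 (Or.inr hev71)).1 hx
    have h2 : (xe (71 : Fin 72).val c) ^ r = 1 := by rw [xe_pow, CharP.cast_eq_zero, zero_mul, xe_zero]
    rw [h2, one_mul] at e
    rw [e]
    exact hn'
  have hzz : ∀ s : Fin 72, rh s ≠ s → ¬ Even (vc s.val 1) → ∀ c : k, c ^ r ^ m = c → zz t s.val c ∈ N := by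
    intro s hs ho c hc
    refine mem_of_inv (h := h0 k ^ r) hh (hMN _ (zz_mem r hr2 hm hk D hs ho hc)) (h0_zz r hk D hs ho ⟨j, hj⟩ c) (j := j) ?_
    rw [← hj, zz_r r D hs]
  obtain ⟨η, hη, hc⟩ := zz_comm r hk D
  intro y hy
  obtain ⟨c, hcF, rfl⟩ := (mem_X6 r D (s := 71) hfix71 (Or.inr hev71)).1 hy
  have h2 : (2 : k) ≠ 0 := by
    intro h0
    have h9 : (r : ℕ) ∣ 2 := (CharP.cast_eq_zero_iff k r 2).1 (by exact_mod_cast h0)
    exact hr2 ((Nat.prime_dvd_prime_iff_eq Fact.out Nat.prime_two).1 h9)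
  have hη0 : η ≠ 0 := by rcases hη with rfl | rfl <;> simp
  set a : k := c * (2 * η)⁻¹ with ha
  have haF : a ^ r ^ m = a := by
    have h3 : frb k r m a = a := by
      rw [ha, map_mul, map_inv₀, map_mul, map_ofNat, frb_apply, hcF]
      congr 3
      rcases hη with rfl | rfl
      · rw [map_one]
      · rw [map_neg, map_one]
    rwa [frb_apply] at h3
  have h3 := hc a 1
  rw [mul_one] at h3
  have h4 : 2 * (η * a) = c := by
    rw [ha]
    field_simp
  rw [h4] at h3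
  have h5 : xe 71 c = (zz t 48 a * zz t 68 1)⁻¹ * (zz t 68 1 * zz t 48 a) := by
    rw [h3]; group
  show xe 71 c ∈ N
  rw [h5]
  have z48 := hzz 48 mov_vals.2.2.2.2.2.1 (by decide +kernel) a haF
  have z68 := hzz 68 mov_vals.2.2.2.2.2.2 (by decide +kernel) 1 (one_pow _)
  exact N.mul_mem (N.inv_mem (N.mul_mem z48 z68)) (N.mul_mem z68 z48)

end Cfsg.Agent.H85.RGT.Six
end
end

-- part: H694/RG/MEmb
section
prune_inst 0x600044040100020000180012200024400200019200600c01654109400c80676325032901b150121341f422f4007c404811100049423000000a0006004119018000835002a3180d0456008e808880000000000000000000000000000000000000000000000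
set_option linter.all false
open scoped Cfsg.Agent.FastGrp

/-!
# S3509: `MData` with a prescribed embedding, and the frames `Fr m.ι m.σ` (helper694)

Adapted from `H316/U6Model.lean` (helper316): the embedding of the finite group is given by `f : F →+* KK r`.

* `mdata_untw_emb`, `mdata_twE6_emb`, `mdata_twD4_emb`;
* `fr_of_cent` : `Fr m.ι m.σ` from the centraliser; `fr_untw`, `fr_six`, `fr_four`;
* `exists_untw`, `exists_six`, `exists_four` : the data together with the frame.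
-/

set_option autoImplicit false
set_option linter.unusedSectionVars false

namespace Cfsg.Agent.H694.RG

open CoxeterSystem Cfsg Cfsg.Lie Cfsg.Lie.ChevalleyDatum
open Cfsg.Agent.ChevalleyStructure Cfsg.Agent.ChevalleyStructure.Elts Cfsg.Agent.ChevalleyStructure.CoxeterGeom
  Cfsg.Agent.ChevalleyStructure.CoxeterGeomTypes Cfsg.Agent.ChevalleyStructure.NPerm
open Cfsg.Agent.Tits.Roots Cfsg.Agent.Tits.Core Cfsg.Agent.Nodes Cfsg.Agent.Nodes.Reps Cfsg.Agent.Nodes.BNOf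
  Cfsg.Agent.Nodes.OppDec
  Cfsg.Agent.Nodes.RGDChev Cfsg.Agent.Nodes.Bruhat Cfsg.Agent.Nodes.NormalForm
open Cfsg.Agent.KFacts.RgdField Cfsg.Agent.KFacts.RgdChevCoord
open Cfsg.Agent.BpExc Cfsg.Agent.BpExc.FamField Cfsg.Agent.BpExc.TorCent Cfsg.Agent.BpExc.TorChev Cfsg.Agent.BpExc.Tow
  Cfsg.Agent.BpExc.TowChev Cfsg.Agent.BpExc.Fr Cfsg.Agent.BpExc.Pair Cfsg.Agent.BpExc.LangFr Cfsg.Agent.GpExc.Field
  Cfsg.Agent.BpExc.FamUntw Cfsg.Agent.BpExc.FamInst
open Cfsg.Agent.H469.Exc Cfsg.Agent.H469.Exc.SigFr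
open Cfsg.Agent.ChevalleyStructure.SignedSymm Cfsg.Agent.ChevalleyStructure.GraphSymm
open Cfsg.Agent.LangThm (mem_XX_vec)
open Cfsg.Agent.H316.U6

universe u v

variable {D : ChevalleyDatum} {l : ℕ} {M : CoxeterMatrix (Fin l)} {r q : ℕ} [hr : Fact r.Prime]

/-! ### untwisted -/

theorem mdata_untw_emb (hp : IsType D l M) (F : Type) [Field F] [Fintype F] [CharP F r] {d : ℕ}
    {B : Fin l → Fin l → ℤ} (hB : H129.TorusChar.InvC D l d B) (hd : d ≠ 0) (hd1 : d = 1 ∨ d.Prime)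
    (f : F →+* KK r) {n : ℕ} (hn : Nat.card F = r ^ n) :
    ∃ m : MData hp r (Fintype.card F) ↥(D.group F), m.ι = emb hp.inList f ∧ m.σ = phi D (KK r) r n ∧ m.dd = Nat.gcd d (Fintype.card F - 1) ∧
      m.g = AddEquiv.refl _ := by
  have hn0 : 0 < n := by
    rcases Nat.eq_zero_or_pos n with h | h
    · rw [h, pow_zero] at hn
      exact absurd hn (Finite.one_lt_card (α := F)).ne'
    · exact h
  have hk := locFin r
  have hfin := RowsUntw.finite_phi (D := D) (k := AlgebraicClosure (ZMod r)) (r := r) hn0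
  have hq : Fintype.card F = r ^ n := by rw [← hn, Nat.card_eq_fintype_card]
  let φ : AlgebraicClosure (ZMod r) →+* AlgebraicClosure (ZMod r) :=
    ((frb (AlgebraicClosure (ZMod r)) r n : AlgebraicClosure (ZMod r) ≃+* AlgebraicClosure (ZMod r)) :
      AlgebraicClosure (ZMod r) →+* AlgebraicClosure (ZMod r))
  have hφ : ∀ t, φ t = t ^ Fintype.card F := by
    intro t
    rw [hq]
    exact frb_apply _ r n t
  have hσφ : ∀ y : ↥(D.group (AlgebraicClosure (ZMod r))),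
      ((phi D (AlgebraicClosure (ZMod r)) r n y : ↥(D.group (AlgebraicClosure (ZMod r)))) :
        GL D.Idx (AlgebraicClosure (ZMod r))) = glMap D φ (y : GL D.Idx (AlgebraicClosure (ZMod r))) := by
    intro y
    apply Units.ext
    rfl
  have hfix : ∀ a, phi D (AlgebraicClosure (ZMod r)) r n (emb hp.inList f a) = emb hp.inList f a :=
    fun a => Emb.emb_fix hp.inList hφ hσφ a
  have hxs : ∀ s t, phi D (AlgebraicClosure (ZMod r)) r n (xs hp.inList s t) =
      xs hp.inList s (t ^ Fintype.card F) := by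
    intro s t
    apply Subtype.ext
    rw [hσφ]
    apply Units.ext
    rw [coe_xs, coe_xs, coe_xG]
    rw [← hφ t]
    exact Cfsg.Agent.ChevStructure.FieldMap.x_map D φ s t
  have hnorm : ∀ y, phi D (AlgebraicClosure (ZMod r)) r n y = y → ∀ x, ∃ x', emb hp.inList f x' =
      y * emb hp.inList f x * y⁻¹ := by
    intro y hy x
    obtain ⟨b, hb⟩ := Emb.conj_mem_range hp.inList (f := f) hφ hσφ hy (n := emb hp.inList f x) ⟨x, rfl⟩
    exact ⟨b, hb⟩
  have hpow : ∀ y, phi D (AlgebraicClosure (ZMod r)) r n y = y →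
      y ^ Nat.gcd d (Fintype.card F - 1) ∈ (emb hp.inList f).range := by
    intro y hy
    have hy' : H129.TorusUntw.phi D (KK r) r n y = y := by
      apply Subtype.ext
      rw [H129.TorusUntw.coe_phi]
      refine Eq.trans ?_ (congrArg Subtype.val hy)
      rw [hσφ]
      congr 1
      congr 1
      ext t
      rw [hφ, hq, iterateFrobenius_def]
    have h1 := fix_pow_range hp f hq hB hd hy'
    have h2 : Nat.gcd d (Fintype.card F - 1) = d ∨ Nat.gcd d (Fintype.card F - 1) = 1 := by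
      rcases hd1 with h3 | h3
      · right; rw [h3, Nat.gcd_one_left]
      · rcases (Nat.dvd_prime h3).1 (Nat.gcd_dvd_left d (Fintype.card F - 1)) with h4 | h4
        · exact Or.inr h4
        · exact Or.inl h4
    rcases h2 with h2 | h2
    · rw [h2]; exact h1
    · rw [h2, pow_one]
      exact H129.TorusUntw.fix_range hp M.toCoxeterSystem f hq hB hd
        (exists_root_of_coprime hd (Nat.Coprime.symm h2)) hy'
  refine ⟨{
    σ := phi D (AlgebraicClosure (ZMod r)) r n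
    π := Equiv.refl _
    dd := Nat.gcd d (Fintype.card F - 1)
    norm := hnorm
    pow_dd := hpow
    g := AddEquiv.refl _
    e := n
    ι := emb hp.inList f
    he := hn0
    hq := hq.symm
    frob := phi_isFrob r n
    fr := phi_fr hp M.toCoxeterSystem r hk n
    fin := hfin
    inj := emb_injective hp.inList f
    fix := hfix
    idx := ?_
    act := ?_
    perm := fun v i => rfl
    top := rfl
    gen := ?_ }, rfl, rfl, rfl, rfl⟩
  · intro y hy
    have hy' : glMap D φ (y : GL D.Idx (AlgebraicClosure (ZMod r))) = y := by rw [← hσφ, hy]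
    obtain ⟨a, ha, t, ht, e⟩ := EmbSplit.untw_split hp.inList (Emb.fix_iff_range hφ) y.2 hy'
    have hta : t ∈ D.group (AlgebraicClosure (ZMod r)) := by
      have h1 : t = ((emb hp.inList f ⟨a, ha⟩ : ↥(D.group (AlgebraicClosure (ZMod r)))) :
          GL D.Idx (AlgebraicClosure (ZMod r)))⁻¹ * y := by
        rw [coe_emb]
        exact eq_inv_mul_of_mul_eq e.symm
      rw [h1]
      exact mul_mem (inv_mem (SetLike.coe_mem _)) y.2
    have e' : y = emb hp.inList f ⟨a, ha⟩ * ⟨t, hta⟩ := Subtype.ext e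
    have hσt : phi D (AlgebraicClosure (ZMod r)) r n ⟨t, hta⟩ = ⟨t, hta⟩ := by
      have h1 := hy
      rw [e', map_mul, hfix] at h1
      exact mul_left_cancel h1
    have hft : IsOfFinOrder (⟨t, hta⟩ : ↥(D.group (AlgebraicClosure (ZMod r)))) := by
      have h1 : IsOfFinOrder (⟨⟨t, hta⟩, hσt⟩ : ↥(fixedSubgroup (phi D (AlgebraicClosure (ZMod r)) r n))) :=
        (isOfFinOrder_of_finite _ : _)
      exact ((fixedSubgroup (phi D (AlgebraicClosure (ZMod r)) r n)).subtype.isOfFinOrder h1 :)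
    obtain ⟨m, hm, hm1⟩ := RowsN.exists_coprime hp.inList (Subgroup.mem_subgroupOf.2 ht) hft
    refine ⟨m, hm, ?_⟩
    rw [e']
    exact RowsN.pow_mem_of_split (N := (emb hp.inList f).range) ⟨_, rfl⟩
      (fun b hb => Emb.conj_mem_range hp.inList (f := f) hφ hσφ hσt hb) hm1
  · intro s hs
    exact ⟨s, rfl, hs, 1, one_ne_zero, fun t => by rw [hxs, one_mul], fun t => by rw [hxs, inv_one, one_mul]⟩
  · intro N hpos hneg
    have hxe : ∀ s (t : F), emb hp.inList f (xs hp.inList s t) = xs hp.inList s (f t) := by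
      intro s t
      apply Subtype.ext
      rw [coe_emb]
      apply Units.ext
      rw [coe_xs, coe_xs, coe_xG]
      exact Cfsg.Agent.ChevStructure.FieldMap.x_map D f s t
    rw [eq_top_iff, ← G1_eq_top (K := F) hp M.toCoxeterSystem]
    refine iSup_le ?_
    rintro ⟨x, hx⟩
    intro y hy
    obtain ⟨s, hs, rfl⟩ := (isRoot_iff hp _ _).1 hx
    obtain ⟨t, ht⟩ := (mem_XX_vec hp hs).1 hy
    have e : y = xs hp.inList s t := Subtype.ext ht
    rw [e]
    rcases hx.pos_or_neg with h0 | h0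
    · exact hpos _ (by rw [hxe]; exact xs_mem_Sup_Pos hp hs h0 _)
    · exact hneg _ (by rw [hxe]; exact xs_mem_Sup_Neg hp hs h0 _)


open Cfsg.Agent.ChevalleyStructure.TwE6Basic (hE6 sg)
open Cfsg.Agent.CpAut.RgdUntw (fld)
open Cfsg.Agent.BpExc.FamTw.Gr Cfsg.Agent.BpExc.FamTw.Six

/-- **`²E₆(q)`.** -/
theorem mdata_twE6_emb {K : Type} [Field K] [Fintype K] [CharP K r] {q : ℕ} (hq : IsPrimePow q)
    (hK : Fintype.card K = q ^ 2) (f : K →+* KK r) {m : ℕ} (hm : q = r ^ m) :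
    ∃ M : MData Nodes.RGDTwE6.hp r q ↥(twistedE6 K q), M.ι = _root_.Cfsg.Agent.BpExc.FamTw.Six.em q f ∧ M.σ = H522.FamTw.Frame.sig6 (KK r) r m ∧
      M.dd = Nat.gcd 3 (q + 1) ∧ M.g = H720.TwFr.permE H720.TwFr.rho6 := by
  have hm0 : 0 < m := by
    rcases Nat.eq_zero_or_pos m with h | h
    · rw [h, pow_zero] at hm
      exact absurd hm hq.one_lt.ne'
    · exact h
  have hk := locFin r
  obtain ⟨Φ, hΦe⟩ : ∃ Φ : KK r ≃+* KK r, Φ = frb (KK r) r m := ⟨_, rfl⟩
  have hΦ : ∀ a, Φ a = a ^ r ^ m := by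
    intro a
    rw [hΦe]
    exact frb_apply _ r m a
  have hφ : ∀ a, (Φ : KK r →+* KK r) a = a ^ q := by
    intro a
    rw [hm]
    exact hΦ a
  have hγ := coe_gr (L := KK r) hE6 symmE6
  have hσ := SigFr.isFrob_symm_fld (p := r) symmE6 hγ hΦ
  have Fσ := (SigFr.fr_E6 hγ CoxeterMatrix.E₆.toCoxeterSystem).mul
    (SigFr.fr_fld Nodes.RGDTwE6.hp CoxeterMatrix.E₆.toCoxeterSystem Φ)
  have hfin := Sig.finite_fixed hk hm0 hσ
  have hsg : ∀ y : ↥(chevE6.group (KK r)),
      (((gr hE6 symmE6 * fld chevE6 Φ : MulAut ↥(chevE6.group (KK r))) y :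
        ↥(chevE6.group (KK r))) : GL chevE6.Idx (KK r)) =
      sg (Φ : KK r →+* KK r) (y : GL chevE6.Idx (KK r)) := by
    intro y
    rfl
  have hfix : ∀ a, (gr hE6 symmE6 * fld chevE6 Φ : MulAut ↥(chevE6.group (KK r))) (_root_.Cfsg.Agent.BpExc.FamTw.Six.em q f a) = _root_.Cfsg.Agent.BpExc.FamTw.Six.em q f a := by
    intro a
    apply Subtype.ext
    rw [hsg, coe_em]
    exact (EmbInst.twE6_fix (f := f) hq hK hφ a.2).2
  have hnorm : ∀ y, (gr hE6 symmE6 * fld chevE6 Φ : MulAut ↥(chevE6.group (KK r))) y = y → ∀ x, ∃ x',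
      em q f x' = y * em q f x * y⁻¹ := by
    intro y hy x
    have h1 : sg (Φ : KK r →+* KK r) (y : GL chevE6.Idx (KK r)) = y := by rw [← hsg, hy]
    have hn := EmbInst.twE6_normalizer (f := f) hq hK hφ y.2 h1
    obtain ⟨b, hb, hb'⟩ := (Subgroup.mem_normalizer_iff.1 hn (glMap chevE6 f x)).1 ⟨x, x.2, rfl⟩
    exact ⟨⟨b, hb⟩, Subtype.ext hb'⟩
  have hpow : ∀ y, (gr hE6 symmE6 * fld chevE6 Φ : MulAut ↥(chevE6.group (KK r))) y = y →
      y ^ Nat.gcd 3 (q + 1) ∈ (em q f).range := by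
    intro y hy
    have h1 : sg (Φ : KK r →+* KK r) (y : GL chevE6.Idx (KK r)) = y := by rw [← hsg, hy]
    have h2 : iterateFrobenius (KK r) r m = (Φ : KK r →+* KK r) := by
      ext t
      rw [iterateFrobenius_def, ← hm, hφ]
    have h3 := H720.TwFr.coe_sig6 (k := KK r) r m y
    rw [h2, h1] at h3
    exact H720.TwFr.desc6 f r hk hm0 hm hK (Subtype.ext h3)
  refine ⟨{
    σ := _
    π := symmE6.σ₀.symm
    dd := Nat.gcd 3 (q + 1)
    norm := hnorm
    pow_dd := hpow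
    g := _
    e := m
    ι := _root_.Cfsg.Agent.BpExc.FamTw.Six.em q f
    he := hm0
    hq := hm.symm
    frob := hσ
    fr := Fσ
    fin := hfin
    inj := em_injective f
    fix := hfix
    idx := ?_
    act := ?_
    perm := fun v i => rfl
    top := topE6
    gen := gen_of_words Nodes.RGDTwE6.hp f (fun _ => rfl) (wordsE6 q) }, rfl, ?_, rfl, g_eq_six⟩
  · intro y hy
    have h1 : sg (Φ : KK r →+* KK r) (y : GL chevE6.Idx (KK r)) = y := by rw [← hsg, hy]
    obtain ⟨g, hg, t, ht, e⟩ := EmbInst.twE6_split (f := f) hq hK hφ y.2 h1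
    have ht' : t ∈ chevE6.group (KK r) := diagonal_le_group hE6 _ ht
    have hn := EmbInst.twE6_normalizer (f := f) hq hK hφ y.2 h1
    refine pow_mem_range Nodes.RGDTwE6.hp (_root_.Cfsg.Agent.BpExc.FamTw.Six.em q f) hfix hy (fun a => ?_) (a := ⟨g, hg⟩) (t := ⟨t, ht'⟩) ht
      (Subtype.ext e)
    obtain ⟨b, hb, hb'⟩ := (Subgroup.mem_normalizer_iff.1 hn (glMap chevE6 f a)).1 ⟨a, a.2, rfl⟩
    exact ⟨⟨b, hb⟩, Subtype.ext hb'⟩
  · intro s hs
    refine ⟨symmE6.σ ⟨s, hs⟩, ?_, actF_symm_fld symmE6 _ hγ (fun a => (hφ a)) ⟨s, hs⟩⟩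
    funext i
    exact piE6 ⟨s, hs⟩ i
  · refine MulEquiv.ext fun y => Subtype.ext ?_
    have h2 : iterateFrobenius (KK r) r m = (Φ : KK r →+* KK r) := by
      ext t
      rw [iterateFrobenius_def, ← hm, hφ]
    have h3 := H720.TwFr.coe_sig6 (k := KK r) r m y
    rw [h2] at h3
    exact (hsg y).trans h3.symm

/-- **`³D₄(q)`.** -/
theorem mdata_twD4_emb {K : Type} [Field K] [Fintype K] [CharP K r] {q : ℕ} (hq : IsPrimePow q)
    (hK : Fintype.card K = q ^ 3) (f : K →+* KK r) {m : ℕ} (hm : q = r ^ m) :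
    ∃ M : MData Nodes.RGDTwD4.hp r q ↥(twistedD4 K q), M.ι = H28.FamFour.em q f ∧
      M.σ = H522.FamTw.Frame.sig4 (KK r) r 1 m ∧ M.dd = 1 ∧ M.g = H720.TwFr.permE H720.TwFr.rho4 := by
  have hm0 : 0 < m := by
    rcases Nat.eq_zero_or_pos m with h | h
    · rw [h, pow_zero] at hm
      exact absurd hm hq.one_lt.ne'
    · exact h
  have hk := locFin r
  obtain ⟨Φ, hΦe⟩ : ∃ Φ : KK r ≃+* KK r, Φ = frb (KK r) r m := ⟨_, rfl⟩
  have hΦ : ∀ a, Φ a = a ^ r ^ m := by
    intro a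
    rw [hΦe]
    exact frb_apply _ r m a
  have hφ : ∀ a, (Φ : KK r →+* KK r) a = a ^ q := by
    intro a
    rw [hm]
    exact hΦ a
  have hγ := coe_gr (L := KK r) hD4 symmD4a
  have hσ := SigFr.isFrob_symm_fld (p := r) symmD4a hγ hΦ
  have Fσ := (SigFr.fr_D4 hγ coxeterD4.toCoxeterSystem).mul
    (SigFr.fr_fld Nodes.RGDTwD4.hp coxeterD4.toCoxeterSystem Φ)
  have hfin := Sig.finite_fixed hk hm0 hσ
  have hsg : ∀ y : ↥(chevD4.group (KK r)),
      (((gr hD4 symmD4a * fld chevD4 Φ : MulAut ↥(chevD4.group (KK r))) y :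
        ↥(chevD4.group (KK r))) : GL chevD4.Idx (KK r)) =
      D4Fixed.sig (Φ : KK r →+* KK r) (y : GL chevD4.Idx (KK r)) := by
    intro y
    rfl
  let em4 : ↥(twistedD4 K q) →* ↥(chevD4.group (KK r)) :=
    (Cfsg.Agent.GpExc.Field.emb hD4 f).comp (Subgroup.inclusion (twisted_le_D4 hq hK))
  have hem : ∀ g : ↥(twistedD4 K q), ((em4 g : ↥(chevD4.group (KK r))) : GL chevD4.Idx (KK r)) =
      glMap chevD4 f (g : GL chevD4.Idx K) := fun _ => rfl
  have hinj : Function.Injective em4 :=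
    (Cfsg.Agent.GpExc.Field.emb_injective hD4 f).comp (Subgroup.inclusion_injective _)
  have hfix : ∀ a, (gr hD4 symmD4a * fld chevD4 Φ : MulAut ↥(chevD4.group (KK r))) (em4 a) = em4 a := by
    intro a
    apply Subtype.ext
    rw [hsg, hem]
    exact (EmbInst.twD4_fix (f := f) hq hK hφ a.2).2
  have hnorm : ∀ y, (gr hD4 symmD4a * fld chevD4 Φ : MulAut ↥(chevD4.group (KK r))) y = y → ∀ x, ∃ x',
      em4 x' = y * em4 x * y⁻¹ := by
    intro y hy x
    have h1 : D4Fixed.sig (Φ : KK r →+* KK r) (y : GL chevD4.Idx (KK r)) = y := by rw [← hsg, hy]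
    have hn := EmbInst.twD4_normalizer (f := f) hq hK hφ y.2 h1
    obtain ⟨b, hb, hb'⟩ := (Subgroup.mem_normalizer_iff.1 hn (glMap chevD4 f x)).1 ⟨x, x.2, rfl⟩
    exact ⟨⟨b, hb⟩, Subtype.ext hb'⟩
  have hpow : ∀ y, (gr hD4 symmD4a * fld chevD4 Φ : MulAut ↥(chevD4.group (KK r))) y = y →
      y ^ 1 ∈ em4.range := by
    intro y hy
    rw [pow_one]
    have h1 : D4Fixed.sig (Φ : KK r →+* KK r) (y : GL chevD4.Idx (KK r)) = y := by rw [← hsg, hy]
    have h2 : iterateFrobenius (KK r) r m = (Φ : KK r →+* KK r) := by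
      ext t
      rw [iterateFrobenius_def, ← hm, hφ]
    have h3 := H720.TwFr.coe_sig4 (k := KK r) r m y
    rw [h2, h1] at h3
    exact H720.TwFr.desc4 f r (twisted_le_D4 hq hK) hk hm0 hm hK (Subtype.ext h3)
  refine ⟨{
    σ := _
    π := symmD4a.σ₀.symm
    dd := 1
    norm := hnorm
    pow_dd := hpow
    g := _
    e := m
    ι := em4
    he := hm0
    hq := hm.symm
    frob := hσ
    fr := Fσ
    fin := hfin
    inj := hinj
    fix := hfix
    idx := ?_
    act := ?_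
    perm := fun v i => rfl
    top := topD4
    gen := gen_of_words Nodes.RGDTwD4.hp f hem (wordsD4 q) }, rfl, ?_, rfl, g_eq_four⟩
  · intro y hy
    have h1 : D4Fixed.sig (Φ : KK r →+* KK r) (y : GL chevD4.Idx (KK r)) = y := by rw [← hsg, hy]
    obtain ⟨g, hg, t, ht, e⟩ := EmbInst.twD4_split (f := f) hq hK hφ y.2 h1
    have ht' : t ∈ chevD4.group (KK r) := diagonal_le_group hD4 _ ht
    have hn := EmbInst.twD4_normalizer (f := f) hq hK hφ y.2 h1
    refine pow_mem_range Nodes.RGDTwD4.hp em4 hfix hy (fun a => ?_) (a := ⟨g, hg⟩) (t := ⟨t, ht'⟩) ht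
      (Subtype.ext e)
    obtain ⟨b, hb, hb'⟩ := (Subgroup.mem_normalizer_iff.1 hn (glMap chevD4 f a)).1 ⟨a, a.2, rfl⟩
    exact ⟨⟨b, hb⟩, Subtype.ext hb'⟩
  · intro s hs
    refine ⟨symmD4a.σ ⟨s, hs⟩, ?_, actF_symm_fld symmD4a _ hγ (fun a => (hφ a)) ⟨s, hs⟩⟩
    funext i
    exact piD4 ⟨s, hs⟩ i
  · refine MulEquiv.ext fun y => Subtype.ext ?_
    have h2 : iterateFrobenius (KK r) r m = (Φ : KK r →+* KK r) := by
      ext t
      rw [iterateFrobenius_def, ← hm, hφ]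
    have h3 := H720.TwFr.coe_sig4 (k := KK r) r m y
    rw [h2] at h3
    refine (hsg y).trans (h3.symm.trans ?_)
    rw [H720.TwFr.sig4, H522.FamTw.Frame.sig4, pow_one]


/-! ### the frames -/

/-- the frame, untwisted -/
theorem fr_untw (hp : IsType D l M) (F : Type) [Field F] [Fintype F] [CharP F r] (f : F →+* KK r) {n : ℕ}
    (hn : Nat.card F = r ^ n) (hZ : Subgroup.center ↥(D.group (KK r)) = ⊥) :
    H327.RG.Fr (emb hp.inList f) (phi D (KK r) r n) where
  inj := emb_injective hp.inList f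
  cent := fun z hz => FamUntw.eq_one_of_comm hp (locFin r) r f hZ hz
  fixι := fun a => FamUntw.phi_emb hp r f hn a
  norm := fun y hy a => by
    obtain ⟨b, hb⟩ := H378.TorFin.conj_range hp f r hn hy ⟨a, rfl⟩
    exact ⟨b, hb⟩

/-- **Data and frame, untwisted exceptional groups.** -/
theorem exists_untw (hp : IsType D l M) (hB2 : D ≠ chevB2) (hD4 : D ≠ chevD4) (F : Type) [Field F] [Fintype F]
    [CharP F r] (f : F →+* KK r) {n : ℕ} (hn : Nat.card F = r ^ n)
    (hZ : Subgroup.center ↥(D.group (KK r)) = ⊥) :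
    ∃ m : MData hp r (Fintype.card F) ↥(D.group F), m.ι = emb hp.inList f ∧ m.σ = phi D (KK r) r n ∧
      m.g = AddEquiv.refl _ ∧ H327.RG.Fr m.ι m.σ ∧
      ((m.dd = 1 ∧ (D = chevG2 ∨ D = chevF4 ∨ D = chevE8)) ∨ (m.dd = Nat.gcd 3 (Fintype.card F - 1) ∧ D = chevE6) ∨
      (m.dd = Nat.gcd 2 (Fintype.card F - 1) ∧ D = chevE7)) := by
  obtain ⟨d, B, hB, h⟩ := exists_invC hp hB2 hD4
  obtain ⟨m, hm1, hm2, hm, hg⟩ := mdata_untw_emb (r := r) hp F hB (by omega) (by
    rcases h with ⟨rfl, -⟩ | ⟨rfl, -⟩ | ⟨rfl, -⟩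
    · exact Or.inl rfl
    · exact Or.inr Nat.prime_three
    · exact Or.inr Nat.prime_two) f hn
  refine ⟨m, hm1, hm2, hg, ?_, ?_⟩
  · rw [hm1, hm2]
    exact fr_untw hp F f hn hZ
  rcases h with ⟨rfl, h⟩ | ⟨rfl, h⟩ | ⟨rfl, h⟩
  · left
    rw [hm, Nat.gcd_one_left]
    exact ⟨rfl, h⟩
  · exact Or.inr (Or.inl ⟨hm, h⟩)
  · exact Or.inr (Or.inr ⟨hm, h⟩)

/-- **Data and frame of `²E₆(q)`.** -/
theorem exists_six {K : Type} [Field K] [Fintype K] [CharP K r] (hq : IsPrimePow q) (hK : Fintype.card K = q ^ 2)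
    (f : K →+* KK r) {n : ℕ} (hn : q = r ^ n) :
    ∃ m : MData Nodes.RGDTwE6.hp r q ↥(twistedE6 K q), m.ι = _root_.Cfsg.Agent.BpExc.FamTw.Six.em q f ∧ m.σ = H522.FamTw.Frame.sig6 (KK r) r n ∧
      m.dd = Nat.gcd 3 (q + 1) ∧ m.g = H720.TwFr.permE H720.TwFr.rho6 ∧ H327.RG.Fr m.ι m.σ := by
  obtain ⟨m, h1, h2, h3, h4⟩ := mdata_twE6_emb hq hK f hn
  refine ⟨m, h1, h2, h3, h4, ?_⟩
  rw [h1, h2]
  exact H327.RG.fr_te6 hq hK f hn

/-- **Data and frame of `³D₄(q)`.** -/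
theorem exists_four {K : Type} [Field K] [Fintype K] [CharP K r] (hq : IsPrimePow q) (hK : Fintype.card K = q ^ 3)
    (f : K →+* KK r) {n : ℕ} (hn : q = r ^ n) :
    ∃ m : MData Nodes.RGDTwD4.hp r q ↥(twistedD4 K q), m.ι = H28.FamFour.em q f ∧
      m.σ = H522.FamTw.Frame.sig4 (KK r) r 1 n ∧ m.dd = 1 ∧ m.g = H720.TwFr.permE H720.TwFr.rho4 ∧
      H327.RG.Fr m.ι m.σ := by
  have hn0 : 0 < n := by
    rcases Nat.eq_zero_or_pos n with h | h
    · rw [h, pow_zero] at hn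
      exact absurd hn hq.one_lt.ne'
    · exact h
  obtain ⟨m, h1, h2, h3, h4⟩ := mdata_twD4_emb hq hK f hn
  refine ⟨m, h1, h2, h3, h4, ?_⟩
  rw [h1, h2]
  exact H327.RG.fr_te4 hq hK f hn0 hn

end Cfsg.Agent.H694.RG

private theorem dce_3f8ecba0c4d4 : _root_.True := by
  try have : _root_.True := by simp only [_root_.Cfsg.Agent.H522.FamTw.Frame.sig4.eq_1]
  exact _root_.True.intro
end

-- part: H194/RG/TriRow
section
set_option linter.all false
open scoped Cfsg.Agent.FastGrp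

/-!
# S3509, `E₆`: the checks of the rows of the table of the subsystems `A₂ A₂ A₂` (helper194)
-/

set_option autoImplicit false

namespace Cfsg.Agent.H194.RG

open Cfsg Cfsg.Lie Cfsg.Agent.ChevalleyStructure Cfsg.Agent.ChevalleyStructure.RootVec Cfsg.Agent.Nodes.RGDChev
open Cfsg.Agent.KFacts.ChevTwoTab (carB)

def gi (l : List ℕ) (i : Fin 3) : ℕ := l.getD i 0

/-- the value of the function at the root `q` -/
def fv (r : Row) (q : ℕ) : ℤ := ∑ k : Fin 6, ((r.f.getD k 0 : ℕ) : ℤ) * vec chevE6 6 q k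

/-- the coefficients -/
def gg (l : List ℤ) (k : ℕ) : ℤ := l.getD k 0

theorem neg_lt : ∀ q < 36, ∃ k : Fin 6, vec chevE6 6 q k < 0 := by decide +kernel

theorem row_lt : ∀ r ∈ TT6, ∀ i : Fin 3, gi r.b i < 72 ∧ gi r.c i < 72 ∧ gi r.d i < 72 ∧ gi r.u i < 72 ∧
    gi r.v i < 72 := by decide +kernel

theorem row_nn : ∀ r ∈ TT6, ∀ i : Fin 3, ∀ k : Fin 6, 0 ≤ vec chevE6 6 (gi r.c i) k ∧
    0 ≤ vec chevE6 6 (gi r.d i) k := by decide +kernel

theorem row_sum : ∀ r ∈ TT6, ∀ i : Fin 3, ∀ k : Fin 6,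
    vec chevE6 6 (gi r.b i) k = vec chevE6 6 (gi r.c i) k + vec chevE6 6 (gi r.d i) k ∧
    vec chevE6 6 (gi r.b i) k = vec chevE6 6 (gi r.u i) k + vec chevE6 6 (gi r.v i) k := by decide +kernel

theorem row_mem : ∀ r ∈ TT6, ∀ i : Fin 3, fv r (gi r.b i) % 3 = 0 ∧ fv r (gi r.c i) % 3 = 0 ∧
    fv r (gi r.d i) % 3 = 0 ∧ fv r (gi r.u i) % 3 ≠ 0 ∧ fv r (gi r.v i) % 3 ≠ 0 := by decide +kernel

theorem row_all : ∀ r ∈ TT6, ∀ q < 72, 36 ≤ q → fv r q % 3 = 0 →
    ∃ i : Fin 3, q = gi r.b i ∨ q = gi r.c i ∨ q = gi r.d i := by decide +kernel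

private def dg (T i : ℕ) : ℕ := Nat.land (Nat.shiftRight T (Nat.mul 3 i)) 7

private def ca (r k : ℕ) : ℕ := dg (nat_lit 0x975b25d6496d924b6472d925b2492c91cb2492491c9246e492491c72471b91c6dc71b6dc96c8e4b2372c8e49237248db9239238dc8e36e38db6e39246dc91b6e46db71b9236dc8db6e36e46db71b6e36db4db6da6db49b6db4db6936d24db6da6db49b6926d249b6db4db4d36934d24d36d24da4934924da29348a4d12936db69b69a6d269a49a49269b49269249249268a49229244a49a25248949125244149104a) (Nat.add (Nat.mul 6 r) k)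

private def cb (k s : ℕ) : ℕ := dg (nat_lit 0x4932996532924cb2994994994cc0ca6526526532ca4932996532924994ca4ca6526526532932932e160b2932932994994994ca4ca6524ca49b2524ca4d929265265b84a4d825949949364a4ca49b2524ca49b6494924994936c929b7092924936c12536c92926524926d92526524926d92524936db7092892924936d36c124929249b6494924994924db6db6dc24925248925249249249b6d249b6db04924924a492) (Nat.add (Nat.mul 72 k) s)

private def ct (r s : ℕ) : ℕ := dg (nat_lit 0x8db6db6da4926db6db6d249249249249248924924949244924924871b6db4936d26da49245b69b69249125125a4924494892922492416e36d26d369a69369229b4d22da44b48a2534912914512894892096dc69a69b4da4d34d149a6d148b2d268945268a28a44a2514510496db8934da6da49a6ca4936ca45169a4c92924c945244944a2902496da51b6d369369245b49225b4da44a25b49225a4912912892424496d34e369b4d34d229a69145a68b2d145a69145348a28a25120a2896d26dc4da6d349949368a45365169929a4d129265228944a04948969b4da8db49b48b49a4d12912d328b69368a4522d225224844a25169a6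d371a69b4526934ca28a2996534d34ca29149a25144128945169369b6e24db2924d26c948944a4da6d26c948a49324a4092512914db4da6946db48a25125a49a4d328a45245b69b4d224909144a24a4da6d34d38db45144a25349349965229229b4da69a24828a28944a4d369b49b71b29128945269264a4d949149a6d369324125225128a49b6926db6e324a4892924c92924936ca4936d24db2092494912524924db6db6dc24925248925249249249b6d249b6db04924924a4926da4d248a4498db69b49b49b4da44a2522522512486da4d248a4496d349a45228971b4da69a69a68b2d145145144a2416d349a4522896d26932914896e26d36936936516992912912894096d269329148969b4916922516d46da4da4d12d328b68a44a44908969b49169225169a68a4d145169b8d34d34ca2996534ca28a28825169a68a4d14516936524992914db7126d26c944a4da6c948948124a6936524992916922da69224a6d34a36d125a4d328a45b6892122894db49144b4916914d34d144a69a69c6ca25349965229b4c90514514da68a28a69168a49b49928a4da4db8c945264a4d949a6c824a44a4d36522524d16524926d92524936db7092892924936d36c124929249b6494924994db49144b4916d34912636da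4d328a44921b6922896922da69224a4da68a28a69169a68a25c6d349965228905b4d14516914d34d144a4d36522524d14da4c945b8d264a4d948825a6ca44a68a49b49928a49b6494924994936c929b7092924936c12536c92926524926d92524d22da44b48a6d225a45a4636d328921a45a45b4894d22da44b48a4d14d328a68a69945345345c69965105a29a29a6514d14d328a68a4ca49b2524ca4d929265265b84a4d825949949364a4ca49b2524ca49a2d168b45268b45a29a29a31b24345345345a2d149a2d168b4524994ca4ca6526526532932932e160b2932932994994994ca4ca6524932996532924cb2994994994cc0ca6526526532ca49329965329249168b2d169245968b48b48b45885a2d22d22d165a49168b2d169248b45a45a2d22d22d169169164331969169168b48b48b45a45a2d248a6532994d22994ca68a68a6096e14d14d14ca65348a6532994d245a4896d245a44b6922d22c90da44c6cb48b4912da45a4896d245a45345169a29a28b4d14d14c828b2d38ca68a68a2d345345169a29a45264a4d949a2526ca4ca4c125169b70a4ca4c949b45264a4d949a4892db49248b49125b68921b6924912636d125b6922d249224b6d24512d26d245344a45b4c90522da44b49c6ca25a4da29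a48948b69a44a29a69a29328a29a6c825148b2d269b8c94534d32934514534da4494934d94932514936c124a45169a4db70929269b29264a2926da2d249224b6d249124921b69b6924912512636db6924892db49248b29a48948b69a44a44905b4d22da44b48a25c6da4da4512d26d24532934514534da28a28825a6d148b2d268945b8d34d344a29a69a29329264a2926da2514812536ca45169a4c929b71269b4494934d94932912d248b69344921225225b4da44a25b49b4a36da2912d248b69328a29a4534d328905145145a68b2d145a69a69c6d328a29a4534d32894932926d325024a44a45365169929a4da4db89b2894932926d325229169349b2422512912912d328b69369369b51b25229169349b25148a4d269b20944a28a28a2996534d34d34da6e325148a4d269b24a45249a4db04928948948944a4da6d26d26d36dc24a45249a4db4924492492486db6d249b6d24924924892524892498db6db6da4924892922492416da49b69245b69249125a49125244971b6db4936d245128948920969369b4d22922da44b49348a2512916e36d26d369a44a2514510494d34da6d149148b2d269268944a28a6dc69a69b4da44944a29024949a6d36ca48a45169a4d24c92894526db8934da6da2912892424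4969245225b49b4da44a25225b49a4916da51b6d369328a25120a2894d229145a69a68b2d145145a69348a6d34e369b4d328944a04948949948a45369365169929129a4d26526d26dc4da6d325224844a25148b49129a4d12d328b68a4536922d269b4da8db49b25144128945145268a2934ca2996534ca2934d149a69a6d371a69b24a4092512912924c94926c944a4da6c94926ca49369369b6e24db24909144a24a48a25a49125a4d328a45b69245b4d24db4da6946db24828a28944a45145348a25349965229b4d229a69a4da6d34d38db24125225128a29129268945264a4d949a6d14936934d369b49b71b20924949125224a4924c92892924936d36ca4924db49b6926db6e304924924a49224924925249249249249249b6db6db4924db6db6dc) (Nat.add (Nat.mul 72 r) s)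

private theorem ca_eq : ∀ r < 72, ∀ k < 6, (chevE6.coroot.getD r #[]).getD k 0 = (ca r k : ℤ) - 3 := by decide +kernel

private theorem cb_eq : ∀ k < 6, ∀ s < 72, chevE6.cartan k s = (cb k s : ℤ) - 2 := by decide +kernel

private theorem ct_eq : ∀ r < 72, ∀ s < 72, Nat.beq
    (ca r 0 * cb 0 s + ca r 1 * cb 1 s + ca r 2 * cb 2 s + ca r 3 * cb 3 s + ca r 4 * cb 4 s + ca r 5 * cb 5 s + 38)
    (ct r s + 2 * (ca r 0 + ca r 1 + ca r 2 + ca r 3 + ca r 4 + ca r 5) +
      3 * (cb 0 s + cb 1 s + cb 2 s + cb 3 s + cb 4 s + cb 5 s)) = true := by decide +kernel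

private theorem car_eq {r s : ℕ} (hr : r < 72) (hs : s < 72) : carB chevE6 r s = (ct r s : ℤ) - 2 := by
  have h := congrArg (Nat.cast : ℕ → ℤ) (Nat.eq_of_beq_eq_true (ct_eq r hr s hs))
  show (chevE6.coroot.getD r #[]).getD 0 0 * chevE6.cartan 0 s + ((chevE6.coroot.getD r #[]).getD 1 0 * chevE6.cartan 1 s +
    ((chevE6.coroot.getD r #[]).getD 2 0 * chevE6.cartan 2 s + ((chevE6.coroot.getD r #[]).getD 3 0 * chevE6.cartan 3 s +
    ((chevE6.coroot.getD r #[]).getD 4 0 * chevE6.cartan 4 s + ((chevE6.coroot.getD r #[]).getD 5 0 * chevE6.cartan 5 s + 0))))) = _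
  rw [ca_eq r hr 0 (by decide), ca_eq r hr 1 (by decide), ca_eq r hr 2 (by decide), ca_eq r hr 3 (by decide),
    ca_eq r hr 4 (by decide), ca_eq r hr 5 (by decide), cb_eq 0 (by decide) s hs, cb_eq 1 (by decide) s hs,
    cb_eq 2 (by decide) s hs, cb_eq 3 (by decide) s hs, cb_eq 4 (by decide) s hs, cb_eq 5 (by decide) s hs]
  push_cast at h
  linarith only [h]

private theorem car_zero {r s : ℕ} (hr : r < 72) (hs : s < 72) (h : ct r s = 2) : carB chevE6 r s = 0 := by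
  rw [car_eq hr hs, h]; rfl

theorem row_ort : ∀ r ∈ TT6, ∀ i j : Fin 3, i < j →
    carB chevE6 (gi r.c j) (gi r.c i) = 0 ∧ carB chevE6 (gi r.d j) (gi r.c i) = 0 ∧
    carB chevE6 (gi r.c j) (gi r.d i) = 0 ∧ carB chevE6 (gi r.d j) (gi r.d i) = 0 := by
  have h : ∀ r ∈ TT6, ∀ i j : Fin 3, i < j → ct (gi r.c j) (gi r.c i) = 2 ∧ ct (gi r.d j) (gi r.c i) = 2 ∧
      ct (gi r.c j) (gi r.d i) = 2 ∧ ct (gi r.d j) (gi r.d i) = 2 := by decide +kernel
  intro r hr i j hij
  obtain ⟨h1, h2, h3, h4⟩ := h r hr i j hij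
  have a := row_lt r hr i
  have b := row_lt r hr j
  exact ⟨car_zero b.2.1 a.2.1 h1, car_zero b.2.2.1 a.2.1 h2, car_zero b.2.1 a.2.2.1 h3, car_zero b.2.2.1 a.2.2.1 h4⟩

theorem row_ort' : ∀ r ∈ TT6, ∀ i j : Fin 3, i < j →
    carB chevE6 (gi r.u j) (gi r.u i) = 0 ∧ carB chevE6 (gi r.v j) (gi r.u i) = 0 ∧
    carB chevE6 (gi r.u j) (gi r.v i) = 0 ∧ carB chevE6 (gi r.v j) (gi r.v i) = 0 := by
  have h : ∀ r ∈ TT6, ∀ i j : Fin 3, i < j → ct (gi r.u j) (gi r.u i) = 2 ∧ ct (gi r.v j) (gi r.u i) = 2 ∧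
      ct (gi r.u j) (gi r.v i) = 2 ∧ ct (gi r.v j) (gi r.v i) = 2 := by decide +kernel
  intro r hr i j hij
  obtain ⟨h1, h2, h3, h4⟩ := h r hr i j hij
  have a := row_lt r hr i
  have b := row_lt r hr j
  exact ⟨car_zero b.2.2.2.1 a.2.2.2.1 h1, car_zero b.2.2.2.2 a.2.2.2.1 h2, car_zero b.2.2.2.1 a.2.2.2.2 h3, car_zero b.2.2.2.2 a.2.2.2.2 h4⟩

theorem row_uni : ∀ r ∈ TT6, ∀ i : Fin 3, ∀ q < 72, carB chevE6 (gi r.b i) q = 1 →
    (∀ j : Fin 3, j ≠ i → carB chevE6 (gi r.b j) q = 0) → q = gi r.c i ∨ q = gi r.d i ∨ q = gi r.u i ∨ q = gi r.v i := by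
  have h : ∀ r ∈ TT6, ∀ i : Fin 3, ∀ q < 72, ct (gi r.b i) q = 3 →
      (∀ j : Fin 3, j ≠ i → ct (gi r.b j) q = 2) → q = gi r.c i ∨ q = gi r.d i ∨ q = gi r.u i ∨ q = gi r.v i := by
    decide +kernel
  intro r hr i q hq h1 h2
  refine h r hr i q hq ?_ fun j hj => ?_
  · have := (car_eq (row_lt r hr i).1 hq).symm.trans h1
    omega
  · have := (car_eq (row_lt r hr j).1 hq).symm.trans (h2 j hj)
    omega

theorem row_gen : ∀ r ∈ TT6, ∀ k j : Fin 6, vec chevE6 6 (chevE6.simple k) j =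
    gg (r.g.getD k []) 0 * vec chevE6 6 (gi r.u 0) j + (gg (r.g.getD k []) 1 * vec chevE6 6 (gi r.c 0) j +
    gg (r.g.getD k []) 2 * vec chevE6 6 (gi r.d 0) j + gg (r.g.getD k []) 3 * vec chevE6 6 (gi r.c 1) j +
    gg (r.g.getD k []) 4 * vec chevE6 6 (gi r.d 1) j + gg (r.g.getD k []) 5 * vec chevE6 6 (gi r.c 2) j +
    gg (r.g.getD k []) 6 * vec chevE6 6 (gi r.d 2) j) := by decide +kernel

theorem row_three : ∀ r ∈ TT6, ∀ j : Fin 6, 3 * vec chevE6 6 (gi r.u 0) j =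
    gg r.t 0 * vec chevE6 6 (gi r.c 0) j +
    gg r.t 1 * vec chevE6 6 (gi r.d 0) j + gg r.t 2 * vec chevE6 6 (gi r.c 1) j +
    gg r.t 3 * vec chevE6 6 (gi r.d 1) j + gg r.t 4 * vec chevE6 6 (gi r.c 2) j +
    gg r.t 5 * vec chevE6 6 (gi r.d 2) j := by decide +kernel

end Cfsg.Agent.H194.RG
end

-- part: H875/RG/Four
section
set_option linter.all false
open scoped Cfsg.Agent.FastGrp

/-!
# `A₄A₄` in `E₈` (S3509, helper875)

`t ∈ T` of order 5 in `E₈` with 40 roots in `Sx t`, `θ` the action of a frame automorphism fixing `t`: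
* `cases_theta` : the highest root of the first chain is fixed by `θ`, or `θ` acts as one of two permutations of order 4 on the base;
* `four_four` : there is a `θ`-fixed top root with 6 neighbours, or the centralizer has at most
  `(q + 1) ^ 8 * q ^ 20 * ((1 + q ^ 2) ^ 2 * (1 + q ^ 4) ^ 4)` elements.
-/

set_option autoImplicit false
set_option linter.unusedSectionVars false
set_option maxRecDepth 100000

namespace Cfsg.Agent.H875.RG.Four

open CoxeterSystem Cfsg Cfsg.Lie Cfsg.Lie.ChevalleyDatum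
open Cfsg.Agent.ChevalleyStructure Cfsg.Agent.ChevalleyStructure.Elts Cfsg.Agent.ChevalleyStructure.CoxeterGeom
  Cfsg.Agent.ChevalleyStructure.CoxeterGeomTypes Cfsg.Agent.ChevalleyStructure.NPerm
open Cfsg.Agent.Tits.Roots Cfsg.Agent.Tits.Core Cfsg.Agent.Nodes Cfsg.Agent.Nodes.Reps Cfsg.Agent.Nodes.BNOf
  Cfsg.Agent.Nodes.RGDChev Cfsg.Agent.Nodes.Bruhat
open Cfsg.Agent.KFacts.RgdField Cfsg.Agent.KFacts.RgdChevCoord Cfsg.Agent.BpExc.TorCent Cfsg.Agent.BpExc.TorChev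
open Cfsg.Agent.H129.TorusChar Cfsg.Agent.H129.WData
open Cfsg.Agent.H931.KC

universe u v

variable {M : CoxeterMatrix (Fin 8)} (hp : IsType chevE8 8 M)

theorem root_iff (x : Fin 8 → ℤ) :
    IsRoot M.toCoxeterSystem hp.isCartan x ↔ ∃ r : Fin 240, vec chevE8 8 r = x := by
  rw [isRoot_iff hp M.toCoxeterSystem x]
  constructor
  · rintro ⟨r, hr, e⟩
    rw [nroots] at hr
    exact ⟨⟨r, hr⟩, e⟩
  · rintro ⟨r, e⟩
    exact ⟨r, by rw [nroots]; exact r.2, e⟩

theorem act_iff (w : M.Group) (x : Fin 8 → ℤ) : IsRoot M.toCoxeterSystem hp.isCartan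
    (rep M.toCoxeterSystem hp.isCartan w x) ↔ IsRoot M.toCoxeterSystem hp.isCartan x := by
  refine ⟨fun h => ?_, fun h => h.act w⟩
  have := h.act w⁻¹
  rwa [rep_inv_apply] at this

/-- the Kac coordinates of the class `A₄A₄` -/
structure Co (c : Fin 8 → ℕ) (c0 : ℕ) : Prop where
  zero : c0 = 0
  four : c 4 = 1
  other : ∀ i, i ≠ 4 → c i = 0

variable {c : Fin 8 → ℕ} {c0 : ℕ}

theorem bb_eq (hJ : Co c c0) (x : Fin 8 → ℤ) : bb c x = x 4 := by
  show ∑ i, x i * (c i : ℤ) = x 4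
  rw [Finset.sum_eq_single 4]
  · rw [hJ.four, Nat.cast_one, mul_one]
  · intro i _ hi
    rw [hJ.other i hi, Nat.cast_zero, mul_zero]
  · intro h
    exact absurd (Finset.mem_univ _) h

theorem ct_iff (hJ : Co c c0) (j : Option (Fin 8)) : ct c c0 j = 0 ↔ j ≠ some 4 := by
  cases j with
  | none =>
    show c0 = 0 ↔ _
    exact ⟨fun _ => by simp, fun _ => hJ.zero⟩
  | some i =>
    show c i = 0 ↔ _
    constructor
    · intro h e
      rw [Option.some.inj e, hJ.four] at h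
      exact one_ne_zero h
    · intro h
      exact hJ.other i fun e => h (congrArg some e)

theorem SJ_iff_R (hJ : Co c c0) (x : Fin 8 → ℤ) : SJ hp 5 c x ↔ ∃ k, x = R k := by
  unfold SJ
  rw [bb_eq hJ, root_iff hp]
  constructor
  · rintro ⟨⟨r, rfl⟩, h⟩
    refine exists_R r ?_
    rcases h with ⟨h1, h2⟩ | h1
    · exact Or.inl ⟨h1, fun i => h2 i⟩
    · exact Or.inr h1
  · rintro ⟨k, rfl⟩
    obtain ⟨h1, h2⟩ := R_root k
    refine ⟨h2, ?_⟩
    rcases h1 with ⟨h1, h3⟩ | h1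
    · exact Or.inl ⟨h1, fun i => h3 i⟩
    · exact Or.inr h1

theorem map_isum {A B : Type*} [AddCommMonoid A] [AddCommMonoid B] (F : A →+ B) (f : Fin 8 → A) (k : Fin 20) :
    F (isum f k) = isum (fun j => F (f j)) k := by
  unfold isum
  rw [map_sum]
  refine Finset.sum_congr rfl fun j _ => ?_
  rw [apply_ite F, map_zero]

/-- the permutation of the base -/
theorem exists_sigma (hJ : Co c c0) {θ : (Fin 8 → ℤ) ≃+ (Fin 8 → ℤ)} {w : M.Group}
    {π : Equiv.Perm {j : Option (Fin 8) // ct c c0 j = 0}}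
    (hπ : ∀ j, θ (rep M.toCoxeterSystem hp.isCartan w (al chevE8 8 j.1)) =
      rep M.toCoxeterSystem hp.isCartan w (al chevE8 8 (π j).1)) :
    ∃ σ : Fin 8 → Fin 8, Function.Injective σ ∧ ∀ j, θ (rep M.toCoxeterSystem hp.isCartan w (bs j)) =
      rep M.toCoxeterSystem hp.isCartan w (bs (σ j)) := by
  have hmem : ∀ j, ct c c0 (nd j) = 0 := fun j => (ct_iff hJ _).2 (nd_ne j)
  have h1 : ∀ j, ∃ i, nd i = (π ⟨nd j, hmem j⟩).1 := fun j =>
    exists_nd _ ((ct_iff hJ _).1 (π ⟨nd j, hmem j⟩).2)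
  choose σ hσ using h1
  refine ⟨σ, fun i j hij => ?_, fun j => ?_⟩
  · have h2 : (π ⟨nd i, hmem i⟩).1 = (π ⟨nd j, hmem j⟩).1 := by rw [← hσ, ← hσ, hij]
    have h3 := π.injective (Subtype.ext h2)
    exact nd_inj i j (congrArg Subtype.val h3)
  · rw [← al_nd, ← al_nd, hσ]
    exact hπ ⟨nd j, hmem j⟩

section

variable {θ : (Fin 8 → ℤ) ≃+ (Fin 8 → ℤ)} {w : M.Group} {σ : Fin 8 → Fin 8}
  (hσ : ∀ j, θ (rep M.toCoxeterSystem hp.isCartan w (bs j)) = rep M.toCoxeterSystem hp.isCartan w (bs (σ j)))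

include hσ

theorem theta_R (k : Fin 20) : θ (rep M.toCoxeterSystem hp.isCartan w (R k)) =
    rep M.toCoxeterSystem hp.isCartan w (isum (fun j => bs (σ j)) k) := by
  have h1 := map_isum (θ.toAddMonoidHom.comp (rep M.toCoxeterSystem hp.isCartan w).toAddMonoidHom) bs k
  have h2 := map_isum (rep M.toCoxeterSystem hp.isCartan w).toAddMonoidHom (fun j => bs (σ j)) k
  refine h1.trans (Eq.trans ?_ h2.symm)
  congr 1
  funext j
  exact hσ j

theorem adj_sigma (hg : ∀ a, IsRoot M.toCoxeterSystem hp.isCartan (θ a) ↔ IsRoot M.toCoxeterSystem hp.isCartan a)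
    {i j : Fin 8} (h : adj i j = true) : adj (σ i) (σ j) = true := by
  rw [← adj_iff, ← root_iff hp] at h ⊢
  rw [← act_iff hp w, map_add, ← hσ, ← hσ, ← map_add, hg, ← map_add, act_iff hp w]
  exact h

/-- **The four cases.** -/
theorem sigma_cases (hinj : Function.Injective σ)
    (hg : ∀ a, IsRoot M.toCoxeterSystem hp.isCartan (θ a) ↔ IsRoot M.toCoxeterSystem hp.isCartan a) :
    θ (rep M.toCoxeterSystem hp.isCartan w (R 3)) = rep M.toCoxeterSystem hp.isCartan w (R 3) ∨ σ = s1 ∨ σ = s2 ∨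
      ∀ j, σ (σ j) = j := by
  obtain ⟨a1, a2, a3, a4, a5, a6⟩ := adj_chain
  have e1 := adj_sigma hp hσ hg a1
  have e2 := adj_sigma hp hσ hg a2
  have e3 := adj_sigma hp hσ hg a3
  have e4 := adj_sigma hp hσ hg a4
  have e5 := adj_sigma hp hσ hg a5
  have e6 := adj_sigma hp hσ hg a6
  have hR : R 3 = bs 0 + bs 1 + bs 2 + bs 3 := isum_three bs
  have key := theta_R hp hσ 3
  rw [isum_three] at key
  have ne : ∀ i j : Fin 8, i ≠ j → σ i ≠ σ j := fun i j h h' => h (hinj h')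
  rcases paths _ _ _ _ e1 e2 e3 (ne 0 2 (by decide)) (ne 1 3 (by decide)) with
    ⟨b0, b1, b2, b3⟩ | ⟨b0, b1, b2, b3⟩ | ⟨b0, b1, b2, b3⟩ | ⟨b0, b1, b2, b3⟩
  · left
    rw [key, b0, b1, b2, b3, hR]
  · left
    rw [key, b0, b1, b2, b3, hR]
    congr 1
    abel
  · right
    rcases paths _ _ _ _ e4 e5 e6 (ne 4 6 (by decide)) (ne 5 7 (by decide)) with
      ⟨b4, b5, b6, b7⟩ | ⟨b4, b5, b6, b7⟩ | ⟨b4, b5, b6, b7⟩ | ⟨b4, b5, b6, b7⟩
    · right; right
      intro j
      fin_cases j <;> simp [b0, b1, b2, b3, b4, b5, b6, b7]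
    · left
      funext j
      fin_cases j <;> simp [b0, b1, b2, b3, b4, b5, b6, b7, s1]
    · exact absurd (b0.trans b4.symm) (ne 0 4 (by decide))
    · exact absurd (b0.trans b7.symm) (ne 0 7 (by decide))
  · right
    rcases paths _ _ _ _ e4 e5 e6 (ne 4 6 (by decide)) (ne 5 7 (by decide)) with
      ⟨b4, b5, b6, b7⟩ | ⟨b4, b5, b6, b7⟩ | ⟨b4, b5, b6, b7⟩ | ⟨b4, b5, b6, b7⟩
    · right; left
      funext j
      fin_cases j <;> simp [b0, b1, b2, b3, b4, b5, b6, b7, s2]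
    · right; right
      intro j
      fin_cases j <;> simp [b0, b1, b2, b3, b4, b5, b6, b7]
    · exact absurd (b0.trans b7.symm) (ne 0 7 (by decide))
    · exact absurd (b0.trans b4.symm) (ne 0 4 (by decide))

/-- the square is trivial -/
theorem sq_eq (h2 : ∀ j, σ (σ j) = j) : θ (θ (rep M.toCoxeterSystem hp.isCartan w (sr 4))) =
    rep M.toCoxeterSystem hp.isCartan w (sr 4) := by
  set G : (Fin 8 → ℤ) →+ (Fin 8 → ℤ) := θ.toAddMonoidHom.comp (θ.toAddMonoidHom.comp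
    (rep M.toCoxeterSystem hp.isCartan w).toAddMonoidHom) with hG
  set G' : (Fin 8 → ℤ) →+ (Fin 8 → ℤ) := (rep M.toCoxeterSystem hp.isCartan w).toAddMonoidHom with hG'
  have e1 : ∀ j, G (bs j) = G' (bs j) := fun j => by
    show θ (θ (rep M.toCoxeterSystem hp.isCartan w (bs j))) = rep M.toCoxeterSystem hp.isCartan w (bs j)
    rw [hσ, hσ, h2]
  have e2 : (5 : ℤ) • G (sr 4) = (5 : ℤ) • G' (sr 4) := by
    rw [← map_zsmul, ← map_zsmul, five_sr, map_sum, map_sum]
    refine Finset.sum_congr rfl fun j _ => ?_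
    rw [map_zsmul, map_zsmul, e1]
  exact smul_right_injective _ (by norm_num : (5 : ℤ) ≠ 0) e2

end

/-- **The action of `θ` on the base.** -/
theorem cases_theta (hJ : Co c c0) {k : Type u} [Field k] {ζ : k} (hζ : IsPrimitiveRoot ζ 5) {t : ↥(chevE8.group k)}
    {θ : (Fin 8 → ℤ) ≃+ (Fin 8 → ℤ)} {w : M.Group}
    (hg : ∀ a, IsRoot M.toCoxeterSystem hp.isCartan (θ a) ↔ IsRoot M.toCoxeterSystem hp.isCartan a)
    (h1 : ∀ x, cX hp t (rep M.toCoxeterSystem hp.isCartan w x) = ζ ^ bb c x)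
    {π : Equiv.Perm {j : Option (Fin 8) // ct c c0 j = 0}}
    (hπ : ∀ j, θ (rep M.toCoxeterSystem hp.isCartan w (al chevE8 8 j.1)) =
      rep M.toCoxeterSystem hp.isCartan w (al chevE8 8 (π j).1))
    {q : ℕ} (hq : ∀ x, cX hp t (θ x) = cX hp t x ^ q) (h5 : ¬ 5 ∣ q ^ 2 - 1) (hq0 : 0 < q) :
    θ (rep M.toCoxeterSystem hp.isCartan w (R 3)) = rep M.toCoxeterSystem hp.isCartan w (R 3) ∨
      (∀ k, θ (rep M.toCoxeterSystem hp.isCartan w (R k)) = rep M.toCoxeterSystem hp.isCartan w (R (r1 k))) ∨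
      (∀ k, θ (rep M.toCoxeterSystem hp.isCartan w (R k)) = rep M.toCoxeterSystem hp.isCartan w (R (r2 k))) := by
  obtain ⟨σ, hinj, hσ⟩ := exists_sigma hp hJ hπ
  rcases sigma_cases hp hσ hinj hg with h | h | h | h
  · exact Or.inl h
  · right; left
    intro k
    rw [theta_R hp hσ, h, r1_eq]
  · right; right
    intro k
    rw [theta_R hp hσ, h, r2_eq]
  · exfalso
    have e1 := sq_eq hp hσ h
    have e2 : cX hp t (rep M.toCoxeterSystem hp.isCartan w (sr 4)) = ζ := by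
      rw [h1, bb_eq hJ]
      have : (sr 4 : Fin 8 → ℤ) 4 = 1 := sr_self 4
      rw [this, zpow_one]
    have e3 : ζ = ζ ^ (q ^ 2) := by
      conv_lhs => rw [← e2, ← e1]
      rw [hq, hq, e2, ← pow_mul, sq]
    refine h5 ((hζ.pow_eq_one_iff_dvd _).1 ?_)
    have h0 : ζ ≠ 0 := hζ.ne_zero (by norm_num)
    have e4 : 1 ≤ q ^ 2 := Nat.one_le_pow _ _ hq0
    have e5 : ζ ^ (q ^ 2 - 1) * ζ = 1 * ζ := by
      rw [← pow_succ, Nat.sub_add_cancel e4, ← e3, one_mul]
    exact mul_right_cancel₀ h0 e5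

/-- 40 roots: the Kac coordinates -/
theorem co_of_card {k : Type u} [Field k] {ζ : k} (hζ : IsPrimitiveRoot ζ 5) {t : ↥(chevE8.group k)}
    (ht : t ∈ TT chevE8 k) {w : M.Group} (K : Kac chevE8 8 5 c c0)
    (h1 : ∀ x, cX hp t (rep M.toCoxeterSystem hp.isCartan w x) = ζ ^ bb c x)
    (hcard : (Sx M.toCoxeterSystem hp.isCartan (ch hp) t).ncard = 40) : Co c c0 := by
  have hs := K.sum
  rw [hr_eq, Fin.sum_univ_eight] at hs
  simp only [Matrix.cons_val] at hs
  have c3 : c 3 = 0 := by omega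
  by_cases h4 : c 4 = 0
  · exfalso
    have hset : Sx M.toCoxeterSystem hp.isCartan (ch hp) t = ↑((Finset.univ.filter fun r : Fin 240 =>
        (5 : ℤ) ∣ bb c (vec chevE8 8 r)).image fun r : Fin 240 => rep M.toCoxeterSystem hp.isCartan w (vec chevE8 8 r)) := by
      ext a
      rw [Finset.coe_image, Set.mem_image]
      constructor
      · rintro ⟨ha, ha1⟩
        obtain ⟨r, hr⟩ := (root_iff hp _).1 (ha.act w⁻¹)
        refine ⟨r, ?_, by rw [hr, rep_apply_inv]⟩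
        rw [Finset.mem_coe, Finset.mem_filter]
        refine ⟨Finset.mem_univ _, ?_⟩
        have h2 := h1 (rep M.toCoxeterSystem hp.isCartan w⁻¹ a)
        rw [rep_apply_inv, cX_root hp M.toCoxeterSystem ht ha, ha1] at h2
        have h3 := (hζ.zpow_eq_one_iff_dvd _).1 h2.symm
        rw [hr]
        exact_mod_cast h3
      · rintro ⟨r, hr, rfl⟩
        rw [Finset.mem_coe, Finset.mem_filter] at hr
        have h2 : IsRoot M.toCoxeterSystem hp.isCartan (vec chevE8 8 r) := (root_iff hp _).2 ⟨r, rfl⟩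
        refine ⟨h2.act w, ?_⟩
        rw [← cX_root hp M.toCoxeterSystem ht (h2.act w), h1, hζ.zpow_eq_one_iff_dvd]
        exact_mod_cast hr.2
    rw [hset, Set.ncard_coe_finset, Finset.card_image_of_injective _ (fun r s h => Fin.ext (vec_inj hp
      (by rw [nroots]; exact r.2) (by rw [nroots]; exact s.2) (rep_injective_apply M.toCoxeterSystem hp.isCartan w h)))]
      at hcard
    have b0 : c 0 < 3 := by omega
    have b1 : c 1 < 3 := by omega
    have b2 : c 2 < 3 := by omega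
    have b5 : c 5 < 3 := by omega
    have b6 : c 6 < 3 := by omega
    have b7 : c 7 < 3 := by omega
    refine kac_forty ⟨c 0, b0⟩ ⟨c 1, b1⟩ ⟨c 2, b2⟩ ⟨c 5, b5⟩ ⟨c 6, b6⟩ ⟨c 7, b7⟩ (by dsimp only; omega) ?_
    rw [← hcard]
    congr 1
    refine Finset.filter_congr fun r _ => ?_
    have e : bb c (vec chevE8 8 r) = vec chevE8 8 r 0 * (c 0 : ℤ) + vec chevE8 8 r 1 * (c 1 : ℤ) +
        vec chevE8 8 r 2 * (c 2 : ℤ) + vec chevE8 8 r 5 * (c 5 : ℤ) + vec chevE8 8 r 6 * (c 6 : ℤ) +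
        vec chevE8 8 r 7 * (c 7 : ℤ) := by
      show ∑ i, vec chevE8 8 r i * (c i : ℤ) = _
      rw [Fin.sum_univ_eight, c3, h4]
      push_cast
      ring
    rw [e]
  · refine ⟨by omega, by omega, fun i hi => ?_⟩
    fin_cases i <;> first | (exact absurd rfl hi) | (simp only [Fin.reduceFinMk, Fin.isValue]; omega)

section Fin

open Cfsg.Agent.BpExc Cfsg.Agent.BpExc.Tow Cfsg.Agent.BpExc.TowChev Cfsg.Agent.BpExc.Fr Cfsg.Agent.BpExc.Pair
  Cfsg.Agent.BpExc.LangFr Cfsg.Agent.GpExc.Field Cfsg.Agent.BpExc.NInst Cfsg.Agent.H461.E2.Sup Cfsg.Agent.H469.Exc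

variable {hp : IsType chevE8 8 M} {r q : ℕ} [hr : Fact r.Prime] {K₀ : Type v} [Group K₀]
  {m : H316.U6.MData hp r q K₀} {s : ↥(chevE8.group (KK r))}

/-- **`A₄A₄`.** -/
theorem four_four [Finite M.Group] (f : H169.RG.TorForm m s) (hs : s ^ 5 = 1) (h5 : ((5 : ℕ) : KK r) ≠ 0)
    (hq : ¬ 5 ∣ q ^ 2 - 1) (hcard : (Sx M.toCoxeterSystem hp.isCartan (ch hp) f.t).ncard = 40) :
    (∃ β ∈ Sx M.toCoxeterSystem hp.isCartan (ch hp) f.t, 0 ≤ β ∧ f.θ β = β ∧
      6 ≤ H76.RG.nb M.toCoxeterSystem hp.isCartan (Sx M.toCoxeterSystem hp.isCartan (ch hp) f.t) β ∧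
      ∀ a ∈ Sx M.toCoxeterSystem hp.isCartan (ch hp) f.t, 0 ≤ a → ¬ IsRoot M.toCoxeterSystem hp.isCartan (β + a)) ∨
    Nat.card ↥(fixC m.σ s) ≤ (q + 1) ^ 8 * q ^ 20 * ((1 + q ^ 2) ^ 2 * (1 + q ^ 4) ^ 4) := by
  have hne : NeZero ((5 : ℕ) : KK r) := ⟨h5⟩
  obtain ⟨ζ, hζ⟩ := HasEnoughRootsOfUnity.exists_primitiveRoot (KK r) 5
  obtain ⟨w, c, c0, K, h1, h2, π, hπ⟩ := exists_kac_theta hp (by norm_num) hζ f.mem (f.pow_eq_one hs) f.stab f.pos
  have hJ := co_of_card hp hζ f.mem K h1 hcard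
  have hq' : ∀ x, cX hp f.t (f.θ x) = cX hp f.t x ^ q := fun x => by
    have h3 := cX_sigma hp M.toCoxeterSystem f.frob f.fr f.mem x
    rwa [f.fix, m.hq] at h3
  have hq0 : 0 < q := by
    rw [← m.hq]
    exact pow_pos (Fact.out : r.Prime).pos _
  have hR : ∀ k, rep M.toCoxeterSystem hp.isCartan w (R k) ∈ Sx M.toCoxeterSystem hp.isCartan (ch hp) f.t ∧
      0 ≤ rep M.toCoxeterSystem hp.isCartan w (R k) := fun k => (h2 _).2 ((SJ_iff_R hp hJ _).2 ⟨k, rfl⟩)
  have hex : ∀ a ∈ Sx M.toCoxeterSystem hp.isCartan (ch hp) f.t, 0 ≤ a →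
      ∃ k, a = rep M.toCoxeterSystem hp.isCartan w (R k) := by
    intro a ha h0
    have h3 := (h2 (rep M.toCoxeterSystem hp.isCartan w⁻¹ a)).1 (by rw [rep_apply_inv]; exact ⟨ha, h0⟩)
    obtain ⟨k, hk⟩ := (SJ_iff_R hp hJ _).1 h3
    exact ⟨k, by rw [← hk, rep_apply_inv]⟩
  have hB : ∀ ρ : Fin 20 → Fin 20, (∀ a b : Fin 20, cl a = cl b → ∃ n : Fin 4, ρ^[n.val] a = b) →
      (∀ k, f.θ (rep M.toCoxeterSystem hp.isCartan w (R k)) = rep M.toCoxeterSystem hp.isCartan w (R (ρ k))) →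
      Nat.card ↥(fixC m.σ s) ≤ (q + 1) ^ 8 * q ^ 20 * ((1 + q ^ 2) ^ 2 * (1 + q ^ 4) ^ 4) := by
    intro ρ hρ hθ
    have hinj : Function.Injective fun k => rep M.toCoxeterSystem hp.isCartan w (R k) := fun a b h =>
      R_inj a b (rep_injective_apply M.toCoxeterSystem hp.isCartan w h)
    have key := H550.RG.tor_le_orb f (Finset.univ : Finset (Fin 6))
      (fun i => (Finset.univ.filter fun k => cl k = i).image fun k => rep M.toCoxeterSystem hp.isCartan w (R k))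
      (fun i _ j _ hij => by
        rw [Finset.disjoint_left]
        intro x hx hy
        obtain ⟨a, ha, rfl⟩ := Finset.mem_image.1 hx
        obtain ⟨b, hb, e⟩ := Finset.mem_image.1 hy
        rw [Finset.mem_filter] at ha hb
        rw [hinj e] at hb
        exact hij (ha.2.symm.trans hb.2))
      (fun i _ x hx y hy => by
        obtain ⟨a, ha, rfl⟩ := Finset.mem_image.1 hx
        obtain ⟨b, hb, rfl⟩ := Finset.mem_image.1 hy
        rw [Finset.mem_filter] at ha hb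
        obtain ⟨n, hn⟩ := hρ a b (ha.2.trans hb.2.symm)
        refine ⟨n.val, ?_⟩
        rw [← hn]
        have h3 : ∀ n : ℕ, ∀ a, (fun x => f.θ x)^[n] (rep M.toCoxeterSystem hp.isCartan w (R a)) =
            rep M.toCoxeterSystem hp.isCartan w (R (ρ^[n] a)) := by
          intro n
          induction n with
          | zero => intro a; rfl
          | succ n ih =>
            intro a
            rw [Function.iterate_succ_apply, Function.iterate_succ_apply, hθ, ih]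
        exact (h3 _ _).symm)
      (fun a ha h0 => by
        obtain ⟨k, rfl⟩ := hex a ha h0
        exact ⟨cl k, Finset.mem_univ _, Finset.mem_image.2 ⟨k, Finset.mem_filter.2 ⟨Finset.mem_univ _, rfl⟩, rfl⟩⟩)
    have hN : (H28.RG.SP M.toCoxeterSystem hp.isCartan (ch hp) f.t).ncard = 20 := by
      have h3 := H550.RG.tor_ncard f
      omega
    have hPP : Nat.card ↥(PP M.toCoxeterSystem hp.isCartan (ch hp) f.t) ≤ 1 := by
      refine (card_PP_le hp h5 f.mem (f.pow_eq_one hs)).trans ?_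
      rw [card_mk, nmk_E8]
    have hprod : ∏ i : Fin 6, (1 + q ^ ((Finset.univ.filter fun k => cl k = i).image fun k =>
        rep M.toCoxeterSystem hp.isCartan w (R k)).card) ≤ (1 + q ^ 2) ^ 2 * (1 + q ^ 4) ^ 4 := by
      calc _ ≤ ∏ i : Fin 6, (1 + q ^ sz i) := by
            refine Finset.prod_le_prod' fun i _ => Nat.add_le_add_left (Nat.pow_le_pow_right hq0 ?_) 1
            rw [← cl_card i]
            exact Finset.card_image_le
        _ = _ := by
            rw [Fin.prod_univ_six]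
            simp only [sz, Matrix.cons_val]
            ring
    rw [hN] at key
    refine key.trans (Nat.mul_le_mul (Nat.mul_le_mul_right _ (H550.RG.tor_TT f)) ?_)
    calc _ ≤ 1 * ((1 + q ^ 2) ^ 2 * (1 + q ^ 4) ^ 4) := Nat.mul_le_mul hPP hprod
      _ = _ := one_mul _
  rcases cases_theta hp hJ hζ f.fr.root h1 hπ hq' hq hq0 with h | h | h
  · left
    refine ⟨rep M.toCoxeterSystem hp.isCartan w (R 3), (hR 3).1, (hR 3).2, h, ?_, ?_⟩
    · have hinj : Function.Injective fun i : Fin 6 => rep M.toCoxeterSystem hp.isCartan w (R (six i)) := fun a b h =>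
        six_inj a b (R_inj _ _ (rep_injective_apply M.toCoxeterSystem hp.isCartan w h))
      have h3 : (Set.range fun i : Fin 6 => rep M.toCoxeterSystem hp.isCartan w (R (six i))).ncard = 6 := by
        rw [← Set.image_univ, Set.ncard_image_of_injective _ hinj, Set.ncard_univ, Nat.card_fin]
      unfold H76.RG.nb
      conv_lhs => rw [← h3]
      refine Set.ncard_le_ncard ?_ ?_
      · rintro _ ⟨i, rfl⟩
        refine ⟨(hR _).1, ?_⟩
        rw [← map_sub, act_iff hp, root_iff hp]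
        exact six_sub i
      · exact (RGD.finite_roots (cs := M.toCoxeterSystem) (h := hp.isCartan)).subset fun x hx => hx.1.1
    · intro a ha h0 hr
      obtain ⟨k, rfl⟩ := hex a ha h0
      rw [← map_add, act_iff hp, root_iff hp] at hr
      obtain ⟨r, hr⟩ := hr
      exact R3_top k r hr
  · exact Or.inr (hB r1 cl_r1 h)
  · exact Or.inr (hB r2 cl_r2 h)

end Fin

end Cfsg.Agent.H875.RG.Four

private theorem dce_a4e01d3589df : _root_.True := by
  try have : _root_.True := by simp only [_root_.Cfsg.Agent.H875.RG.Four.sz.eq_1]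
  try have : _root_.True := by simp only [_root_.Cfsg.Agent.H875.RG.Four.s1.eq_1]
  try have : _root_.True := by simp only [_root_.Cfsg.Agent.H875.RG.Four.s2.eq_1]
  exact _root_.True.intro
end

-- part: H864/TD/Defs
section
set_option linter.all false

/-!
# S3509, row `³D₄(q)`: definitions (helper864)

`m : MData RGDTwD4.hp r q K₀`, `Y = D₄(KK r)`, `I = fixedSubgroup m.σ`.

* `Nice m M` : `M < ι K₀` quasisimple, not alternating modulo the centre, containing a long root element;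
* `A2Elt m y` : `y ∈ I` of prime order `≠ r` whose centralizer has root system `A₂`;
* `ncl m s u` : the normal closure of `u` in `C_I(s)`.
-/

set_option autoImplicit false
set_option linter.unusedSectionVars false
open Cfsg

namespace Cfsg.Agent.H864.TD

open CoxeterSystem Cfsg.Lie Cfsg.Lie.ChevalleyDatum Cfsg.Agent.H873.RG Cfsg.Agent.H316.U6
open Cfsg.Agent.ChevalleyStructure Cfsg.Agent.ChevalleyStructure.CoxeterGeom
  Cfsg.Agent.ChevalleyStructure.CoxeterGeomTypes Cfsg.Agent.Nodes Cfsg.Agent.Nodes.RGDChev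
  Cfsg.Agent.KFacts.RgdField Cfsg.Agent.KFacts.RgdChevCoord
open Cfsg.Agent.Tits.Roots
open Cfsg.Agent.BpExc Cfsg.Agent.BpExc.TorCent Cfsg.Agent.BpExc.Pair Cfsg.Agent.BpExc.LangFr Cfsg.Agent.H469.Exc

universe v

variable {r q : ℕ} [hr : Fact r.Prime] {K₀ : Type v} [Group K₀] (m : MData RGDTwD4.hp r q K₀)

/-- the type of the algebraic group -/
abbrev Y4 (r : ℕ) [Fact r.Prime] : Type := ↥(chevD4.group (KK r))

/-- a quasisimple subgroup of `ι K₀`, not alternating modulo the centre, with a long root element -/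
def Nice (M : Subgroup (Y4 r)) : Prop :=
  M ≤ m.ι.range ∧ M ≠ m.ι.range ∧ ⁅M, M⁆ = M ∧ (∃ (S' : Type) (_ : Group S') (_ : Finite S') (π : M →* S'),
    Function.Surjective π ∧ π.ker ≤ Subgroup.center M ∧ NSA S') ∧ ∃ v ∈ M, H169.RG.LR m v

/-- an element of prime order, root system of the centralizer `A₂` -/
def A2Elt (y : Y4 r) : Prop :=
  m.σ y = y ∧ y ≠ 1 ∧ (∃ ℓ : ℕ, ℓ.Prime ∧ ℓ ≠ r ∧ y ^ ℓ = 1) ∧ ∃ (z t : Y4 r) (a b : Fin 4 → ℤ),
    t ∈ TT chevD4 (KK r) ∧ y = z * t * z⁻¹ ∧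
    IsRoot coxeterD4.toCoxeterSystem RGDTwD4.hp.isCartan (a + b) ∧
    ∀ x, x ∈ Sx coxeterD4.toCoxeterSystem RGDTwD4.hp.isCartan (ch RGDTwD4.hp) t ↔
      x = a ∨ x = b ∨ x = a + b ∨ x = -a ∨ x = -b ∨ x = -(a + b)

/-- the normal closure of `u` in the centralizer of `s` in `Y^σ` -/
noncomputable def ncl (s u : Y4 r) : Subgroup (Y4 r) :=
  Subgroup.closure {z | ∃ c, m.σ c = c ∧ c * s = s * c ∧ z = c * u * c⁻¹}

end Cfsg.Agent.H864.TD
end

-- part: H566/TD/Phi
section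
prune_inst 0x50004500452202000018001022000420200000920040040074e1094201cf7662a50228014900080348340c502034000811540000423000000a0004004003010000825002a308010446008e803082000000000000000000000000000000041000000000000
set_option linter.all false
open scoped Cfsg.Agent.FastGrp

-- part: H566/TD/Comb
section
/-!
# S3509, row `³D₄(q)`, box T4a: the closed subsets of the positive roots of `D₄` stable under `w τ` (helper566)

* `exists_L75` : a closed set of positive roots is one of 75 sets;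
* `concl` : those stable under a matrix of `Tab`, other than the whole set.
-/

set_option autoImplicit false

namespace Cfsg.Agent.H566.TD

open Cfsg.Agent.H378.OmD4

/-- the `i`-th positive root -/
def posI (i : ℕ) : V := pos.getD i ⟨0, 0, 0, 0⟩

/-- the sums of positive roots -/
def trip : List (ℕ × ℕ × ℕ) := [(0, 1, 4), (0, 5, 7), (0, 6, 8), (0, 9, 10), (1, 2, 5), (1, 3, 6), (1, 10, 11), (2, 4, 7), (2, 6, 9), (2, 8,
  10), (3, 4, 8), (3, 5, 9), (3, 7, 10), (4, 9, 11), (5, 8, 11), (6, 7, 11)]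

theorem trip_spec : ∀ t ∈ trip, t.1 < 12 ∧ t.2.1 < 12 ∧ t.2.2 < 12 ∧ (posI t.1).add (posI t.2.1) = posI t.2.2 := by
  decide +kernel

def clB (m : ℕ) : Bool := trip.all fun t =>
  !(m.testBit t.1 && m.testBit t.2.1 && !m.testBit t.2.2) && !(m.testBit t.1 && m.testBit t.2.2 && !m.testBit t.2.1) &&
    !(m.testBit t.2.1 && m.testBit t.2.2 && !m.testBit t.1)

def L75 : List ℕ := [0, 1, 2, 4, 5, 8, 9, 12, 13, 16, 19, 32, 38, 48, 64, 74, 80, 96, 112, 128, 130, 148, 161, 183, 256, 258, 280,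
  321, 347, 384, 386, 512, 514, 552, 580, 622, 640, 642, 768, 770, 896, 898, 1024, 1040, 1056, 1072, 1088, 1104,
  1120, 1136, 1160, 1284, 1436, 1537, 1705, 1861, 2048, 2049, 2052, 2053, 2056, 2057, 2060, 2061, 2240, 2336,
  2529, 2576, 2772, 2872, 3074, 3274, 3366, 3603, 4095]

theorem clB_L75 : ((List.range 4096).all fun m => !clB m || L75.elem m) = true := by decide +kernel

/-- the set of positive roots with number `m` -/
def sub (m : ℕ) : List V := ((List.range 12).filter fun i => m.testBit i).map posI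

theorem mem_sub {m : ℕ} {v : V} : v ∈ sub m ↔ ∃ i < 12, m.testBit i = true ∧ posI i = v := by
  rw [sub, List.mem_map]
  constructor
  · rintro ⟨i, hi, rfl⟩
    rw [List.mem_filter, List.mem_range] at hi
    exact ⟨i, hi.1, hi.2, rfl⟩
  · rintro ⟨i, hi, h, rfl⟩
    exact ⟨i, List.mem_filter.2 ⟨List.mem_range.2 hi, h⟩, rfl⟩

theorem posI_mem : ∀ i < 12, posI i ∈ pos := by decide +kernel

theorem exists_posI : ∀ v ∈ pos, ∃ i < 12, posI i = v := by decide +kernel

theorem sub_subset {m : ℕ} {v : V} (h : v ∈ sub m) : v ∈ pos := by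
  obtain ⟨i, hi, -, rfl⟩ := mem_sub.1 h
  exact posI_mem i hi

theorem sub_full : ∀ v ∈ pos, v ∈ sub 4095 := by decide +kernel

/-- **closed sets of positive roots** -/
theorem exists_L75 {P : V → Prop}
    (h1 : ∀ u ∈ pos, ∀ v ∈ pos, u.add v ∈ pos → P u → P v → P (u.add v))
    (h2 : ∀ u ∈ pos, ∀ v ∈ pos, u.add v ∈ pos → P u → P (u.add v) → P v)
    (h3 : ∀ u ∈ pos, ∀ v ∈ pos, u.add v ∈ pos → P v → P (u.add v) → P u) :
    ∃ m ∈ L75, ∀ v ∈ pos, P v ↔ v ∈ sub m := by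
  classical
  set m := Nat.ofBits (fun i : Fin 12 => decide (P (posI i))) with hm
  have hb : ∀ i < 12, m.testBit i = decide (P (posI i)) := fun i hi => by
    rw [hm, Nat.testBit_ofBits_lt _ i hi]
  have hlt : m < 4096 := Nat.ofBits_lt_two_pow _
  have hcl : clB m = true := by
    rw [clB, List.all_eq_true]
    intro t ht
    obtain ⟨ha, hb', hc, he⟩ := trip_spec t ht
    rw [hb _ ha, hb _ hb', hb _ hc]
    have k1 := h1 _ (posI_mem _ ha) _ (posI_mem _ hb') (he ▸ posI_mem _ hc)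
    have k2 := h2 _ (posI_mem _ ha) _ (posI_mem _ hb') (he ▸ posI_mem _ hc)
    have k3 := h3 _ (posI_mem _ ha) _ (posI_mem _ hb') (he ▸ posI_mem _ hc)
    rw [he] at k1 k2 k3
    by_cases p1 : P (posI t.1) <;> by_cases p2 : P (posI t.2.1) <;> by_cases p3 : P (posI t.2.2) <;>
      simp [p1, p2, p3] <;> first
        | exact p3 (k1 p1 p2)
        | exact p2 (k2 p1 p3)
        | exact p1 (k3 p2 p3)
  have h4 := List.all_eq_true.1 clB_L75 m (List.mem_range.2 hlt)
  rw [hcl] at h4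
  have h5 : m ∈ L75 := by simpa using h4
  refine ⟨m, h5, fun v hv => ?_⟩
  rw [mem_sub]
  constructor
  · intro hP
    obtain ⟨i, hi, rfl⟩ := exists_posI v hv
    exact ⟨i, hi, by rw [hb i hi, decide_eq_true_iff]; exact hP, rfl⟩
  · rintro ⟨i, hi, h, rfl⟩
    rwa [hb i hi, decide_eq_true_iff] at h

/-- the roots -/
def rts : List V := pos ++ pos.map fun v => v.sm (-1)

/-- strongly orthogonal -/
def so (u v : V) : Prop := u.add v ∉ rts ∧ u.add (v.sm (-1)) ∉ rts ∧ u ≠ v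

instance (u v : V) : Decidable (so u v) := inferInstanceAs (Decidable (_ ∧ _))

/-- the Cartan form -/
def bf (u v : V) : ℤ := 2 * (u.a * v.a + u.b * v.b + u.c * v.c + u.d * v.d) - (u.a * v.b + u.b * v.a) -
  (u.b * v.c + u.c * v.b) - (u.b * v.d + u.d * v.b)

/-- the span condition -/
def sp (F : Mx) (b : V) : Prop := ∀ j : Fin 4,
  (F.ap (F.ap (bas j))).add ((bas j).sm (-1)) =
    ((b.sm (bf ((F.ap (F.ap (bas j))).add ((bas j).sm (-1))) b / 2)).add
      ((F.ap b).sm (bf ((F.ap (F.ap (bas j))).add ((bas j).sm (-1))) (F.ap b) / 2))).add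
      ((F.ap (F.ap b)).sm (bf ((F.ap (F.ap (bas j))).add ((bas j).sm (-1))) (F.ap (F.ap b)) / 2))

instance (F : Mx) (b : V) : Decidable (sp F b) := inferInstanceAs (Decidable (∀ j : Fin 4, _))

/-- the conclusion -/
def Co (F : Mx) (S : List V) : Prop :=
  S = [] ∨
  (∃ b ∈ S, F.ap b = b ∧ ∀ v ∈ S, v = b) ∨
  (∃ b ∈ S, F.ap b ∈ S ∧ F.ap (F.ap b) ∈ S ∧ F.ap (F.ap (F.ap b)) = b ∧ so b (F.ap b) ∧
    so (F.ap b) (F.ap (F.ap b)) ∧ so b (F.ap (F.ap b)) ∧ sp F b ∧
    ((∀ v ∈ S, v = b ∨ v = F.ap b ∨ v = F.ap (F.ap b)) ∨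
      ∃ c ∈ S, F.ap c = c ∧ so b c ∧ so (F.ap b) c ∧ so (F.ap (F.ap b)) c ∧
        ∀ v ∈ S, v = c ∨ v = b ∨ v = F.ap b ∨ v = F.ap (F.ap b))) ∨
  ∃ a ∈ S, ∃ b ∈ S, a.add b ∈ S ∧ ((F.ap a = a ∧ F.ap b = b) ∨ (F.ap a = b ∧ F.ap b = a)) ∧
    ∀ v ∈ S, v = a ∨ v = b ∨ v = a.add b

instance (F : Mx) (S : List V) : Decidable (Co F S) := inferInstanceAs (Decidable (_ ∨ _))

private noncomputable def _root_.Cfsg.Agent.LsF.f01ff31_1 : {f // @Cfsg.Agent.H566.TD.posI = f} := ⟨_, by first | (delta Cfsg.Agent.H566.TD.posI; rewrite [Cfsg.Agent.LsF.getD_eq]; exact rfl) | exact rfl⟩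
private noncomputable def _root_.Cfsg.Agent.LsF.f01ff31_2 : {f // @Cfsg.Agent.H566.TD.sub = f} := ⟨_, by first | (delta Cfsg.Agent.H566.TD.sub; rewrite [Cfsg.Agent.LsF.f01ff31_1.2, Cfsg.Agent.LsF.testBit_eq, Cfsg.Agent.LsF.map_eq, Cfsg.Agent.LsF.filter_eq, Cfsg.Agent.LsF.range_eq]; exact rfl) | exact rfl⟩
private noncomputable def _root_.Cfsg.Agent.LsF.f01ff31_3 : {f // @Cfsg.Agent.H378.OmD4.Mx.ap = f} := ⟨_, by first | (delta Cfsg.Agent.H378.OmD4.Mx.ap; rewrite [Cfsg.Agent.LsF.iadd_pat, Cfsg.Agent.LsF.imul_pat]; exact rfl) | exact rfl⟩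
private noncomputable def _root_.Cfsg.Agent.LsF.f01ff31_4 : {f // @Cfsg.Agent.H378.OmD4.V.sm = f} := ⟨_, by first | (delta Cfsg.Agent.H378.OmD4.V.sm; rewrite [Cfsg.Agent.LsF.imul_pat]; exact rfl) | exact rfl⟩
private noncomputable def _root_.Cfsg.Agent.LsF.f01ff31_5 : {f // @Cfsg.Agent.H566.TD.rts = f} := ⟨_, by first | (delta Cfsg.Agent.H566.TD.rts; rewrite [Cfsg.Agent.LsF.f01ff31_4.2, Cfsg.Agent.LsF.ineg_pat, Cfsg.Agent.LsF.lappend_pat, Cfsg.Agent.LsF.map_eq]; exact rfl) | exact rfl⟩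
private noncomputable def _root_.Cfsg.Agent.LsF.f01ff31_6 : {f // @Cfsg.Agent.H378.OmD4.V.add = f} := ⟨_, by first | (delta Cfsg.Agent.H378.OmD4.V.add; rewrite [Cfsg.Agent.LsF.iadd_pat]; exact rfl) | exact rfl⟩
private noncomputable def _root_.Cfsg.Agent.LsF.f01ff31_7 : {f // @Cfsg.Agent.H378.OmD4.bas = f} := ⟨_, by first | (delta Cfsg.Agent.H378.OmD4.bas; (try delta Cfsg.Agent.H378.OmD4.refl.match_1); (try delta Fin.casesOn Nat.casesOn Nat.le.casesOn); exact rfl) | exact rfl⟩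
private noncomputable def _root_.Cfsg.Agent.LsF.f01ff31_8 : {f // @Cfsg.Agent.H566.TD.bf = f} := ⟨_, by first | (delta Cfsg.Agent.H566.TD.bf; rewrite [Cfsg.Agent.LsF.iadd_pat, Cfsg.Agent.LsF.imul_pat, Cfsg.Agent.LsF.isub_pat]; exact rfl) | exact rfl⟩
theorem concl : ∀ e ∈ Tab, ∀ m ∈ L75, (∀ v ∈ sub m, e.1.ap v ∈ sub m) → m = 4095 ∨ Co e.1 (sub m) := by
  (refine of_decide_eq_true ?_; (try (delta Cfsg.Agent.H566.TD.Co Cfsg.Agent.H566.TD.instDecidableCo Cfsg.Agent.H566.TD.instDecidableCo._aux_1 Cfsg.Agent.H566.TD.instDecidableSo Cfsg.Agent.H566.TD.instDecidableSo._aux_1 Cfsg.Agent.H566.TD.instDecidableSp Cfsg.Agent.H566.TD.instDecidableSp._aux_1 Cfsg.Agent.H566.TD.so Cfsg.Agent.H566.TD.sp; rewrite [Cfsg.Agent.LsF.dMemE_pat, Cfsg.Agent.LsF.f01ff31_2.2, Cfsg.Agent.LsF.f01ff31_3.2, Cfsg.Agent.LsF.f01ff31_5.2, Cfsg.Agent.LsF.f01ff31_6.2, Cfsg.Agent.LsF.f01ff31_4.2, Cfsg.Agent.LsF.f01ff31_7.2, Cfsg.Agent.LsF.f01ff31_8.2, Cfsg.Agent.LsF.ineg_pat,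 Cfsg.Agent.LsF.instDecEq_eq, Cfsg.Agent.LsF.dAnd_eq, Cfsg.Agent.LsF.dOr_eq, Cfsg.Agent.LsF.dNot_eq, Cfsg.Agent.LsF.dBAll_eq, Cfsg.Agent.LsF.dBEx_eq, Cfsg.Agent.LsF.dForallFin_eq, Cfsg.Agent.LsF.dAllP_eq, Cfsg.Agent.LsF.decide_eq])); decide +kernel)

end Cfsg.Agent.H566.TD
end

-- part: H566/TD/Phi
section
/-!
# S3509, row `³D₄(q)`, box T4a: the root system of the centralizer of a semisimple element (helper566)

* `phi_cases` : `Φ = Sx t`, `θ` the action of the frame automorphism: `Φ` is empty, `A₁`, `3 A₁`, `4 A₁` or `A₂`.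
-/

set_option autoImplicit false
set_option linter.unusedSectionVars false
open Cfsg

namespace Cfsg.Agent.H566.TD

open CoxeterSystem Cfsg.Lie Cfsg.Lie.ChevalleyDatum Cfsg.Agent.H873.RG Cfsg.Agent.H316.U6
open Cfsg.Agent.ChevalleyStructure Cfsg.Agent.ChevalleyStructure.CoxeterGeom
  Cfsg.Agent.ChevalleyStructure.CoxeterGeomTypes Cfsg.Agent.Nodes Cfsg.Agent.Nodes.RGDChev
  Cfsg.Agent.KFacts.RgdField Cfsg.Agent.KFacts.RgdChevCoord
open Cfsg.Agent.Tits.Roots
open Cfsg.Agent.BpExc Cfsg.Agent.BpExc.TorCent Cfsg.Agent.BpExc.Pair Cfsg.Agent.BpExc.LangFr Cfsg.Agent.H469.Exc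
open Cfsg.Agent.H169.RG Cfsg.Agent.H694.RG Cfsg.Agent.H864.TD Cfsg.Agent.H106.RC Cfsg.Agent.H268.RX
open Cfsg.Agent.H720.TwFr (permE rho4)
open Cfsg.Agent.H378.OmD4

/-- strongly orthogonal roots -/
def SOrth (a b : Fin 4 → ℤ) : Prop :=
  ¬ IsRoot coxeterD4.toCoxeterSystem RGDTwD4.hp.isCartan (a + b) ∧
    ¬ IsRoot coxeterD4.toCoxeterSystem RGDTwD4.hp.isCartan (a - b) ∧ a ≠ b

/-! ### roots and vectors -/

theorem tabR1 : ∀ r : Fin 24, ∃ v ∈ rts, ∀ i, vec chevD4 4 r.val i = v.fn i := by decide +kernel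

theorem tabR2 : ∀ v ∈ rts, ∃ r : Fin 24, ∀ i, vec chevD4 4 r.val i = v.fn i := by decide +kernel

theorem tabP1 : ∀ v ∈ rts, v ∉ pos → v.a < 0 ∨ v.b < 0 ∨ v.c < 0 ∨ v.d < 0 := by decide +kernel

theorem tabP2 : ∀ v ∈ pos, 0 ≤ v.a ∧ 0 ≤ v.b ∧ 0 ≤ v.c ∧ 0 ≤ v.d := by decide +kernel

theorem pos_rts : ∀ v ∈ pos, v ∈ rts := fun _ hv => List.mem_append_left _ hv

theorem isRoot_fn {W : Type*} [Group W] (cs : CoxeterSystem coxeterD4 W) {v : V} :
    IsRoot cs RGDTwD4.hp.isCartan v.fn ↔ v ∈ rts := by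
  rw [isRoot_iff RGDTwD4.hp cs]
  constructor
  · rintro ⟨r, hr, h⟩
    obtain ⟨u, hu, h1⟩ := tabR1 ⟨r, hr⟩
    have h2 : u.fn = v.fn := by rw [← h]; exact (funext h1).symm
    rwa [fn_inj h2] at hu
  · intro hv
    obtain ⟨r, hr⟩ := tabR2 v hv
    exact ⟨r.val, r.2, funext hr⟩

theorem nonneg_fn {v : V} (hv : v ∈ pos) : 0 ≤ v.fn := by
  obtain ⟨h1, h2, h3, h4⟩ := tabP2 v hv
  intro i
  fin_cases i
  · exact h1
  · exact h2
  · exact h3
  · exact h4

theorem mem_pos_of {v : V} (hv : v ∈ rts) (h0 : 0 ≤ v.fn) : v ∈ pos := by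
  by_contra h
  rcases tabP1 v hv h with h1 | h1 | h1 | h1
  · exact absurd (h0 0) (not_le.2 h1)
  · exact absurd (h0 1) (not_le.2 h1)
  · exact absurd (h0 2) (not_le.2 h1)
  · exact absurd (h0 3) (not_le.2 h1)

theorem fn_neg (v : V) : (v.sm (-1)).fn = -v.fn := by rw [fn_sm, neg_one_smul]

theorem so_fn {u v : V} (h : so u v) : SOrth u.fn v.fn := by
  refine ⟨?_, ?_, fun e => h.2.2 (fn_inj e)⟩
  · rw [← fn_add, isRoot_fn]
    exact h.1
  · rw [sub_eq_add_neg, ← fn_neg, ← fn_add, isRoot_fn]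
    exact h.2.1

theorem perm_tri (x : Fin 4 → ℤ) : permE rho4 x = H129.TriD4.tri x := by
  funext i
  fin_cases i <;> rfl

/-- the span condition -/
theorem sp_fn {F : Mx} {b : V} (h : sp F b) (v : V) : ∃ c₀ c₁ c₂ : ℤ,
    (F.ap (F.ap v)).fn - v.fn = c₀ • b.fn + c₁ • (F.ap b).fn + c₂ • (F.ap (F.ap b)).fn := by
  have key : ∀ j : Fin 4, ∃ c₀ c₁ c₂ : ℤ, (F.ap (F.ap (bas j))).fn - (bas j).fn =
      c₀ • b.fn + c₁ • (F.ap b).fn + c₂ • (F.ap (F.ap b)).fn := by
    intro j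
    have h1 := congrArg V.fn (h j)
    rw [fn_add, fn_add, fn_add, fn_neg, fn_sm, fn_sm, fn_sm, ← sub_eq_add_neg] at h1
    exact ⟨_, _, _, h1⟩
  have e0 : v = (((bas 0).sm v.a).add ((bas 1).sm v.b)).add (((bas 2).sm v.c).add ((bas 3).sm v.d)) := by
    ext <;> simp only [bas, V.sm, V.add, _root_.mul_one, _root_.MulZeroClass.mul_zero, _root_.add_zero, _root_.zero_add]
  have hap : ∀ u w : V, F.ap (u.add w) = (F.ap u).add (F.ap w) := by
    intro u w
    ext <;> simp only [Mx.ap, V.add] <;> ring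
  have hsm : ∀ (n : ℤ) (u : V), F.ap (u.sm n) = (F.ap u).sm n := by
    intro n u
    ext <;> simp only [Mx.ap, V.sm] <;> ring
  obtain ⟨p0, p1, p2, hp⟩ := key 0
  obtain ⟨q0, q1, q2, hq⟩ := key 1
  obtain ⟨r0, r1, r2, hr⟩ := key 2
  obtain ⟨s0, s1, s2, hs⟩ := key 3
  refine ⟨v.a * p0 + v.b * q0 + v.c * r0 + v.d * s0, v.a * p1 + v.b * q1 + v.c * r1 + v.d * s1,
    v.a * p2 + v.b * q2 + v.c * r2 + v.d * s2, ?_⟩
  have e1 : (F.ap (F.ap v)).fn - v.fn = v.a • ((F.ap (F.ap (bas 0))).fn - (bas 0).fn) +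
      v.b • ((F.ap (F.ap (bas 1))).fn - (bas 1).fn) + v.c • ((F.ap (F.ap (bas 2))).fn - (bas 2).fn) +
      v.d • ((F.ap (F.ap (bas 3))).fn - (bas 3).fn) := by
    conv_lhs => rw [e0]
    simp only [hap, hsm, fn_add, fn_sm]
    module
  rw [e1, hp, hq, hr, hs]
  module

section

variable {r q : ℕ} [hr : Fact r.Prime] {K₀ : Type} [Group K₀] [Finite K₀] (m : MData RGDTwD4.hp r q K₀)
  (hg : m.g = permE rho4) (hdd : m.dd = 1)

include hg hdd

/-- **BOX T4a.** -/
theorem phi_cases {s : Y4 r} (hs1 : s ≠ 1) (f : TorForm m s) {Φ : Set (Fin 4 → ℤ)}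
    (hΦ : Φ = Sx coxeterD4.toCoxeterSystem RGDTwD4.hp.isCartan (ch RGDTwD4.hp) f.t) :
    Φ = ∅ ∨
    (∃ b, 0 ≤ b ∧ f.θ b = b ∧ ∀ x, x ∈ Φ ↔ x = b ∨ x = -b) ∨
    (∃ b, 0 ≤ b ∧ f.θ (f.θ (f.θ b)) = b ∧ SOrth b (f.θ b) ∧ SOrth (f.θ b) (f.θ (f.θ b)) ∧ SOrth b (f.θ (f.θ b)) ∧
      (∀ v, ∃ c₀ c₁ c₂ : ℤ, f.θ (f.θ v) - v = c₀ • b + c₁ • f.θ b + c₂ • f.θ (f.θ b)) ∧
      ((∀ x, x ∈ Φ ↔ x = b ∨ x = f.θ b ∨ x = f.θ (f.θ b) ∨ x = -b ∨ x = -f.θ b ∨ x = -f.θ (f.θ b)) ∨
        ∃ c, 0 ≤ c ∧ f.θ c = c ∧ SOrth b c ∧ SOrth (f.θ b) c ∧ SOrth (f.θ (f.θ b)) c ∧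
          ∀ x, x ∈ Φ ↔ x = c ∨ x = -c ∨ x = b ∨ x = f.θ b ∨ x = f.θ (f.θ b) ∨ x = -b ∨ x = -f.θ b ∨
            x = -f.θ (f.θ b))) ∨
    (∃ a b, 0 ≤ a ∧ 0 ≤ b ∧ IsRoot coxeterD4.toCoxeterSystem RGDTwD4.hp.isCartan (a + b) ∧
      ((f.θ a = a ∧ f.θ b = b) ∨ (f.θ a = b ∧ f.θ b = a)) ∧
      ∀ x, x ∈ Φ ↔ x = a ∨ x = b ∨ x = a + b ∨ x = -a ∨ x = -b ∨ x = -(a + b)) := by
  have hC := H129.TorusChar.isMC_cX RGDTwD4.hp f.mem
  have hS : ∀ a, a ∈ Φ ↔ IsRoot coxeterD4.toCoxeterSystem RGDTwD4.hp.isCartan a ∧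
      H129.TorusChar.cX RGDTwD4.hp f.t a = 1 := by
    intro a
    rw [hΦ]
    constructor
    · rintro ⟨h1, h2⟩
      exact ⟨h1, by rw [H129.TorusChar.cX_root RGDTwD4.hp _ f.mem h1]; exact h2⟩
    · rintro ⟨h1, h2⟩
      exact ⟨h1, by rw [← H129.TorusChar.cX_root RGDTwD4.hp _ f.mem h1]; exact h2⟩
  have hneg : ∀ a, -a ∈ Φ ↔ a ∈ Φ := by
    intro a
    rw [hS, hS, hC.neg, inv_eq_one]
    exact ⟨fun h => ⟨by simpa using h.1.neg, h.2⟩, fun h => ⟨h.1.neg, h.2⟩⟩
  obtain ⟨e, he, hM⟩ := exists_tab coxeterD4.toCoxeterSystem f.w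
  have hθ : ∀ v : V, f.θ v.fn = (e.1.ap v).fn := by
    intro v
    rw [f.hθ, hg, perm_tri]
    exact hM v
  have hst : ∀ v ∈ pos, v.fn ∈ Φ → e.1.ap v ∈ pos ∧ (e.1.ap v).fn ∈ Φ := by
    intro v hv h
    have h1 : f.θ v.fn ∈ Φ := by
      rw [hΦ] at h ⊢
      exact (f.stab _).2 h
    have h2 : 0 ≤ f.θ v.fn := f.pos _ (by rwa [hΦ] at h) (nonneg_fn hv)
    rw [hθ] at h1 h2
    exact ⟨mem_pos_of ((isRoot_fn _).1 ((hS _).1 h1).1) h2, h1⟩
  obtain ⟨n, hn, hP⟩ := exists_L75 (P := fun v => v.fn ∈ Φ) (fun u hu v hv huv h1 h2 => by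
      have h3 := ((hS _).1 h1).2
      have h4 := ((hS _).1 h2).2
      refine (hS _).2 ⟨(isRoot_fn _).2 (pos_rts _ huv), ?_⟩
      rw [fn_add, hC.add, h3, h4, one_mul])
    (fun u hu v hv huv h1 h2 => by
      have h3 := ((hS _).1 h1).2
      have h4 := ((hS _).1 h2).2
      refine (hS _).2 ⟨(isRoot_fn _).2 (pos_rts _ hv), ?_⟩
      rwa [fn_add, hC.add, h3, one_mul] at h4)
    (fun u hu v hv huv h1 h2 => by
      have h3 := ((hS _).1 h1).2
      have h4 := ((hS _).1 h2).2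
      refine (hS _).2 ⟨(isRoot_fn _).2 (pos_rts _ hu), ?_⟩
      rwa [fn_add, hC.add, h3, mul_one] at h4)
  set S := sub n with hSn
  have hsub : ∀ v ∈ S, v ∈ pos := fun v hv => sub_subset hv
  have hin : ∀ v ∈ S, v.fn ∈ Φ := fun v hv => (hP v (hsub v hv)).2 hv
  have hΦS : ∀ x, x ∈ Φ ↔ ∃ v ∈ S, x = v.fn ∨ x = -v.fn := by
    intro x
    constructor
    · intro hx
      have hr := ((hS x).1 hx).1
      rcases hr.pos_or_neg with h0 | h0
      · obtain ⟨v, hv, rfl⟩ := mem_pos coxeterD4.toCoxeterSystem hr h0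
        exact ⟨v, (hP v hv).1 hx, Or.inl rfl⟩
      · obtain ⟨v, hv, h1⟩ := mem_pos coxeterD4.toCoxeterSystem hr.neg (neg_nonneg.2 h0)
        refine ⟨v, (hP v hv).1 ?_, Or.inr ?_⟩
        · show v.fn ∈ Φ
          rw [h1, hneg]
          exact hx
        · rw [h1, neg_neg]
    · rintro ⟨v, hv, rfl | rfl⟩
      · exact hin v hv
      · rw [hneg]
        exact hin v hv
  rcases concl e he n hn (fun v hv => by
    obtain ⟨h1, h2⟩ := hst v (hsub v hv) (hin v hv)
    exact (hP _ h1).1 h2) with h | h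
  · -- all roots
    exfalso
    apply hs1
    have h1 : f.t = 1 := by
      refine H129.TorusChar.cX_inj RGDTwD4.hp f.mem (one_mem _) fun i => ?_
      rw [H129.TorusChar.cX_one, ← fn_bas]
      have h2 : bas i ∈ pos := by
        revert i
        decide +kernel
      refine ((hS _).1 (hin (bas i) ?_)).2
      rw [hSn, h]
      exact sub_full _ h2
    rw [f.eq, h1, mul_one, mul_inv_cancel]
  rcases h with h | ⟨b, hb, h1, h2⟩ | ⟨b, hb, hb1, hb2, h1, h2, h3, h4, h5, h6⟩ | ⟨a, ha, b, hb, h1, h2, h3⟩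
  · left
    rw [Set.eq_empty_iff_forall_notMem]
    intro x hx
    obtain ⟨v, hv, -⟩ := (hΦS x).1 hx
    rw [hSn, h] at hv
    exact absurd hv List.not_mem_nil
  · right; left
    refine ⟨b.fn, nonneg_fn (hsub b hb), by rw [hθ, h1], fun x => ?_⟩
    rw [hΦS]
    constructor
    · rintro ⟨v, hv, hx⟩
      rwa [h2 v hv] at hx
    · intro hx
      exact ⟨b, hb, hx⟩
  · right; right; left
    refine ⟨b.fn, nonneg_fn (hsub b hb), by rw [hθ, hθ, hθ, h1], ?_, ?_, ?_, ?_, ?_⟩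
    · rw [hθ]; exact so_fn h2
    · rw [hθ, hθ]; exact so_fn h3
    · rw [hθ, hθ]; exact so_fn h4
    · intro x
      obtain ⟨v, rfl⟩ := exists_fn x
      rw [hθ, hθ, hθ, hθ]
      exact sp_fn h5 v
    · rw [hθ, hθ]
      rcases h6 with h6 | ⟨c, hc, h7, h8, h9, h10, h11⟩
      · left
        intro x
        rw [hΦS]
        constructor
        · rintro ⟨v, hv, hx⟩
          rcases h6 v hv with rfl | rfl | rfl <;> (clear * - hx; tauto)
        · rintro (hx | hx | hx | hx | hx | hx)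
          · exact ⟨_, hb, Or.inl hx⟩
          · exact ⟨_, hb1, Or.inl hx⟩
          · exact ⟨_, hb2, Or.inl hx⟩
          · exact ⟨_, hb, Or.inr hx⟩
          · exact ⟨_, hb1, Or.inr hx⟩
          · exact ⟨_, hb2, Or.inr hx⟩
      · right
        refine ⟨c.fn, nonneg_fn (hsub c hc), by rw [hθ, h7], so_fn h8, so_fn h9, so_fn h10, fun x => ?_⟩
        rw [hΦS]
        constructor
        · rintro ⟨v, hv, hx⟩
          rcases h11 v hv with rfl | rfl | rfl | rfl <;> (clear * - hx; tauto)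
        · rintro (hx | hx | hx | hx | hx | hx | hx | hx)
          · exact ⟨_, hc, Or.inl hx⟩
          · exact ⟨_, hc, Or.inr hx⟩
          · exact ⟨_, hb, Or.inl hx⟩
          · exact ⟨_, hb1, Or.inl hx⟩
          · exact ⟨_, hb2, Or.inl hx⟩
          · exact ⟨_, hb, Or.inr hx⟩
          · exact ⟨_, hb1, Or.inr hx⟩
          · exact ⟨_, hb2, Or.inr hx⟩
  · right; right; right
    refine ⟨a.fn, b.fn, nonneg_fn (hsub a ha), nonneg_fn (hsub b hb), ?_, ?_, fun x => ?_⟩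
    · rw [← fn_add, isRoot_fn]
      exact pos_rts _ (hsub _ h1)
    · rw [hθ, hθ]
      rcases h2 with ⟨e1, e2⟩ | ⟨e1, e2⟩
      · exact Or.inl ⟨by rw [e1], by rw [e2]⟩
      · exact Or.inr ⟨by rw [e1], by rw [e2]⟩
    · rw [hΦS, ← fn_add]
      constructor
      · rintro ⟨v, hv, hx⟩
        rcases h3 v hv with rfl | rfl | rfl <;> (clear * - hx; tauto)
      · rintro (hx | hx | hx | hx | hx | hx)
        · exact ⟨_, ha, Or.inl hx⟩
        · exact ⟨_, hb, Or.inl hx⟩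
        · exact ⟨_, h1, Or.inl hx⟩
        · exact ⟨_, ha, Or.inr hx⟩
        · exact ⟨_, hb, Or.inr hx⟩
        · exact ⟨_, h1, Or.inr hx⟩

end

end Cfsg.Agent.H566.TD
end

private theorem dce_da55a3152739 : _root_.True := by
  try have : _root_.True := by simp only [_root_.Cfsg.Agent.H566.TD.clB.eq_1]
  try have : _root_.True := by simp only [_root_.Cfsg.Agent.H566.TD.sub.eq_1]
  exact _root_.True.intro
end

-- part: H169/RG/Useful
section
prune_inst 0x600044040122020000180002200024600200000200600c003561010004c657632507290159c01a1349302064203e8048114400400238000000008e00411901a084825042a308110446008f80f882000000000000000000000000000000041000000000000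
set_option linter.all false
open scoped Cfsg.Agent.FastGrp

-- part: H798/RG/LongWeak
section
/-!
# S3509, box F4: weak forms (helper798)

* `exists_y_weak`, `lrg_weak`, `lrg_weak_neg` : only `z⁻¹ σ(z) = n`, `Fr (conj n * σ) θ`, `θ β = β`, `β` long;
* `lrg_of` : the form with `IsRoot β` and `∃ w, β = w a₀`.
-/

set_option autoImplicit false
set_option linter.unusedSectionVars false
set_option maxHeartbeats 400000

namespace Cfsg.Agent.H798.RG

open CoxeterSystem Subgroup Cfsg Cfsg.Lie Cfsg.Lie.ChevalleyDatum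
open Cfsg.Agent.ChevalleyStructure Cfsg.Agent.ChevalleyStructure.Elts Cfsg.Agent.ChevalleyStructure.CoxeterGeom
  Cfsg.Agent.ChevalleyStructure.CoxeterGeomTypes Cfsg.Agent.ChevalleyStructure.NPerm
open Cfsg.Agent.Tits.Roots Cfsg.Agent.Tits.Core
open Cfsg.Agent.Nodes Cfsg.Agent.Nodes.Reps Cfsg.Agent.Nodes.BNOf
  Cfsg.Agent.Nodes.RGDChev Cfsg.Agent.Nodes.Bruhat Cfsg.Agent.Nodes.StabComb Cfsg.Agent.Nodes.LeviDec
open Cfsg.Agent.KFacts.RgdField Cfsg.Agent.KFacts.RgdChevCoord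
open Cfsg.Agent.BpExc Cfsg.Agent.BpExc.TorCent Cfsg.Agent.BpExc.TorChev Cfsg.Agent.BpExc.Tow
open Cfsg.Agent.BpExc.TowChev Cfsg.Agent.BpExc.Fr Cfsg.Agent.BpExc.LangFr
open Cfsg.Agent.H469.Exc Cfsg.Agent.H316.U6 Cfsg.Agent.H169.RG

universe u v

section Gen

variable {D : ChevalleyDatum} {l : ℕ} {M : CoxeterMatrix (Fin l)} (hp : IsType D l M)
  {W : Type v} [Group W] [Finite W] (cs : CoxeterSystem M W) {k : Type u} [Field k] [IsAlgClosed k] (hk : LocFin k)
  {r : ℕ} [Fact r.Prime] [CharP k r]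

include hk in
/-- an inner frame automorphism is given by an element over `W` -/
theorem exists_rp_of_fr {σ : MulAut ↥(D.group k)} {g θ : (Fin l → ℤ) ≃+ (Fin l → ℤ)}
    (F : Fr cs hp.isCartan (TT D k) (XX D l k) σ g) {n : ↥(D.group k)}
    (F' : Fr cs hp.isCartan (TT D k) (XX D l k) (MulAut.conj n * σ) θ) :
    ∃ w : W, Rp cs (nsysTT hp cs hk r) w n ∧ ∀ v, θ v = rep cs hp.isCartan w (g v) := by
  have H := tow (k := k) hp cs hk r
  have hTL := TL_eq (k := k) hp hk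
  have hXL := XL_eq (k := k) hp hk
  have hG := GG_eq_top (k := k) hp cs hk
  have hsep : ∀ a, IsRoot cs hp.isCartan a → ∃ s ∈ TL (Tj hp (k := k)), ∀ u ∈ XL (Xj hp (k := k)) a,
      u * s = s * u → u = 1 := by
    rw [hTL, hXL]
    exact fun a ha => BpExc.NChev.sep hp cs hk r ha
  have Fn := F'.mul F.inv
  have e1 : MulAut.conj n * σ * σ⁻¹ = MulAut.conj n := by group
  rw [e1] at Fn
  obtain ⟨w, hw⟩ := BpExc.NChev.rp_of_normalizer H hG hsep (y := n) (fun x => by
    rw [hTL]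
    exact Fn.tor x)
  have hw' : Rp cs (nsysTT hp cs hk r) w n := by
    have key : ∀ (T : Subgroup ↥(D.group k)) (h1 : NSys M T (nc hp k)) (h2 : T = TT D k), Rp cs h1 w n →
        Rp cs (nsysTT hp cs hk r) w n := by
      intro T h1 h2 h3
      subst h2
      exact h3
    exact key _ _ hTL hw
  have Fw : Fr cs hp.isCartan (TT D k) (XX D l k) (MulAut.conj n) (repAut cs hp.isCartan w) := by
    have h1 := Fr.conj H hw
    rwa [hTL, hXL] at h1
  have hθ : θ = g.trans (repAut cs hp.isCartan w) := fr_unique hp cs hk r F' (Fw.mul F)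
  refine ⟨w, hw', fun v => ?_⟩
  rw [hθ]
  rfl

end Gen

section Form

variable {D : ChevalleyDatum} {l : ℕ} {M : CoxeterMatrix (Fin l)} {hp : IsType D l M} {r q : ℕ} [hr : Fact r.Prime]
  {K₀ : Type v} [Group K₀] (m : MData hp r q K₀)

/-- **The conjugating element, weak form.** -/
theorem exists_y_weak {z n : ↥(D.group (KK r))} (hn : z⁻¹ * m.σ z = n) {θ : (Fin l → ℤ) ≃+ (Fin l → ℤ)}
    (F : Fr M.toCoxeterSystem hp.isCartan (TT D (KK r)) (XX D l (KK r)) (MulAut.conj n * m.σ) θ) {β : Fin l → ℤ}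
    (hβ : ∃ w : M.Group, β = rep M.toCoxeterSystem hp.isCartan w (vec D l (D.nroots - 1))) (hθ : θ β = β) :
    ∃ y : ↥(D.group (KK r)), m.σ y = y ∧
      cjS y (T0 m) = cjS z (XX D l (KK r) β ⊓ fixedSubgroup (MulAut.conj n * m.σ)) ∧
      cjS y (T0' m) = cjS z (XX D l (KK r) (-β) ⊓ fixedSubgroup (MulAut.conj n * m.σ)) := by
  have := finite_W hp M.toCoxeterSystem
  obtain ⟨w', hβ⟩ := hβ
  obtain ⟨w, hw, hwθ⟩ := exists_rp_of_fr hp M.toCoxeterSystem (locFin r) m.fr F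
  obtain ⟨y, hy, h⟩ := exists_y_gen hp M.toCoxeterSystem (locFin r) m.he m.frob m.fr m.top hn hw (w' := w') (by
    rw [← hβ, ← hwθ]; exact hθ)
  have hconj : ∀ x, (MulAut.conj n * m.σ) (z⁻¹ * x * z) = z⁻¹ * m.σ x * z := by
    intro x
    rw [MulAut.mul_apply, MulAut.conj_apply, ← hn, map_mul, map_mul, map_inv]
    group
  have hfix : ∀ x, (m.σ (y⁻¹ * x * y) = y⁻¹ * x * y ↔
      (MulAut.conj n * m.σ) (z⁻¹ * x * z) = z⁻¹ * x * z) := by
    intro x
    rw [hconj, map_mul, map_mul, map_inv, hy]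
    exact ⟨fun h => by rw [mul_left_cancel (mul_right_cancel h)], fun h => by
      rw [mul_left_cancel (mul_right_cancel h)]⟩
  refine ⟨y, hy, ?_, ?_⟩
  · ext x
    rw [mem_cjS, mem_cjS, T0, Subgroup.mem_inf, Subgroup.mem_inf, h _ (Or.inl rfl), ← hβ]
    exact and_congr Iff.rfl (hfix x)
  · ext x
    rw [mem_cjS, mem_cjS, T0', Subgroup.mem_inf, Subgroup.mem_inf, h _ (Or.inr rfl), map_neg, ← hβ]
    exact and_congr Iff.rfl (hfix x)

/-- **F4, weak form.** -/
theorem lrg_weak {z n : ↥(D.group (KK r))} (hn : z⁻¹ * m.σ z = n) {θ : (Fin l → ℤ) ≃+ (Fin l → ℤ)}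
    (F : Fr M.toCoxeterSystem hp.isCartan (TT D (KK r)) (XX D l (KK r)) (MulAut.conj n * m.σ) θ) {β : Fin l → ℤ}
    (hβ : ∃ w : M.Group, β = rep M.toCoxeterSystem hp.isCartan w (vec D l (D.nroots - 1))) (hθ : θ β = β) :
    LRG m (cjS z (XX D l (KK r) β ⊓ fixedSubgroup (MulAut.conj n * m.σ))) := by
  obtain ⟨y, hy, h, -⟩ := exists_y_weak m hn F hβ hθ
  exact ⟨y, hy, h.symm⟩

end Form

end Cfsg.Agent.H798.RG
end

-- part: H169/RG/Useful
section
/-!
# S3509, box U: the useful elements (helper169)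

`h : ZForm m α θ t z` (helper441), `β` a `θ`-fixed long top of `Sx t`, `MZ = z ⟨X_β^α ^ K⟩ z⁻¹`.

* `core_useful` : `MZ ≤ m.ι.range`, `MZ ≠ m.ι.range`, `MZ` perfect, quasisimple with quotient not alternating, contains a long
  root element (inputs: `Cond`, not one of the exceptional alternating groups, some root is not in `Sx t`);
* `lr_weak` : the long root elements in the weak form;
* `usY_of` : `UsY` for a toral form.
-/

set_option autoImplicit false
set_option linter.unusedSectionVars false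

namespace Cfsg.Agent.H169.RG

open CoxeterSystem Cfsg Cfsg.Lie Cfsg.Lie.ChevalleyDatum
open Cfsg.Agent.ChevalleyStructure Cfsg.Agent.ChevalleyStructure.Elts Cfsg.Agent.ChevalleyStructure.CoxeterGeom
  Cfsg.Agent.ChevalleyStructure.CoxeterGeomTypes Cfsg.Agent.ChevalleyStructure.NPerm
open Cfsg.Agent.Tits.Roots Cfsg.Agent.Tits.Core Cfsg.Agent.Nodes Cfsg.Agent.Nodes.Reps Cfsg.Agent.Nodes.BNOf
  Cfsg.Agent.Nodes.RGDChev Cfsg.Agent.Nodes.Bruhat Cfsg.Agent.Nodes.NormalForm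
open Cfsg.Agent.KFacts.RgdField Cfsg.Agent.KFacts.RgdChevCoord
open Cfsg.Agent.BpExc Cfsg.Agent.BpExc.TorCent Cfsg.Agent.BpExc.TorChev Cfsg.Agent.BpExc.Tow
  Cfsg.Agent.BpExc.TowChev Cfsg.Agent.BpExc.Fr Cfsg.Agent.BpExc.Pair Cfsg.Agent.BpExc.LangFr Cfsg.Agent.GpExc.Field
  Cfsg.Agent.BpExc.NInst Cfsg.Agent.BpExc.NChev
open Cfsg.Agent.H469.Exc Cfsg.Agent.H316.U6 Cfsg.Agent.H28.RG
open Cfsg.Agent.H441.RG (Wk.DFr ZForm)
open Cfsg.Agent.H884.NA (ExcAlt)
open Cfsg.Agent.H398.RG (MK Cond Base)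
open Cfsg.Agent.H873.RG (NSA)
open Cfsg.Agent.H694.RG

universe u v

section Abs

variable {Y : Type} [Group Y]

/-- transport of the quotient by conjugation -/
theorem quot_conj {N : Subgroup Y} [Finite N] (z : Y) (h : NSA (↥N ⧸ Subgroup.center ↥N)) :
    ∃ (S' : Type) (_ : Group S') (_ : Finite S') (π : ↥(N.map (MulAut.conj z).toMonoidHom) →* S'),
      Function.Surjective π ∧ π.ker ≤ Subgroup.center _ ∧ NSA S' := by
  let e := N.equivMapOfInjective (MulAut.conj z).toMonoidHom (MulAut.conj z).injective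
  refine ⟨↥N ⧸ Subgroup.center ↥N, inferInstance, inferInstance,
    (QuotientGroup.mk' (Subgroup.center ↥N)).comp e.symm.toMonoidHom, ?_, ?_, h⟩
  · exact (QuotientGroup.mk'_surjective _).comp e.symm.surjective
  · intro x hx
    have h1 : e.symm x ∈ Subgroup.center ↥N := (QuotientGroup.eq_one_iff _).1 hx
    rw [Subgroup.mem_center_iff] at h1 ⊢
    intro y
    apply e.symm.injective
    rw [map_mul, map_mul]
    exact h1 _

theorem perf_conj {N : Subgroup Y} (z : Y) (h : ⁅N, N⁆ = N) :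
    ⁅N.map (MulAut.conj z).toMonoidHom, N.map (MulAut.conj z).toMonoidHom⁆ = N.map (MulAut.conj z).toMonoidHom := by
  rw [← Subgroup.map_commutator, h]

end Abs

section Core

variable {D : ChevalleyDatum} {l : ℕ} {M : CoxeterMatrix (Fin l)} {hp : IsType D l M} {r q : ℕ} [hr : Fact r.Prime]
  {K₀ : Type v} [Group K₀]

/-- the group `z ⟨X_β^α ^ K⟩ z⁻¹` -/
noncomputable def MZ (hp : IsType D l M) (α : MulAut ↥(D.group (KK r))) (t z : ↥(D.group (KK r))) (β : Fin l → ℤ) :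
    Subgroup ↥(D.group (KK r)) :=
  (MK (H441.RG.KT hp α t) (XX D l (KK r) β ⊓ fixedSubgroup α)).map (MulAut.conj z).toMonoidHom

variable {m : MData hp r q K₀} {α : MulAut ↥(D.group (KK r))} {θ : (Fin l → ℤ) ≃+ (Fin l → ℤ)}
  {t z : ↥(D.group (KK r))} {β : Fin l → ℤ}

/-- **The core of box U.** -/
theorem core_useful (h : ZForm m α θ t z) (Bβ : Top M.toCoxeterSystem hp.isCartan (ch hp) θ t β)
    (hlr : ∀ x ∈ XX D l (KK r) β, α x = x → x ≠ 1 → LR m (z * x * z⁻¹))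
    (hc : Cond (H441.RG.KT hp α t) (XX D l (KK r) β ⊓ fixedSubgroup α) (XX D l (KK r) (-β) ⊓ fixedSubgroup α))
    (hna : ∀ j, ExcAlt (r ^ m.e) j → ¬ Nonempty ((↥(MK (H441.RG.KT hp α t) (XX D l (KK r) β ⊓ fixedSubgroup α)) ⧸
      Subgroup.center ↥(MK (H441.RG.KT hp α t) (XX D l (KK r) β ⊓ fixedSubgroup α))) ≃* alternatingGroup (Fin j)))
    (ha : ∃ a, IsRoot M.toCoxeterSystem hp.isCartan a ∧ a ∉ Sx M.toCoxeterSystem hp.isCartan (ch hp) t) :
    MZ hp α t z β ≤ m.ι.range ∧ MZ hp α t z β ≠ m.ι.range ∧ ⁅MZ hp α t z β, MZ hp α t z β⁆ = MZ hp α t z β ∧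
      (∃ (S' : Type) (_ : Group S') (_ : Finite S') (π : ↥(MZ hp α t z β) →* S'),
        Function.Surjective π ∧ π.ker ≤ Subgroup.center _ ∧ NSA S') ∧ ∃ v ∈ MZ hp α t z β, LR m v := by
  have hfC := h.finite
  have hfin : Finite ↥(H441.RG.KT hp α t) := Finite.of_injective _ (Subgroup.inclusion_injective h.KT_le)
  have hB := baseF h.d Bβ
  obtain ⟨hXM, hYM, hMK, hKn, hperf, hs, hcm⟩ := hB.all hc
  have hNSA := nsa_M h.d Bβ hc hna
  have hfM : Finite ↥(MK (H441.RG.KT hp α t) (XX D l (KK r) β ⊓ fixedSubgroup α)) :=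
    Finite.of_injective _ (Subgroup.inclusion_injective hMK)
  refine ⟨?_, ?_, ?_, ?_, ?_⟩
  · exact h.le_range (fun k hk => (mem_fixC.1 (h.KT_le hk)).1) hB.leX hB.pgrp
  · obtain ⟨a, ha, hat⟩ := ha
    exact h.ne_range (hMK.trans h.KT_le) ha hat
  · exact perf_conj z hperf
  · exact quot_conj z hNSA
  · obtain ⟨⟨x, hx⟩, hx1⟩ := (Subgroup.ne_bot_iff_exists_ne_one).1 hB.ne
    exact ⟨z * x * z⁻¹, ⟨x, hXM hx, rfl⟩, hlr x hx.1 hx.2 fun h0 => hx1 (Subtype.ext h0)⟩

/-- the long root elements, weak form -/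
theorem lr_weak {n : ↥(D.group (KK r))} (hn : z⁻¹ * m.σ z = n)
    (F : Fr M.toCoxeterSystem hp.isCartan (TT D (KK r)) (XX D l (KK r)) (MulAut.conj n * m.σ) θ)
    (hβ : ∃ w : M.Group, β = rep M.toCoxeterSystem hp.isCartan w (vec D l (D.nroots - 1))) (hθ : θ β = β) :
    ∀ x ∈ XX D l (KK r) β, (MulAut.conj n * m.σ) x = x → x ≠ 1 → LR m (z * x * z⁻¹) := by
  intro x hx hα hx1
  refine ⟨fun h => hx1 ?_, _, H798.RG.lrg_weak m hn F hβ hθ, ?_⟩
  · have e : x = z⁻¹ * (z * x * z⁻¹) * z := by group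
    rw [e, h]
    group
  · rw [mem_cjS]
    have e : z⁻¹ * (z * x * z⁻¹) * z = x := by group
    rw [e]
    exact ⟨hx, hα⟩

/-- the weak form from the equation of Lang -/
theorem zform_weak {n : ↥(D.group (KK r))} (hn : z⁻¹ * m.σ z = n)
    (d : Wk.DFr hp M.toCoxeterSystem r m.e (MulAut.conj n * m.σ) θ t) : ZForm m (MulAut.conj n * m.σ) θ t z where
  d := d
  hz y := by
    have h1 : (MulAut.conj n * m.σ) y = z⁻¹ * m.σ (z * y * z⁻¹) * z := by
      rw [MulAut.mul_apply, MulAut.conj_apply, ← hn, map_mul, map_mul, map_inv]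
      group
    rw [h1]
    constructor
    · intro h
      rw [h]
      group
    · intro h
      calc m.σ (z * y * z⁻¹) = z * (z⁻¹ * m.σ (z * y * z⁻¹) * z) * z⁻¹ := by group
        _ = z * y * z⁻¹ := by rw [h]

/-- if every root is in `Sx t`, then `t = 1` -/
theorem exists_not_mem (ht : t ∈ TT D (KK r)) (ht1 : t ≠ 1) :
    ∃ a, IsRoot M.toCoxeterSystem hp.isCartan a ∧ a ∉ Sx M.toCoxeterSystem hp.isCartan (ch hp) t := by
  by_contra hcon
  push Not at hcon
  apply ht1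
  have C := coordsL hp M.toCoxeterSystem (locFin r) r
  have h1 : GG M.toCoxeterSystem hp.isCartan (TT D (KK r)) (XX D l (KK r)) ≤ Subgroup.centralizer {t} := by
    refine sup_le (fun y hy => ?_) (RGD.Sup_le fun a ha => X_le_centralizer C ht (hcon a ha))
    rw [Subgroup.mem_centralizer_singleton_iff]
    exact TT_comm hp y hy t ht
  rw [GG_top hp M.toCoxeterSystem] at h1
  have h2 : t ∈ Subgroup.center ↥(D.group (KK r)) := by
    rw [Subgroup.mem_center_iff]
    intro g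
    exact Subgroup.mem_centralizer_singleton_iff.1 (h1 (Subgroup.mem_top g))
  rw [Cfsg.Agent.S1077.center_group_eq_bot hp.inList] at h2
  exact Subgroup.mem_bot.1 h2

end Core

variable {D : ChevalleyDatum} {l : ℕ} {M : CoxeterMatrix (Fin l)} {r : ℕ} [hr : Fact r.Prime]

/-- the size condition of box U: `Q` the order of the field, `j` the number of decompositions -/
def SizeOK (Q j : ℕ) : Prop := (Q = 2 → 5 ≤ j) ∧ (Q = 3 ∨ Q = 4 ∨ Q = 5 ∨ Q = 9 → 1 ≤ j)

/-- the decompositions of `β` in `Sx t` -/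
def Gam (hp : IsType D l M) (t : ↥(D.group (KK r))) (β : Fin l → ℤ) : Set (Fin l → ℤ) :=
  {a | a ∈ Sx M.toCoxeterSystem hp.isCartan (ch hp) t ∧ IsRoot M.toCoxeterSystem hp.isCartan (β - a)}

section Tor

variable {D : ChevalleyDatum} {l : ℕ} {M : CoxeterMatrix (Fin l)} {hp : IsType D l M} {r q : ℕ} [hr : Fact r.Prime]
  {K₀ : Type} [Group K₀] {m : MData hp r q K₀} {β : Fin l → ℤ} {s : ↥(D.group (KK r))} (f : TorForm m s)

/-- **`UsY` for a toral form**, the inputs `Cond` and `ExcAlt` as hypotheses -/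
theorem usY_gen {U : ↥(D.group (KK r)) → Subgroup ↥(D.group (KK r))} (hF : Cfsg.Agent.H327.RG.Fr m.ι m.σ)
    (hY : YData m.ι (fixedSubgroup m.σ) r (LR m) U) (hs : (orderOf s).Coprime r) (hs1 : s ≠ 1)
    (Bβ : Top M.toCoxeterSystem hp.isCartan (ch hp) f.θ f.t β)
    (hlong : ∃ w : M.Group, β = rep M.toCoxeterSystem hp.isCartan w (vec D l (D.nroots - 1)))
    (hc : Cond (H441.RG.KT hp f.α f.t) (XX D l (KK r) β ⊓ fixedSubgroup f.α) (XX D l (KK r) (-β) ⊓ fixedSubgroup f.α))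
    (hna : ∀ j, ExcAlt (r ^ m.e) j → ¬ Nonempty ((↥(MK (H441.RG.KT hp f.α f.t) (XX D l (KK r) β ⊓ fixedSubgroup f.α)) ⧸
      Subgroup.center ↥(MK (H441.RG.KT hp f.α f.t) (XX D l (KK r) β ⊓ fixedSubgroup f.α))) ≃*
        alternatingGroup (Fin j))) :
    UsY m.ι (fixedSubgroup m.σ) r (MZ hp f.α f.t f.z β) s := by
  have hz := H441.RG.zform f
  have ht1 : f.t ≠ 1 := by
    intro h
    apply hs1
    rw [f.eq, h]
    group
  obtain ⟨h1, h2, h3, h4, v, hv, hvL⟩ := core_useful hz Bβ (lr_weak f.lang f.fr hlong Bβ.fix) hc hna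
    (exists_not_mem f.mem ht1)
  have := hz.finite
  have hMC : MK (H441.RG.KT hp f.α f.t) (XX D l (KK r) β ⊓ fixedSubgroup f.α) ≤ fixC f.α f.t :=
    (H398.RG.MK_le_self (baseF hz.d Bβ).leX).trans hz.KT_le
  exact ⟨h1, h2, h3, h4, (hY.dead hF hv hvL).at s, fun x hx => H441.RG.centT f hMC hx,
    fun c hc' hcs hco => H441.RG.norm_weakT f hs hc' hcs hco⟩

/-- all elements commuting with `s` normalise `MZ` -/
theorem norm_MZ [Finite M.Group] (Bβ : Top M.toCoxeterSystem hp.isCartan (ch hp) f.θ f.t β)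
    (hPP : ∀ w ∈ PP M.toCoxeterSystem hp.isCartan (ch hp) f.t, rep M.toCoxeterSystem hp.isCartan w β = β)
    {c : ↥(D.group (KK r))} (hc : c ∈ fixedSubgroup m.σ) (hcs : c * s = s * c) :
    c ∈ Subgroup.normalizer ((MZ hp f.α f.t f.z β : Subgroup ↥(D.group (KK r))) : Set ↥(D.group (KK r))) := by
  exact H441.RG.norm_strongT f Bβ.mem.1 hPP hc hcs

end Tor

end Cfsg.Agent.H169.RG
end
end
end
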